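import Groth.Agent.RelPCSch41.Flat
import Groth.Agent.TorStalk41.Pull
import Mathlib.AlgebraicGeometry.Morphisms.Flat

/-!
Flat relatively finitely presented terms give relative perfect amplitude.
-/

set_option autoImplicit false
set_option backward.isDefEq.respectTransparency.types false
set_option linter.style.haveILetI false
set_option linter.unusedSectionVars false
set_option maxHeartbeats 400000

noncomputable section

universe u

open CategoryTheory Limits AlgebraicGeometry TopologicalSpace Opposite
open Groth.Agent.DR39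
attribute [local instance] HasDerivedCategory.standard

namespace Groth.Agent.RelPCSch41

variable {X Y : Scheme.{u}} {f : X ⟶ Y}

theorem flat_of_ta_zero {A : Type u} [CommRing A] (M : ModuleCat.{u} A) (h : TA 0 0 (Dual.inD A M)) :
    Module.Flat A M := by
  obtain ⟨E, hv, hfl, ⟨e⟩⟩ := h
  haveI : IsIso (E.iCycles 0) := E.isIso_iCycles 0 1 (by simp) ((hv 1 (Or.inr (by omega))).eq_of_tgt _ _)
  haveI : IsIso (E.homologyπ 0) := E.isIso_homologyπ (-1) 0 (by simp) ((hv (-1) (Or.inl (by omega))).eq_of_src _ _)
  let i : E.X 0 ≅ M := (asIso (E.iCycles 0)).symm ≪≫ asIso (E.homologyπ 0) ≪≫ (HQIso E 0).symm ≪≫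
    (HF A 0).mapIso e ≪≫ inDH0 (A := A) M
  haveI : Module.Flat A (E.X 0) := hfl 0
  exact Module.Flat.of_linearEquiv i.toLinearEquiv.symm

theorem flat_stalkOver_iff (M : X.Modules) (x : X) :
    Module.Flat (Y.presheaf.stalk (f.base x)) ((DerSch.stalkOver f x).obj M) ↔ FlatMod.IsFlatOverAt f M x := by
  letI := FlatMod.moduleStalkOver f M x
  let e : ((DerSch.stalkOver f x).obj M : Type u) ≃ₗ[Y.presheaf.stalk (f.base x)] (M.presheaf.stalk x) :=
    { toFun := fun a => a
      invFun := fun a => a
      map_add' := fun _ _ => rfl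
      map_smul' := fun _ _ => rfl
      left_inv := fun _ => rfl
      right_inv := fun _ => rfl }
  constructor <;> intro h
  · haveI := h
    exact Module.Flat.of_linearEquiv e.symm
  · haveI : Module.Flat (Y.presheaf.stalk (f.base x)) (M.presheaf.stalk x) := h
    exact Module.Flat.of_linearEquiv e

theorem hasTorAmplitude_of_flat_terms (E : CochainComplex X.Modules ℤ) (a b : ℤ)
    (hab : DCoh.VanishesOutside E a b) (hfl : ∀ i : ℤ, FlatMod.IsFlatOver f (E.X i)) :
    DerSch.HasTorAmplitude f a b E := fun x =>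
  ⟨(DerSch.stalkCxOver f x).obj E, fun i hi => (DerSch.stalkOver f x).map_isZero (hab i hi),
    fun i => (flat_stalkOver_iff (E.X i) x).2 (hfl i x), ⟨Iso.refl _⟩⟩

theorem flat_of_hasTorAmplitude_zero (M : X.Modules)
    (h : DerSch.HasTorAmplitude f 0 0 ((HomologicalComplex.single _ (ComplexShape.up ℤ) 0).obj M)) :
    FlatMod.IsFlatOver f M := fun x => by
  refine (flat_stalkOver_iff M x).1 (flat_of_ta_zero _ (TA.of_iso (h x) ?_))
  exact (DerivedCategory.Q.mapIso
    ((HomologicalComplex.singleMapHomologicalComplex (DerSch.stalkOver f x) (ComplexShape.up ℤ) 0).app M)) ≪≫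
    ((DerivedCategory.singleFunctorIsoCompQ _ 0).app _).symm

theorem vanishesOutside_single (M : X.Modules) :
    DCoh.VanishesOutside ((HomologicalComplex.single X.Modules (ComplexShape.up ℤ) 0).obj M) 0 0 :=
  fun i hi => HomologicalComplex.isZero_single_obj_X _ 0 M i (by omega)

theorem flatOver_single (M : X.Modules) (hfl : FlatMod.IsFlatOver f M) (i : ℤ) :
    FlatMod.IsFlatOver f (((HomologicalComplex.single X.Modules (ComplexShape.up ℤ) 0).obj M).X i) := fun x => by
  rw [← flat_stalkOver_iff]
  by_cases hi : i = 0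
  · subst hi
    haveI := (flat_stalkOver_iff (f := f) M x).2 (hfl x)
    exact Module.Flat.of_linearEquiv
      ((DerSch.stalkOver f x).mapIso (HomologicalComplex.singleObjXSelf (ComplexShape.up ℤ) 0 M)).toLinearEquiv
  · haveI := ModuleCat.subsingleton_of_isZero
      ((DerSch.stalkOver f x).map_isZero (HomologicalComplex.isZero_single_obj_X (ComplexShape.up ℤ) 0 M i hi))
    infer_instance

theorem perfAmp_zero_iff [LocallyOfFiniteType f] (M : X.Modules) :
    DerSch.HasPerfAmplitudeRel f 0 0 ((HomologicalComplex.single _ (ComplexShape.up ℤ) 0).obj M) ↔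
      (FlatMod.IsFlatOver f M ∧ DerSch.IsPseudoCoherentRel f (-1)
        (DCoh.toD X ((HomologicalComplex.single _ (ComplexShape.up ℤ) 0).obj M))) := by
  constructor
  · rintro ⟨h, ht⟩
    exact ⟨flat_of_hasTorAmplitude_zero M ht, h (-1)⟩
  · rintro ⟨hfl, h⟩
    refine ⟨fun m => rel_congr (singleIso M).symm (relAll_of_flat M hfl (rel_congr (singleIso M) h) m), ?_⟩
    exact hasTorAmplitude_of_flat_terms _ 0 0 (vanishesOutside_single M) (flatOver_single M hfl)

theorem flatOver_unit_iff : FlatMod.IsFlatOver f (Coh.structureModule X) ↔ Flat f := by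
  rw [Flat.iff_flat_stalkMap]
  refine forall_congr' fun x => ?_
  letI := (f.stalkMap x).hom.toAlgebra
  let e : ((DerSch.stalkOver f x).obj (Coh.structureModule X) : Type u) ≃ₗ[Y.presheaf.stalk (f.base x)]
      X.presheaf.stalk x :=
    ((ModuleCat.restrictScalars (f.stalkMap x).hom).mapIso (TorStalk41.stalkUnitIso x)).toLinearEquiv
  rw [← flat_stalkOver_iff]
  exact ⟨fun h => haveI := h; Module.Flat.of_linearEquiv e.symm, fun h => haveI : Module.Flat _ (X.presheaf.stalk x) := h; Module.Flat.of_linearEquiv e⟩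

end Groth.Agent.RelPCSch41
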