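import Groth.Agent.RelPCSch41.PushD
import Groth.Agent.DCX42.Tri
import Mathlib.Algebra.Homology.DerivedCategory.SingleTriangle

/-!
Pseudo-coherence and direct image along a closed immersion with pseudo-coherent structure sheaf.
-/

set_option autoImplicit false
set_option backward.isDefEq.respectTransparency false
set_option linter.style.haveILetI false
set_option linter.unusedSectionVars false

noncomputable section

universe u

open CategoryTheory Limits AlgebraicGeometry TopologicalSpace DerivedCategory Pretriangulated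
open Groth.Agent.DCX42 Groth.Agent.Props58.HomO
attribute [local instance] HasDerivedCategory.standard

namespace Groth.Agent.RelPCSch41

variable {W Z : Scheme.{u}}

/-- The direct image of the structure sheaf is pseudo-coherent. -/
def HasPCPush (s : W ⟶ Z) [IsClosedImmersion s] : Prop :=
  ∀ k : ℤ, DCoh.IsPseudoCoherentD k ((pushD s).obj ((singleFunctor W.Modules 0).obj (Coh.structureModule W)))

/-- Pseudo-coherence of a finite coproduct of the structure sheaf after direct image. -/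
theorem HasPCPush.free {s : W ⟶ Z} [IsClosedImmersion s] (hs : HasPCPush s) (n : ℕ) (b k : ℤ) :
    DCoh.IsPseudoCoherentD k ((pushD s).obj ((singleFunctor W.Modules b).obj (FlatMod.freeMod W n))) := by
  suffices H : ∀ (n : ℕ) (k : ℤ),
      DCoh.IsPseudoCoherentD k ((pushD s).obj ((singleFunctor W.Modules 0).obj (FlatMod.freeMod W n))) by
    exact isPC_of_iso ((((pushD s).commShiftIso (-b)).app _).symm ≪≫ (pushD s).mapIso
      (((singleFunctors W.Modules).shiftIso (-b) b 0 (by omega)).app _))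
      (isPC_shift (H n (k - b)) (-b) (by omega))
  clear b k n
  intro n
  induction n with
  | zero =>
    intro k
    have hz : IsZero (FlatMod.freeMod W 0) :=
      (IsZero.iff_id_eq_zero _).2 (Sigma.hom_ext _ _ fun i => i.elim0)
    have hz' := (pushD s).map_isZero ((singleFunctor W.Modules 0).map_isZero hz)
    exact isPC_of_isLE ((DerivedCategory.isLE_iff _ _).2 fun i _ => (homologyFunctor _ i).map_isZero hz')
  | succ n ih =>
    intro k
    let G := singleFunctor W.Modules 0 ⋙ pushD s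
    have e1 : FlatMod.freeMod W 1 ≅ Coh.structureModule W :=
      { hom := Sigma.desc fun _ => 𝟙 _
        inv := Sigma.ι (fun _ : Fin 1 => Coh.structureModule W) 0
        hom_inv_id := Sigma.hom_ext _ _ fun i => by simp [Fin.fin_one_eq_zero i]
        inv_hom_id := by simp }
    have h1 : DCoh.IsPseudoCoherentD k (G.obj (FlatMod.freeMod W 1)) := isPC_of_iso (G.mapIso e1).symm (hs k)
    haveI : PreservesBinaryBiproducts G := preservesBinaryBiproducts_of_preservesBiproducts G
    refine isPC_of_iso ((G.mapBiprod _ _).symm ≪≫ G.mapIso (freeSum n 1)) ?_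
    exact isPC₂ _ (binaryBiproductTriangle_distinguished _ _) (ih k) h1

theorem HasPCPush.restrict {s : W ⟶ Z} [IsClosedImmersion s] (hs : HasPCPush s) (V : Z.Opens) :
    HasPCPush (s ∣_ V) := fun k =>
  isPC_of_iso ((pushDRestr s V).app _ ≪≫ (pushD (s ∣_ V)).mapIso
    (((Scheme.Modules.restrictFunctor (s ⁻¹ᵁ V).ι).mapDerivedCategorySingleFunctor 0).app _ ≪≫
      (singleFunctor _ 0).mapIso (Scheme.Modules.restrictUnitIso (s ⁻¹ᵁ V).ι)))
    (isPC_restrict (hs k) V)

theorem isFT_of_iso' {M N : W.Modules} (e : M ≅ N) (h : CohB1.IsFT M) : CohB1.IsFT N :=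
  isFT_of_local_epi N fun x => by
    obtain ⟨A, n, π, hx, hπ⟩ := exists_local_free_epi M h x
    haveI := hπ
    exact ⟨A, n, π ≫ (Scheme.Modules.restrictFunctor A.ι).map e.hom, hx, inferInstance⟩

/-- The comparison is local on the target. -/
theorem iff_of_local (s : W ⟶ Z) [IsClosedImmersion s] {m : ℤ} {K : DCoh.D W}
    (h : ∀ w : W, ∃ V : Z.Opens, s w ∈ V ∧
      (DCoh.IsPseudoCoherentD m ((pushD (s ∣_ V)).obj ((resD (s ⁻¹ᵁ V).ι).obj K)) ↔
        DCoh.IsPseudoCoherentD m ((resD (s ⁻¹ᵁ V).ι).obj K))) :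
    DCoh.IsPseudoCoherentD m ((pushD s).obj K) ↔ DCoh.IsPseudoCoherentD m K := by
  constructor
  · refine fun hp => isPC_of_local fun w => ?_
    obtain ⟨V, hw, hV⟩ := h w
    exact ⟨s ⁻¹ᵁ V, hw, hV.1 (isPC_of_iso ((pushDRestr s V).app K) (isPC_restrict hp V))⟩
  · refine fun hK => isPC_of_local fun z => ?_
    by_cases hz : z ∈ Set.range s
    · obtain ⟨w, rfl⟩ := hz
      obtain ⟨V, hw, hV⟩ := h w
      exact ⟨V, hw, isPC_of_iso ((pushDRestr s V).app K).symm (hV.2 (isPC_restrict hK _))⟩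
    · let V : Z.Opens := ⟨(Set.range s)ᶜ, s.isClosedEmbedding.isClosed_range.isOpen_compl⟩
      refine ⟨V, hz, isPC_of_iso ((pushDRestr s V).app K).symm (isPC_of_isLE ((isLE_push_iff _ _ _).2 ?_))⟩
      haveI : IsEmpty (s ⁻¹ᵁ V : W.Opens) := ⟨fun x => x.2 ⟨x.1, rfl⟩⟩
      exact (DerivedCategory.isLE_iff _ _).2 fun i _ => isZero_of_isEmpty _

/-- Near every point, the degrees where a pseudo-coherent object has cohomology are bounded above. -/
theorem exists_isLE_nhd {m : ℤ} {K : DCoh.D W} (h : DCoh.IsPseudoCoherentD m K) (x : W) :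
    ∃ (V : W.Opens) (n : ℤ), x ∈ V ∧ m ≤ n ∧ ((resD V.ι).obj K).IsLE n := by
  obtain ⟨V, hx, E, α, ⟨⟨a, b, hab⟩, -⟩, hα⟩ := (isPC_iff m K).1 h x
  refine ⟨V, max m b, hx, le_max_left _ _, (DerivedCategory.isLE_iff _ _).2 fun i hi => ?_⟩
  have := hα.1 i (by omega)
  have hz : IsZero ((homologyFunctor _ i).obj (Q.obj E)) :=
    (HomologicalComplex.ExactAt.isZero_homology
      (HomologicalComplex.ExactAt.of_isZero (hab i (Or.inr (by omega))))).of_iso
      ((homologyFunctorFactors _ i).app E)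
  exact hz.of_iso (asIso ((homologyFunctor _ i).map α)).symm

section Top

variable {A : Type*} [Category* A] [Abelian A]

theorem epi_homologyMap_of_epi_desc {F : CochainComplex A ℤ} {b : ℤ} (hz : IsZero (F.X (b + 1))) {M : A}
    (f : (HomologicalComplex.single A (ComplexShape.up ℤ) b).obj M ⟶ F)
    [Epi (biprod.desc ((HomologicalComplex.singleObjXSelf (ComplexShape.up ℤ) b M).inv ≫ f.f b) (F.d (b - 1) b))] :
    Epi (HomologicalComplex.homologyMap f b) := by
  haveI : IsIso (F.iCycles b) := F.isIso_iCycles b (b + 1) (by simp) (hz.eq_of_tgt _ _)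
  let q := inv (F.iCycles b) ≫ F.homologyπ b
  haveI : Epi q := epi_comp _ _
  have hdq : F.d (b - 1) b ≫ q = 0 := by
    simp only [q]
    rw [← F.toCycles_i (b - 1) b, Category.assoc, IsIso.hom_inv_id_assoc, F.toCycles_comp_homologyπ]
  have hl : HomologicalComplex.cyclesMap f b ≫ F.homologyπ b =
      (((HomologicalComplex.single A (ComplexShape.up ℤ) b).obj M).iCycles b ≫ f.f b) ≫ q := by
    simp only [q]
    rw [← HomologicalComplex.cyclesMap_i, Category.assoc, IsIso.hom_inv_id_assoc]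
  let l := (HomologicalComplex.singleObjXSelf (ComplexShape.up ℤ) b M).inv ≫ f.f b
  haveI : Epi (l ≫ q) := by
    have h : biprod.desc l (F.d (b - 1) b) ≫ q = biprod.fst ≫ l ≫ q := by
      refine biprod.hom_ext' _ _ (by simp) (by simp [hdq])
    have : Epi ((biprod.fst : M ⊞ F.X (b - 1) ⟶ M) ≫ l ≫ q) := by
      rw [← h]; exact epi_comp _ _
    exact epi_of_epi (biprod.fst : M ⊞ F.X (b - 1) ⟶ M) (l ≫ q)
  haveI : IsIso (((HomologicalComplex.single A (ComplexShape.up ℤ) b).obj M).iCycles b) :=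
    HomologicalComplex.isIso_iCycles _ b (b + 1) (by simp) (by simp)
  have h2 : Epi (HomologicalComplex.cyclesMap f b ≫ F.homologyπ b) := by
    rw [hl]
    have : Epi ((((HomologicalComplex.single A (ComplexShape.up ℤ) b).obj M).iCycles b ≫
        (HomologicalComplex.singleObjXSelf (ComplexShape.up ℤ) b M).hom) ≫ l ≫ q) := epi_comp _ _
    simpa [l] using this
  rw [← HomologicalComplex.homologyπ_naturality] at h2
  exact @epi_of_epi _ _ _ _ _ _ _ h2

theorem exists_from_single (F : CochainComplex A ℤ) (b : ℤ) (hz : ∀ j, b < j → IsZero (F.X j)) {M : A}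
    (l : M ⟶ F.X b) [Epi (biprod.desc l (F.d (b - 1) b))] :
    ∃ f : (HomologicalComplex.single A (ComplexShape.up ℤ) b).obj M ⟶ F,
      Epi (HomologicalComplex.homologyMap f b) := by
  let f : (HomologicalComplex.single A (ComplexShape.up ℤ) b).obj M ⟶ F :=
    HomologicalComplex.mkHomFromSingle l fun j hj => (hz j (by simp at hj; omega)).eq_of_tgt _ _
  have hf : (HomologicalComplex.singleObjXSelf (ComplexShape.up ℤ) b M).inv ≫ f.f b = l := by
    simp [f, HomologicalComplex.mkHomFromSingle_f]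
  haveI : Epi (biprod.desc ((HomologicalComplex.singleObjXSelf (ComplexShape.up ℤ) b M).inv ≫ f.f b) (F.d (b - 1) b)) := by
    rw [hf]; infer_instance
  exact ⟨f, epi_homologyMap_of_epi_desc (hz _ (by omega)) f⟩

theorem epi_desc_of_lift {B : Type*} [Category* B] [Abelian B] (G : A ⥤ B) [G.Additive]
    [PreservesFiniteLimits G] [PreservesFiniteColimits G] {F : CochainComplex A ℤ} {b : ℤ}
    [IsIso (F.iCycles b)] {M : B} (l : M ⟶ G.obj (F.X b))
    [Epi (l ≫ G.map (inv (F.iCycles b) ≫ F.homologyπ b))] : Epi (biprod.desc l (G.map (F.d (b - 1) b))) := by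
  let q := inv (F.iCycles b) ≫ F.homologyπ b
  have hdq : F.d (b - 1) b ≫ q = 0 := by
    simp only [q]
    rw [← F.toCycles_i (b - 1) b, Category.assoc, IsIso.hom_inv_id_assoc, F.toCycles_comp_homologyπ]
  let T := ShortComplex.mk (F.d (b - 1) b) q hdq
  have hT : T.Exact := by
    refine (ShortComplex.exact_iff_of_iso (ShortComplex.isoMk (S₁ := ShortComplex.mk (F.toCycles (b - 1) b)
      (F.homologyπ b) (F.toCycles_comp_homologyπ _ _)) (S₂ := T) (Iso.refl _) (asIso (F.iCycles b)) (Iso.refl _)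
      ?_ ?_)).1 (ShortComplex.exact_of_g_is_cokernel _ (F.homologyIsCokernel (b - 1) b (by simp)))
    · simp [T]
    · simp [T, q]
  haveI : Epi T.g := epi_comp _ _
  haveI : Epi (T.map G).g := inferInstanceAs (Epi (G.map T.g))
  refine Preadditive.epi_of_cancel_zero _ fun {Y} y hy => ?_
  have h1 : l ≫ y = 0 := by simpa using biprod.inl ≫= hy
  have h2 : G.map (F.d (b - 1) b) ≫ y = 0 := by simpa using biprod.inr ≫= hy
  obtain ⟨y', hy'⟩ : ∃ y' : G.obj (F.homology b) ⟶ Y, G.map q ≫ y' = y :=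
    ⟨(hT.map G).desc y h2, (hT.map G).g_desc y h2⟩
  have : y' = 0 := by
    rw [← cancel_epi (l ≫ G.map q), comp_zero, Category.assoc, hy', h1]
  rw [← hy', this, comp_zero]

end Top

/-- Near every point, the top cohomology is covered by a map from a finite free module. -/
theorem exists_top_map {K : DCoh.D W} {b : ℤ} (hb : K.IsLE b) (hft : CohB1.IsFT (DCoh.HD K b)) (x : W) :
    ∃ (V : W.Opens) (n : ℕ) (α : (singleFunctor _ b).obj (FlatMod.freeMod (V : Scheme.{u}) n) ⟶ (resD V.ι).obj K),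
      x ∈ V ∧ Epi ((homologyFunctor _ b).map α) := by
  obtain ⟨F, hF, ⟨e⟩⟩ := DerivedCategory.exists_iso_Q_obj_of_isLE K b
  have hz : ∀ j, b < j → IsZero (F.X j) := fun j hj => F.isZero_of_isStrictlyLE b j hj
  haveI : IsIso (F.iCycles b) := F.isIso_iCycles b (b + 1) (by simp) ((hz _ (by omega)).eq_of_tgt _ _)
  let q := inv (F.iCycles b) ≫ F.homologyπ b
  haveI : Epi q := epi_comp _ _
  obtain ⟨A, n, π, hxA, hπ⟩ := exists_local_free_epi _ hft x
  haveI := hπ
  let RA := Scheme.Modules.restrictFunctor A.ι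
  let π' := π ≫ RA.map (((homologyFunctor W.Modules b).mapIso e ≪≫
    (homologyFunctorFactors W.Modules b).app F).hom)
  haveI : Epi π' := inferInstance
  obtain ⟨B, l, hxB, hl⟩ := exists_free_lift (Iso.refl (FlatMod.freeMod (A : Scheme.{u}) n)) π' (RA.map q) ⟨x, hxA⟩
  obtain ⟨i, hi, hi'⟩ := exists_opens_iso (B.ι ≫ A.ι)
  haveI := hi
  let RB := Scheme.Modules.restrictFunctor B.ι
  let H := Scheme.Modules.restrictFunctor i
  let F₃ := (resCx i).obj ((resCx B.ι).obj ((resCx A.ι).obj F))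
  obtain ⟨e₁⟩ := isFree_restrict (Iso.refl (FlatMod.freeMod (A : Scheme.{u}) n)) B.ι
  obtain ⟨e₂⟩ := isFree_restrict e₁ i
  haveI : Epi (biprod.desc (e₂.inv ≫ H.map l) (F₃.d (b - 1) b)) := by
    haveI : PreservesFiniteLimits (RA ⋙ RB ⋙ H) :=
      haveI : PreservesFiniteLimits (RB ⋙ H) := comp_preservesFiniteLimits _ _
      comp_preservesFiniteLimits _ _
    haveI : PreservesFiniteColimits (RA ⋙ RB ⋙ H) :=
      haveI : PreservesFiniteColimits (RB ⋙ H) := comp_preservesFiniteColimits _ _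
      comp_preservesFiniteColimits _ _
    have h1 : Epi (H.map l ≫ H.map (RB.map (RA.map q))) := by
      rw [← H.map_comp, hl]; infer_instance
    haveI : Epi ((e₂.inv ≫ H.map l) ≫ (RA ⋙ RB ⋙ H).map (inv (F.iCycles b) ≫ F.homologyπ b)) := by
      rw [Category.assoc]
      exact @epi_comp _ _ _ _ _ _ inferInstance _ h1
    exact epi_desc_of_lift (RA ⋙ RB ⋙ H) (e₂.inv ≫ H.map l)
  obtain ⟨f, hf⟩ := exists_from_single F₃ b (fun j hj => H.map_isZero (RB.map_isZero (RA.map_isZero (hz j hj))))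
    (e₂.inv ≫ H.map l)
  have hf' : Epi ((homologyFunctor _ b).map (Q.map f)) :=
    ((MorphismProperty.epimorphisms _).arrow_mk_iso_iff (Arrow.isoMk ((homologyFunctorFactors _ b).app _)
      ((homologyFunctorFactors _ b).app _) ((homologyFunctorFactors _ b).hom.naturality f).symm)).2 hf
  refine ⟨_, n, ((singleFunctorIsoCompQ _ b).app _).hom ≫ Q.map f ≫
    ((resQ i ((resCx B.ι).obj ((resCx A.ι).obj F))).symm ≪≫ (resD i).mapIso ((resQ B.ι ((resCx A.ι).obj F)).symm ≪≫
      (resD B.ι).mapIso ((resQ A.ι F).symm ≪≫ (resD A.ι).mapIso e.symm) ≪≫ (resDComp B.ι A.ι).app K) ≪≫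
      (resDComp i (B.ι ≫ A.ι)).app K ≪≫ (resDCongr hi').app K).hom, ⟨⟨⟨x, hxA⟩, hxB⟩, rfl⟩, ?_⟩
  rw [Functor.map_comp, Functor.map_comp]
  haveI := hf'
  infer_instance

theorem isPC_pushD_iff_of_isLE (d : ℕ) :
    ∀ {W Z : Scheme.{u}} {s : W ⟶ Z} [IsClosedImmersion s], HasPCPush s → ∀ (m : ℤ) (K : DCoh.D W),
      K.IsLE (m - 1 + d) → (DCoh.IsPseudoCoherentD m ((pushD s).obj K) ↔ DCoh.IsPseudoCoherentD m K) := by
  induction d with
  | zero =>
    intro W Z s _ hs m K h
    exact iff_of_true (isPC_of_isLE ((isLE_push_iff _ _ _).2 (by simpa using h))) (isPC_of_isLE (by simpa using h))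
  | succ d ih =>
    intro W Z s _ hs m K h
    have hb : K.IsLE (m + d) := by convert h using 1; push_cast; omega
    suffices H : CohB1.IsFT (DCoh.HD K (m + d)) →
        (DCoh.IsPseudoCoherentD m ((pushD s).obj K) ↔ DCoh.IsPseudoCoherentD m K) by
      refine ⟨fun hp => (H ?_).1 hp, fun hK => (H ?_).2 hK⟩
      · exact isFT_of_push s _ (isFT_of_iso' (pushHD s K _) (isFT_HD (isPC_mono (by omega) hp) fun i hi =>
          haveI := (isLE_push_iff s K _).2 hb
          DerivedCategory.isZero_of_isLE ((pushD s).obj K) _ i hi))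
      · exact isFT_HD (isPC_mono (by omega) hK) fun i hi => haveI := hb; DerivedCategory.isZero_of_isLE K _ i hi
    intro hft
    refine iff_of_local s fun w => ?_
    obtain ⟨A, n, α, hw, hα⟩ := exists_top_map hb hft w
    refine ⟨bigOpen s A, show w ∈ s ⁻¹ᵁ bigOpen s A by rw [preimage_bigOpen]; exact hw, ?_⟩
    have hs' := hs.restrict (bigOpen s A)
    let g := W.homOfLE (preimage_bigOpen s A).le
    let K' := (resD (s ⁻¹ᵁ bigOpen s A).ι).obj K
    let α' := (resD g).map α ≫ (resDComp g A.ι).hom.app K ≫ (resDCongr (W.homOfLE_ι _)).hom.app K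
    obtain ⟨C, p, q, hT⟩ := distinguished_cocone_triangle α'
    obtain ⟨e⟩ := isFree_restrict (Iso.refl (FlatMod.freeMod (A : Scheme.{u}) n)) g
    let eE := ((Scheme.Modules.restrictFunctor g).mapDerivedCategorySingleFunctor (m + d)).app _ ≪≫
      (singleFunctor _ (m + d)).mapIso e
    have hE : ∀ k, DCoh.IsPseudoCoherentD k ((resD g).obj ((singleFunctor _ (m + d)).obj (FlatMod.freeMod (A : Scheme.{u}) n))) :=
      fun k => isPC_of_iso eE.symm (isPC_of_isPerfect (isPerfect_single (QC70.isFinLocFree_freeMod _ n) _) k)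
    have hE' : ∀ k, DCoh.IsPseudoCoherentD k ((pushD (s ∣_ bigOpen s A)).obj
        ((resD g).obj ((singleFunctor _ (m + d)).obj (FlatMod.freeMod (A : Scheme.{u}) n)))) :=
      fun k => isPC_of_iso ((pushD _).mapIso eE).symm (hs'.free n _ k)
    have hpc : PCMap (m + d) α' := PCMap.comp (PCMap.map _ ⟨fun i hi => by
        have hK : IsZero ((homologyFunctor _ i).obj ((resD A.ι).obj K)) :=
          haveI := isLE_map (Scheme.Modules.restrictFunctor A.ι) hb
          DerivedCategory.isZero_of_isLE _ (m + d) i hi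
        exact (DerivedCategory.isZero_of_isLE _ (m + d) i hi).isIso hK _, hα⟩)
      (PCMap.comp (PCMap.of_isIso _ _) (PCMap.of_isIso _ _))
    have hC := ih hs' m C (by convert (pcMap_iff_isLE hT (m + d)).1 hpc using 1; omega)
    have hT' := (pushD (s ∣_ bigOpen s A)).map_distinguished _ hT
    exact ⟨fun hp => isPC₂ _ hT (hE m) (hC.1 (isPC₃ _ hT' (hE' _) hp)),
      fun hK => isPC₂ _ hT' (hE' m) (hC.2 (isPC₃ _ hT (hE _) hK))⟩

/-- Pseudo-coherence may be tested after such a direct image. -/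
theorem isPC_pushD_iff {s : W ⟶ Z} [IsClosedImmersion s] (hs : HasPCPush s) (m : ℤ) (K : DCoh.D W) :
    DCoh.IsPseudoCoherentD m ((pushD s).obj K) ↔ DCoh.IsPseudoCoherentD m K := by
  suffices H : ∀ w : W, (DCoh.IsPseudoCoherentD m ((pushD s).obj K) ∨ DCoh.IsPseudoCoherentD m K) →
      ∃ V : Z.Opens, s w ∈ V ∧
      (DCoh.IsPseudoCoherentD m ((pushD (s ∣_ V)).obj ((resD (s ⁻¹ᵁ V).ι).obj K)) ↔
        DCoh.IsPseudoCoherentD m ((resD (s ⁻¹ᵁ V).ι).obj K)) from
    ⟨fun h => (iff_of_local s fun w => H w (Or.inl h)).1 h, fun h => (iff_of_local s fun w => H w (Or.inr h)).2 h⟩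
  intro w h
  obtain ⟨V, n, hw, hmn, hn⟩ : ∃ (V : Z.Opens) (n : ℤ), s w ∈ V ∧ m ≤ n ∧ ((resD (s ⁻¹ᵁ V).ι).obj K).IsLE n := by
    rcases h with h | h
    · obtain ⟨V, n, hw, hmn, hn⟩ := exists_isLE_nhd h (s w)
      refine ⟨V, n, hw, hmn, (isLE_push_iff (s ∣_ V) _ n).1 ?_⟩
      haveI : TStructure.t.IsLE ((pushD s ⋙ resD V.ι).obj K) n := hn
      exact (TStructure.t.isLE_of_iso ((pushDRestr s V).app K) n)
    · obtain ⟨A, n, hw, hmn, hn⟩ := exists_isLE_nhd h w
      refine ⟨bigOpen s A, n, show w ∈ s ⁻¹ᵁ bigOpen s A by rw [preimage_bigOpen]; exact hw, hmn, ?_⟩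
      let g := W.homOfLE (preimage_bigOpen s A).le
      haveI : TStructure.t.IsLE ((resD A.ι ⋙ resD g).obj K) n := isLE_map (Scheme.Modules.restrictFunctor g) hn
      exact TStructure.t.isLE_of_iso ((resDComp g A.ι).app K ≪≫ (resDCongr (W.homOfLE_ι _)).app K) n
  refine ⟨V, hw, isPC_pushD_iff_of_isLE (n + 1 - m).toNat (hs.restrict V) m _ ?_⟩
  convert hn using 1
  omega

end Groth.Agent.RelPCSch41
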