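import Groth.Agent.RelPCSch41.Spec
import Groth.Agent.QCRes72.Basic
import Groth.Agent.Mod48.EquivCohIn

/-!
Pseudo-coherence on an affine scheme is pseudo-coherence of modules.
-/

set_option autoImplicit false
set_option backward.isDefEq.respectTransparency.types false
set_option linter.style.haveILetI false
set_option maxHeartbeats 400000

noncomputable section

universe u

open CategoryTheory Limits AlgebraicGeometry DerivedCategory
open Groth.Agent.DCX42
attribute [local instance] HasDerivedCategory.standard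

namespace Groth.Agent.RelPCSch41

open CategoryTheory.Pretriangulated

variable {R : CommRingCat.{u}}

/-- The derived tilde. -/
abbrev tildeD (R : CommRingCat.{u}) : Dual.D (R : Type u) ⥤ DCoh.D (Spec R) :=
  (tilde.functor R).mapDerivedCategory

theorem isZero_of_isZero_tilde {M : ModuleCat.{u} R} (h : IsZero ((tilde.functor R).obj M)) : IsZero M := by
  rw [IsZero.iff_id_eq_zero] at h ⊢
  exact (tilde.functor R).map_injective (by rw [CategoryTheory.Functor.map_id, h, Functor.map_zero])

/-- Cohomology of the derived tilde. -/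
def tildeHD (K : Dual.D (R : Type u)) (i : ℤ) :
    DCoh.HD ((tildeD R).obj K) i ≅ (tilde.functor R).obj ((DR39.HF R i).obj K) :=
  (Mod48.homologyMapDerivedIso (tilde.functor R) i).app K

theorem exists_acyc {m : ℤ} {K : Dual.D (R : Type u)} (h : DCoh.IsPseudoCoherentD m ((tildeD R).obj K)) :
    ∃ b : ℤ, DR39.Acyc b K := by
  choose V b hx hmn hV using exists_isLE_nhd h
  obtain ⟨t, ht⟩ := IsCompact.elim_finite_subcover isCompact_univ (fun x => (V x : Set (Spec R)))
    (fun x => (V x).2) fun x _ => Set.mem_iUnion.mpr ⟨x, hx x⟩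
  obtain ⟨B, hB⟩ := (t.finite_toSet.image b).bddAbove
  refine ⟨B + 1, fun i hi => isZero_of_isZero_tilde (IsZero.of_iso ?_ (tildeHD K i).symm)⟩
  refine isZero_of_local _ fun y => ?_
  obtain ⟨x, hxt, hy⟩ := Set.mem_iUnion₂.mp (ht (Set.mem_univ y))
  refine ⟨V x, hy, ?_⟩
  have := hB ⟨x, hxt, rfl⟩
  exact ((DerivedCategory.isLE_iff _ _).1 (hV x) i (by omega)).of_iso
    (Mod48.nonempty_homology_mapDerivedCategory (Scheme.Modules.restrictFunctor (V x).ι) _ i).some.symm

theorem pc_of_tilde_aux (m : ℤ) : ∀ (d : ℕ) (K : Dual.D (R : Type u)), DR39.Acyc (m + d) K →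
    DCoh.IsPseudoCoherentD m ((tildeD R).obj K) → DR39.PC m K := by
  intro d
  induction d with
  | zero => exact fun K hK _ => DR39.pc_of_acyc (by simpa using hK)
  | succ d ih =>
    intro K hK h
    let k : ℤ := m + d
    have hK' : DR39.Acyc (k + 1) K := hK.mono (by simp only [k]; push_cast; omega)
    have hfin : Module.Finite R ((DR39.HF R k).obj K) := by
      have hft := isFT_HD (isPC_mono (show m ≤ k by simp only [k]; omega) h) fun i hi =>
        ((tilde.functor R).map_isZero (hK' i (by omega))).of_iso (tildeHD K i)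
      exact (QCRes72.isFiniteType_tilde_iff _).1 (isFT_of_iso' (tildeHD K k) hft)
    have hpc : DR39.PC k K := DR39.pc_of_homology hK' fun i hi => by
      rcases eq_or_lt_of_le hi with rfl | hlt
      · rw [sub_self]; exact (DR39.pcModule_zero_iff _).2 hfin
      · refine DR39.pc_of_acyc fun j _ => ?_
        exact ((DerivedCategory.singleFunctor _ 0 ⋙ DR39.HF R j).map_isZero (hK' i (by omega)))
    obtain ⟨K', α, hK'₁, hα⟩ := (DR39.pc_iff k K).1 hpc
    obtain ⟨C, g, δ, hT⟩ := distinguished_cocone_triangle α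
    have hC : DR39.Acyc k C := (DR39.approx_iff_acyc _ hT k).1 hα
    have hC' : DCoh.IsPseudoCoherentD m ((tildeD R).obj C) :=
      isPC₃ _ ((tildeD R).map_distinguished _ hT) (isPC_tildeD (DR39.pc_of_bff hK'₁)) h
    exact DR39.PC.obj₂ hT (DR39.pc_of_bff hK'₁) (ih C hC hC')

/-- Pseudo-coherence on an affine scheme. -/
theorem isPC_tildeD_iff (m : ℤ) (K : Dual.D (R : Type u)) :
    DCoh.IsPseudoCoherentD m ((tildeD R).obj K) ↔ DR39.PC m K :=
  ⟨fun h => by
    obtain ⟨b, hb⟩ := exists_acyc h
    exact pc_of_tilde_aux m (b - m).toNat K (hb.mono (by omega)) h, isPC_tildeD⟩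

end Groth.Agent.RelPCSch41
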