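import Groth.Agent.RelPCSch41.Good
import Groth.Agent.QCPull72.Sections
import Groth.Agent.DCX42.QCohPull

/-!
First properties of relative pseudo-coherence on schemes.
-/

set_option autoImplicit false
set_option backward.isDefEq.respectTransparency.types false
set_option linter.style.haveILetI false
set_option linter.unusedSectionVars false

set_option maxHeartbeats 400000

noncomputable section

universe u

open CategoryTheory Limits AlgebraicGeometry TopologicalSpace DerivedCategory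
open Groth.Agent.DCX42
attribute [local instance] HasDerivedCategory.standard

namespace Groth.Agent.RelPCSch41

variable {W X Y : Scheme.{u}} {f : X ⟶ Y} {m : ℤ} {K L : DCoh.D X}

/-- An affine pair at a point. -/
theorem exists_affine_pair (f : X ⟶ Y) (x : X) :
    ∃ (U : X.Opens) (V : Y.Opens), x ∈ U ∧ IsAffineOpen U ∧ IsAffineOpen V ∧ U ≤ f ⁻¹ᵁ V := by
  obtain ⟨V, hV, hxV, -⟩ := exists_isAffineOpen_mem_and_subset (U := (⊤ : Y.Opens)) (x := f x) trivial
  obtain ⟨U, hU, hxU, hle⟩ := exists_isAffineOpen_mem_and_subset (U := f ⁻¹ᵁ V) (x := x) hxV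
  exact ⟨U, V, hxU, hU, hV, hle⟩

/-- Relative pseudo-coherence on all pairs of affine opens. -/
theorem rel_iff [LocallyOfFiniteType f] : DerSch.IsPseudoCoherentRel f m K ↔
    ∀ (U : X.Opens) (V : Y.Opens), IsAffineOpen U → IsAffineOpen V → U ≤ f ⁻¹ᵁ V → Good f m K U V :=
  ⟨fun h _ _ hU hV hle => good_of_rel h hU hV hle, fun h => rel_of_good fun x => by
    obtain ⟨U, V, hxU, hU, hV, hle⟩ := exists_affine_pair f x
    exact ⟨U, V, hxU, hU, hV, h U V hU hV hle⟩⟩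

theorem Good.congr {U : X.Opens} {V : Y.Opens} (h : Good f m K U V) (e : K ≅ L) : Good f m L U V := by
  obtain ⟨hle, n, φ, hφ, hpc⟩ := h
  exact ⟨hle, n, φ, hφ, pcat_congr e hpc⟩

theorem rel_congr (e : K ≅ L) (h : DerSch.IsPseudoCoherentRel f m K) : DerSch.IsPseudoCoherentRel f m L :=
  haveI := h.1
  rel_iff.2 fun U V hU hV hle => ((rel_iff.1 h) U V hU hV hle).congr e

/-- Goodness read on a given chart. -/
theorem good_iff_pc {U : X.Opens} {V : Y.Opens} (hU : IsAffineOpen U) (h : U ≤ f ⁻¹ᵁ V) {n : ℕ}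
    {φ : MvPolynomial (Fin n) Γ(Y, V) →+* Γ(X, U)} (hφ : DerSch.IsChart f U V h φ)
    [IsClosedImmersion (imm U φ)] :
    Good f m K U V ↔ DCoh.IsPseudoCoherentD m ((pushD (imm U φ)).obj ((resD U.ι).obj K)) := by
  rw [good_iff_chartPC hU h hφ, chartPC_iff hU hφ.1, pcat_iff_pc]

section Triangle

open CategoryTheory.Pretriangulated

variable [LocallyOfFiniteType f] (T : Triangle (DCoh.D X)) (hT : T ∈ distinguishedTriangles)

include hT

theorem rel₃ (h₁ : DerSch.IsPseudoCoherentRel f (m + 1) T.obj₁) (h₂ : DerSch.IsPseudoCoherentRel f m T.obj₂) :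
    DerSch.IsPseudoCoherentRel f m T.obj₃ := rel_iff.2 fun U V hU hV hle => by
  obtain ⟨n, φ, hφ⟩ := exists_chart_of_ft (f := f) hU hV hle
  haveI := isClosedImmersion_imm hU hφ.1
  exact (good_iff_pc hU hle hφ).2 (isPC₃ _ ((resD U.ι ⋙ pushD (imm U φ)).map_distinguished T hT)
    ((good_iff_pc hU hle hφ).1 (rel_iff.1 h₁ U V hU hV hle))
    ((good_iff_pc hU hle hφ).1 (rel_iff.1 h₂ U V hU hV hle)))

theorem rel₂ (h₁ : DerSch.IsPseudoCoherentRel f m T.obj₁) (h₃ : DerSch.IsPseudoCoherentRel f m T.obj₃) :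
    DerSch.IsPseudoCoherentRel f m T.obj₂ := rel_iff.2 fun U V hU hV hle => by
  obtain ⟨n, φ, hφ⟩ := exists_chart_of_ft (f := f) hU hV hle
  haveI := isClosedImmersion_imm hU hφ.1
  exact (good_iff_pc hU hle hφ).2 (isPC₂ _ ((resD U.ι ⋙ pushD (imm U φ)).map_distinguished T hT)
    ((good_iff_pc hU hle hφ).1 (rel_iff.1 h₁ U V hU hV hle))
    ((good_iff_pc hU hle hφ).1 (rel_iff.1 h₃ U V hU hV hle)))

theorem rel₁ (h₂ : DerSch.IsPseudoCoherentRel f m T.obj₂) (h₃ : DerSch.IsPseudoCoherentRel f (m - 1) T.obj₃) :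
    DerSch.IsPseudoCoherentRel f m T.obj₁ := rel_iff.2 fun U V hU hV hle => by
  obtain ⟨n, φ, hφ⟩ := exists_chart_of_ft (f := f) hU hV hle
  haveI := isClosedImmersion_imm hU hφ.1
  obtain ⟨k, rfl⟩ : ∃ k, m = k + 1 := ⟨m - 1, by omega⟩
  rw [add_sub_cancel_right] at h₃
  exact (good_iff_pc hU hle hφ).2 (isPC₁ _ ((resD U.ι ⋙ pushD (imm U φ)).map_distinguished T hT)
    ((good_iff_pc hU hle hφ).1 (rel_iff.1 h₂ U V hU hV hle))
    ((good_iff_pc hU hle hφ).1 (rel_iff.1 h₃ U V hU hV hle)))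

end Triangle

/-- Goodness on an open subscheme. -/
theorem good_comp_iff (j : W ⟶ X) [IsOpenImmersion j] [LocallyOfFiniteType f] {O : W.Opens} (hO : IsAffineOpen O)
    {V : Y.Opens} (hV : IsAffineOpen V) (h : j ''ᵁ O ≤ f ⁻¹ᵁ V) :
    Good (j ≫ f) m ((resD j).obj K) O V ↔ Good f m K (j ''ᵁ O) V := by
  have hU : IsAffineOpen (j ''ᵁ O) := hO.image_of_isOpenImmersion j
  obtain ⟨n, φ, hφ⟩ := exists_chart_of_ft (f := f) hU hV h
  have he : O ≤ j ⁻¹ᵁ (j ''ᵁ O) := (j.preimage_image_eq O).ge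
  have h' : O ≤ (j ≫ f) ⁻¹ᵁ V := fun x hx => h ⟨x, hx, rfl⟩
  let ρ := (j.appIso O).hom.hom
  have hψ : DerSch.IsChart (j ≫ f) O V h' (ρ.comp φ) := by
    refine ⟨(show Function.Surjective ρ from (ConcreteCategory.bijective_of_isIso (j.appIso O).hom).2).comp hφ.1, ?_⟩
    rw [RingHom.comp_assoc, hφ.2]
    simp only [ρ, ← CommRingCat.hom_comp, Scheme.Hom.appIso_hom', Scheme.Hom.appLE_comp_appLE]
  haveI := isClosedImmersion_imm hU hφ.1
  haveI := isClosedImmersion_imm hO hψ.1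
  let a := j.resLE (j ''ᵁ O) O he
  haveI : IsOpenImmersion a := by
    haveI : IsOpenImmersion (a ≫ (j ''ᵁ O).ι) := by rw [Scheme.Hom.resLE_comp_ι]; infer_instance
    exact IsOpenImmersion.of_comp a (j ''ᵁ O).ι
  have hc : imm O (ρ.comp φ) ≫ 𝟙 _ = a ≫ imm (j ''ᵁ O) φ := by
    rw [Category.comp_id, imm, imm, ← Category.assoc a, ← Scheme.Opens.toSpecΓ_SpecMap_appLE, Category.assoc,
      ← Spec.map_comp, CommRingCat.ofHom_comp]
    simp only [ρ, CommRingCat.ofHom_hom, Scheme.Hom.appIso_hom']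
  have hr : a.opensRange = (imm (j ''ᵁ O) φ) ⁻¹ᵁ Scheme.Hom.opensRange (𝟙 (Spec (CommRingCat.of (MvPolynomial (Fin n) Γ(Y, V))))) := by
    rw [Scheme.Hom.opensRange_of_isIso (𝟙 (Spec (CommRingCat.of (MvPolynomial (Fin n) Γ(Y, V))))), Scheme.Hom.preimage_top]
    refine top_unique fun y _ => ?_
    obtain ⟨x, hx, hxy⟩ := y.2
    refine ⟨⟨x, hx⟩, Subtype.ext ?_⟩
    rw [← hxy]
    exact congr($(Scheme.Hom.resLE_comp_ι j (U := j ''ᵁ O) (V := O) he).base ⟨x, hx⟩)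
  let e := (sqD (imm (j ''ᵁ O) φ) (imm O (ρ.comp φ)) a (𝟙 _) hc hr).app ((resD (j ''ᵁ O).ι).obj K) ≪≫
    (pushD (imm O (ρ.comp φ))).mapIso ((resDComp a (j ''ᵁ O).ι).app K ≪≫
      (resDCongr (Scheme.Hom.resLE_comp_ι j he)).app K ≪≫ ((resDComp O.ι j).app K).symm)
  rw [good_iff_pc hO h' hψ, good_iff_pc hU h hφ]
  exact ⟨fun H => isPC_of_local fun z => ⟨Scheme.Hom.opensRange (𝟙 _), ⟨z, rfl⟩, isPC_opensRange (𝟙 _) (isPC_of_iso e.symm H)⟩,
    fun H => isPC_of_iso e (isPC_resD (𝟙 _) H)⟩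

/-- Relative pseudo-coherence restricts to open subschemes. -/
theorem rel_resD (j : W ⟶ X) [IsOpenImmersion j] (hK : DerSch.IsPseudoCoherentRel f m K) :
    DerSch.IsPseudoCoherentRel (j ≫ f) m ((resD j).obj K) :=
  haveI := hK.1
  rel_iff.2 fun O V hO hV h => by
    have h' : j ''ᵁ O ≤ f ⁻¹ᵁ V := by rintro _ ⟨x, hx, rfl⟩; exact h hx
    exact (good_comp_iff j hO hV h').2 (rel_iff.1 hK _ V (hO.image_of_isOpenImmersion j) hV h')

/-- Relative pseudo-coherence is local on the source. -/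
theorem rel_of_local [LocallyOfFiniteType f]
    (h : ∀ x : X, ∃ (W : Scheme.{u}) (j : W ⟶ X) (_ : IsOpenImmersion j), x ∈ Set.range j ∧
      DerSch.IsPseudoCoherentRel (j ≫ f) m ((resD j).obj K)) : DerSch.IsPseudoCoherentRel f m K := by
  refine rel_of_good fun x => ?_
  obtain ⟨W, j, _, ⟨w, rfl⟩, hW⟩ := h x
  obtain ⟨O, V, hwO, hO, hV, hle⟩ := exists_affine_pair (j ≫ f) w
  have h' : j ''ᵁ O ≤ f ⁻¹ᵁ V := by rintro _ ⟨x, hx, rfl⟩; exact hle hx
  exact ⟨j ''ᵁ O, V, ⟨w, hwO, rfl⟩, hO.image_of_isOpenImmersion j, hV,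
    (good_comp_iff j hO hV h').1 (good_of_rel hW hO hV hle)⟩

/-- Locally, relative pseudo-coherence bounds the cohomology above. -/
theorem exists_isLE_local (hK : DerSch.IsPseudoCoherentRel f m K) (x : X) :
    ∃ (U : X.Opens) (b : ℤ), x ∈ U ∧ ∀ i, b < i → IsZero ((DCoh.HD K i).restrict U.ι) := by
  haveI := hK.1
  obtain ⟨U, V, hxU, hU, hV, hle⟩ := exists_affine_pair f x
  obtain ⟨n, φ, hφ⟩ := exists_chart_of_ft (f := f) hU hV hle
  haveI := isClosedImmersion_imm hU hφ.1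
  have hpc := (good_iff_pc hU hle hφ).1 (good_of_rel hK hU hV hle)
  let s := imm U φ
  obtain ⟨Z, b, hz, -, hb⟩ := exists_isLE_nhd hpc (s ⟨x, hxU⟩)
  have h1 : ((resD (s ⁻¹ᵁ Z).ι).obj ((resD U.ι).obj K)).IsLE b := (isLE_push_iff (s ∣_ Z) _ b).1 (by
    haveI : TStructure.t.IsLE ((pushD s ⋙ resD Z.ι).obj ((resD U.ι).obj K)) b := hb
    exact TStructure.t.isLE_of_iso ((pushDRestr s Z).app ((resD U.ι).obj K)) b)
  let k := (s ⁻¹ᵁ Z).ι ≫ U.ι
  refine ⟨U.ι ''ᵁ (s ⁻¹ᵁ Z), b, ⟨⟨x, hxU⟩, hz, rfl⟩, fun i hi => ?_⟩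
  obtain ⟨e, _, he⟩ := exists_opens_iso k
  have h2 : ((resD k).obj K).IsLE b := by
    haveI : TStructure.t.IsLE ((resD U.ι ⋙ resD (s ⁻¹ᵁ Z).ι).obj K) b := h1
    exact TStructure.t.isLE_of_iso ((resDComp (s ⁻¹ᵁ Z).ι U.ι).app K) b
  have h3 : IsZero ((Scheme.Modules.restrictFunctor k).obj (DCoh.HD K i)) :=
    ((DerivedCategory.isLE_iff _ _).1 h2 i hi).of_iso
      ((Mod48.homologyMapDerivedIso (Scheme.Modules.restrictFunctor k) i).app K).symm
  have hr : k.opensRange = U.ι ''ᵁ (s ⁻¹ᵁ Z) := by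
    rw [Scheme.Hom.opensRange_comp, Scheme.Opens.opensRange_ι]
  rw [← hr]
  exact ((Scheme.Modules.restrictFunctor e).map_isZero h3).of_iso
    ((Scheme.Modules.restrictFunctorCongr he).symm.app _ ≪≫ (Scheme.Modules.restrictFunctorComp e k).app _)

/-- On a quasi-compact scheme relative pseudo-coherence bounds the cohomology above. -/
theorem exists_isLE [CompactSpace X] (hK : DerSch.IsPseudoCoherentRel f m K) : ∃ b : ℤ, K.IsLE b := by
  choose U b hx hU using exists_isLE_local hK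
  obtain ⟨t, ht⟩ := IsCompact.elim_finite_subcover isCompact_univ (fun x => (U x : Set X))
    (fun x => (U x).2) fun x _ => Set.mem_iUnion.mpr ⟨x, hx x⟩
  obtain ⟨B, hB⟩ := (t.finite_toSet.image b).bddAbove
  refine ⟨B, (DerivedCategory.isLE_iff _ _).2 fun i hi => isZero_of_local _ fun y => ?_⟩
  obtain ⟨x, hxt, hy⟩ := Set.mem_iUnion₂.mp (ht (Set.mem_univ y))
  exact ⟨U x, hy, hU x i (lt_of_le_of_lt (hB ⟨x, hxt, rfl⟩) hi)⟩

/-- Quasi-coherence is reflected by direct image along a closed immersion. -/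
theorem isQCoh_of_push (s : W ⟶ X) [IsClosedImmersion s] {M : W.Modules}
    (h : Coh.IsQCoh ((Scheme.Modules.pushforward s).obj M)) : Coh.IsQCoh M := by
  haveI := faithful_push s
  haveI := GSS45.ClosedHom.full_pushforward s
  haveI : ((Scheme.Modules.pushforward s).obj M).IsQuasicoherent := h
  exact QC70.isQuasicoherent_of_iso (asIso ((Scheme.Modules.pullbackPushforwardAdjunction s).counit.app M))
    (QCPull72.isQuasicoherent_pullback s _)

/-- Relatively pseudo-coherent objects have quasi-coherent cohomology. -/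
theorem isQCohD_of_relAll (hK : DerSch.IsPseudoCoherentRelAll f K) : DCoh.IsQCohD K := by
  haveI := (hK 0).1
  refine isQCohD_of_local fun x => ?_
  obtain ⟨U, V, hxU, hU, hV, hle⟩ := exists_affine_pair f x
  obtain ⟨n, φ, hφ⟩ := exists_chart_of_ft (f := f) hU hV hle
  haveI := isClosedImmersion_imm hU hφ.1
  refine ⟨_, U.ι, inferInstance, ⟨⟨x, hxU⟩, rfl⟩, fun i => isQCoh_of_push (imm U φ) ?_⟩
  exact QC70.isQuasicoherent_of_iso (pushHD (imm U φ) _ i)
    (isQCoh_HD_of_lt ((good_iff_pc hU hle hφ).1 (good_of_rel (hK (i - 1)) hU hV hle)) i (by omega))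

end Groth.Agent.RelPCSch41
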