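import Groth.Agent.RelPCSch41.Chart

/-!
Relative pseudo-coherence may be tested on any pair of affine opens.
-/

set_option autoImplicit false
set_option backward.isDefEq.respectTransparency.types false
set_option linter.style.haveILetI false
set_option linter.unusedSectionVars false

noncomputable section

universe u

open CategoryTheory Limits AlgebraicGeometry TopologicalSpace DerivedCategory
open Groth.Agent.DCX42
attribute [local instance] HasDerivedCategory.standard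

namespace Groth.Agent.RelPCSch41

variable {X Y : Scheme.{u}}

/-- A pair of affine opens is good if some chart on it is pseudo-coherent. -/
def Good (f : X ⟶ Y) (m : ℤ) (K : DCoh.D X) (U : X.Opens) (V : Y.Opens) : Prop :=
  ∃ h : U ≤ f ⁻¹ᵁ V, ∃ (n : ℕ) (φ : MvPolynomial (Fin n) Γ(Y, V) →+* Γ(X, U)),
    DerSch.IsChart f U V h φ ∧ PCat m K U φ

variable {f : X ⟶ Y} {m : ℤ} {K : DCoh.D X}

theorem Good.le {U : X.Opens} {V : Y.Opens} (h : Good f m K U V) : U ≤ f ⁻¹ᵁ V := h.1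

theorem good_iff {U : X.Opens} {V : Y.Opens} (hU : IsAffineOpen U) (h : U ≤ f ⁻¹ᵁ V) {P : Type u} [CommRing P]
    [Algebra Γ(Y, V) P] [Module.Flat Γ(Y, V) P] [Algebra.FinitePresentation Γ(Y, V) P]
    (ψ : P →+* Γ(X, U)) (hψ : Function.Surjective ψ) (hc : ψ.comp (algebraMap Γ(Y, V) P) = (f.appLE V U h).hom) :
    Good f m K U V ↔ PCat m K U ψ := by
  constructor
  · rintro ⟨_, n, φ, ⟨hφ, hφc⟩, hpc⟩
    exact (pcat_indep (R := Γ(Y, V)) hU _ _ φ hφ ψ hψ (by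
      rw [MvPolynomial.algebraMap_eq, hφc, hc])).1 hpc
  · intro hpc
    obtain ⟨n, ρ, hρ⟩ := FlatMor67.PCH.exists_surj Γ(Y, V) P
    have hcc : (ψ.comp ρ.toRingHom).comp MvPolynomial.C = (f.appLE V U h).hom := by
      rw [← hc]
      exact RingHom.ext fun r => congrArg ψ (ρ.commutes r)
    refine ⟨h, n, ψ.comp ρ.toRingHom, ⟨hψ.comp hρ, hcc⟩, ?_⟩
    exact (pcat_comp_iff (A := Γ(Y, V)) hU hψ ρ hρ).2 hpc

theorem good_iff_chartPC {U : X.Opens} {V : Y.Opens} (hU : IsAffineOpen U) (h : U ≤ f ⁻¹ᵁ V) {n : ℕ}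
    {φ : MvPolynomial (Fin n) Γ(Y, V) →+* Γ(X, U)} (hφ : DerSch.IsChart f U V h φ) :
    Good f m K U V ↔ DerSch.ChartPC m K U V φ := by
  rw [chartPC_iff hU hφ.1]
  exact good_iff hU h φ hφ.1 (by rw [MvPolynomial.algebraMap_eq]; exact hφ.2)

theorem exists_chart_of_ft [LocallyOfFiniteType f] {U : X.Opens} {V : Y.Opens} (hU : IsAffineOpen U)
    (hV : IsAffineOpen V) (h : U ≤ f ⁻¹ᵁ V) :
    ∃ (n : ℕ) (φ : MvPolynomial (Fin n) Γ(Y, V) →+* Γ(X, U)), DerSch.IsChart f U V h φ := by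
  letI := (f.appLE V U h).hom.toAlgebra
  haveI : Algebra.FiniteType Γ(Y, V) Γ(X, U) := f.finiteType_appLE hV hU h
  obtain ⟨n, φ, hφ⟩ := FlatMor67.PCH.exists_surj Γ(Y, V) Γ(X, U)
  exact ⟨n, φ.toRingHom, hφ, RingHom.ext fun r => φ.commutes r⟩

/-- Passing from a chart to a basic open of its spectrum. -/
theorem good_away {U : X.Opens} {V : Y.Opens} (hU : IsAffineOpen U) (h : U ≤ f ⁻¹ᵁ V) {P : Type u} [CommRing P]
    [Algebra Γ(Y, V) P] [Module.Flat Γ(Y, V) P] [Algebra.FinitePresentation Γ(Y, V) P]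
    {ψ : P →+* Γ(X, U)} (hψ : Function.Surjective ψ) (hc : ψ.comp (algebraMap Γ(Y, V) P) = (f.appLE V U h).hom)
    (G : P) :
    (PCat m K U ψ → Good f m K (X.basicOpen (ψ G)) V) ∧
      (Good f m K (X.basicOpen (ψ G)) V → ∀ [IsClosedImmersion (imm U ψ)], DCoh.IsPseudoCoherentD m
        ((resD (Scheme.Opens.ι (X := Spec (CommRingCat.of P)) (PrimeSpectrum.basicOpen G))).obj
          ((pushD (imm U ψ)).obj ((resD U.ι).obj K)))) := by
  obtain ⟨ψ', hsurj, hψ'⟩ := exists_away_lift hU hψ G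
  have hle : X.basicOpen (ψ G) ≤ U := X.basicOpen_le _
  haveI := isClosedImmersion_imm hU hψ
  haveI := isClosedImmersion_imm (hU.basicOpen (ψ G)) hsurj
  have hc' : ψ'.comp (algebraMap Γ(Y, V) (Localization.Away G)) = (f.appLE V _ (hle.trans h)).hom := by
    rw [IsScalarTower.algebraMap_eq Γ(Y, V) P (Localization.Away G), ← RingHom.comp_assoc, hψ', RingHom.comp_assoc,
      hc, ← CommRingCat.hom_comp, Scheme.Hom.appLE_map]
  haveI : Module.Flat P (Localization.Away G) := IsLocalization.flat _ (Submonoid.powers G)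
  haveI : Module.Flat Γ(Y, V) (Localization.Away G) := Module.Flat.trans _ P _
  haveI : Algebra.FinitePresentation P (Localization.Away G) := IsLocalization.Away.finitePresentation G
  haveI : Algebra.FinitePresentation Γ(Y, V) (Localization.Away G) := Algebra.FinitePresentation.trans _ P _
  have e := good_iff (f := f) (m := m) (K := K) (hU.basicOpen (ψ G)) (hle.trans h) ψ' hsurj hc'
  have h2 := pcat_away (m := m) (K := K) hU (P' := Localization.Away G) G rfl hle hψ'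
  exact ⟨fun H => e.2 (h2.1 H), fun H _ => h2.2 (e.1 H)⟩

/-- Passing to a basic open of the source. -/
theorem Good.basicOpen {U : X.Opens} {V : Y.Opens} (hU : IsAffineOpen U) (hg : Good f m K U V) (g : Γ(X, U)) :
    Good f m K (X.basicOpen g) V := by
  obtain ⟨h, n, φ, hφ, hpc⟩ := hg
  obtain ⟨G, rfl⟩ := hφ.1 g
  exact (good_away hU h hφ.1 (by rw [MvPolynomial.algebraMap_eq]; exact hφ.2) G).1 hpc

theorem flat_fp_mvPolynomial (A R : Type u) [CommRing A] [CommRing R] [Algebra A R] [Module.Flat A R]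
    [Algebra.FinitePresentation A R] (n : ℕ) :
    Module.Flat A (MvPolynomial (Fin n) R) ∧ Algebra.FinitePresentation A (MvPolynomial (Fin n) R) :=
  ⟨Module.Flat.trans A R _, Algebra.FinitePresentation.trans A R _⟩

/-- The base may be replaced by a basic open containing the image. -/
theorem good_basicOpen_base_iff [LocallyOfFiniteType f] {U : X.Opens} {V : Y.Opens} (hU : IsAffineOpen U)
    (hV : IsAffineOpen V) (r : Γ(Y, V)) (h : U ≤ f ⁻¹ᵁ Y.basicOpen r) :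
    Good f m K U (Y.basicOpen r) ↔ Good f m K U V := by
  obtain ⟨n, φ, hφ⟩ := exists_chart_of_ft (f := f) hU (hV.basicOpen r) h
  have hle := Y.basicOpen_le r
  haveI := hV.isLocalization_basicOpen r
  rw [good_iff_chartPC hU h hφ, chartPC_iff hU hφ.1]
  haveI : Module.Flat Γ(Y, V) Γ(Y, Y.basicOpen r) := IsLocalization.flat _ (Submonoid.powers r)
  haveI : Algebra.FinitePresentation Γ(Y, V) Γ(Y, Y.basicOpen r) := IsLocalization.Away.finitePresentation r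
  obtain ⟨h1, h2⟩ := flat_fp_mvPolynomial Γ(Y, V) Γ(Y, Y.basicOpen r) n
  haveI := h1
  haveI := h2
  refine (good_iff hU (h.trans (f.preimage_mono hle)) φ hφ.1 ?_).symm
  rw [IsScalarTower.algebraMap_eq Γ(Y, V) Γ(Y, Y.basicOpen r), ← RingHom.comp_assoc,
    MvPolynomial.algebraMap_eq, hφ.2]
  change ((Y.presheaf.map (homOfLE hle).op) ≫ f.appLE _ U h).hom = _
  rw [Scheme.Hom.map_appLE]

/-- Descent along basic opens of the source. -/
theorem good_of_cover {U : X.Opens} {V : Y.Opens} (hU : IsAffineOpen U) [LocallyOfFiniteType f]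
    (hV : IsAffineOpen V) (h : U ≤ f ⁻¹ᵁ V)
    (hloc : ∀ x ∈ U, ∃ g : Γ(X, U), x ∈ X.basicOpen g ∧ Good f m K (X.basicOpen g) V) : Good f m K U V := by
  obtain ⟨n, φ, hφ⟩ := exists_chart_of_ft (f := f) hU hV h
  haveI := isClosedImmersion_imm hU hφ.1
  refine ⟨h, n, φ, hφ, pcat_iff_pc.2 (isPC_of_local fun z => ?_)⟩
  by_cases hz : z ∈ Set.range (imm U φ)
  · obtain ⟨w, rfl⟩ := hz
    obtain ⟨g, hxg, hg⟩ := hloc w.1 w.2
    obtain ⟨G, rfl⟩ := hφ.1 g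
    refine ⟨_, ?_, (good_away hU h hφ.1 (by rw [MvPolynomial.algebraMap_eq]; exact hφ.2) G).2 hg⟩
    change w ∈ imm U φ ⁻¹ᵁ PrimeSpectrum.basicOpen G
    rw [imm, Scheme.Hom.comp_preimage, SpecMap_preimage_basicOpen, Scheme.Opens.toSpecΓ_preimage_basicOpen]
    exact hxg
  · let O : (Spec (CommRingCat.of (MvPolynomial (Fin n) Γ(Y, V)))).Opens :=
      ⟨(Set.range (imm U φ))ᶜ, (imm U φ).isClosedEmbedding.isClosed_range.isOpen_compl⟩
    refine ⟨O, hz, isPC_of_iso ((pushDRestr (imm U φ) O).app _).symm (isPC_of_isLE ((isLE_push_iff _ _ _).2 ?_))⟩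
    haveI : IsEmpty (imm U φ ⁻¹ᵁ O : (U : Scheme.{u}).Opens) := ⟨fun x => x.2 ⟨x.1, rfl⟩⟩
    exact (DerivedCategory.isLE_iff _ _).2 fun i _ => isZero_of_isEmpty _

/-- All pairs of affine opens are good. -/
theorem good_of_rel (hK : DerSch.IsPseudoCoherentRel f m K) {U : X.Opens} {V : Y.Opens} (hU : IsAffineOpen U)
    (hV : IsAffineOpen V) (h : U ≤ f ⁻¹ᵁ V) : Good f m K U V := by
  obtain ⟨hft, 𝒱, h𝒱, hK⟩ := hK
  haveI := hft
  refine good_of_cover hU hV h fun x hx => ?_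
  obtain ⟨V₀, hV₀, hxV₀⟩ : ∃ V₀ ∈ 𝒱, f x ∈ (V₀ : Y.Opens) := by
    have : f x ∈ (⊤ : Y.Opens) := trivial
    rw [← h𝒱] at this
    simp only [Opens.mem_iSup] at this
    obtain ⟨V₀, h₀, h₁⟩ := this
    exact ⟨V₀, h₀, h₁⟩
  obtain ⟨𝒰, h𝒰, hK⟩ := hK V₀ hV₀
  obtain ⟨U₀, hU₀, hxU₀⟩ : ∃ U₀ ∈ 𝒰, x ∈ (U₀ : X.Opens) := by
    have : x ∈ f ⁻¹ᵁ (V₀ : Y.Opens) := hxV₀
    rw [← h𝒰] at this
    simp only [Opens.mem_iSup] at this
    obtain ⟨U₀, h₀, h₁⟩ := this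
    exact ⟨U₀, h₀, h₁⟩
  have hle₀ : (U₀ : X.Opens) ≤ f ⁻¹ᵁ (V₀ : Y.Opens) := by
    rw [← h𝒰]; exact le_iSup₂ (f := fun (U : X.affineOpens) _ => (U : X.Opens)) U₀ hU₀
  obtain ⟨n, φ, hφ, hpc⟩ := hK U₀ hU₀ hle₀
  have hgood : Good f m K (U₀ : X.Opens) V₀ := (good_iff_chartPC U₀.2 hle₀ hφ).2 hpc
  obtain ⟨r, r₀, hr, hrx⟩ := exists_basicOpen_le_affine_inter hV V₀.2 (f x) ⟨h hx, hxV₀⟩
  obtain ⟨g, g₀, hg, hgx⟩ := exists_basicOpen_le_affine_inter hU U₀.2 x ⟨hx, hxU₀⟩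
  have h1 : X.basicOpen (g * f.appLE V U h r) = X.basicOpen g ⊓ f ⁻¹ᵁ Y.basicOpen r := by
    rw [Scheme.basicOpen_mul, Scheme.Hom.appLE, CommRingCat.comp_apply, Scheme.basicOpen_res,
      ← Scheme.preimage_basicOpen, ← inf_assoc]
    exact congrArg (· ⊓ f ⁻¹ᵁ Y.basicOpen r) (inf_eq_left.2 (X.basicOpen_le g))
  have h2 : X.basicOpen (g₀ * f.appLE V₀ U₀ hle₀ r₀) = X.basicOpen g ⊓ f ⁻¹ᵁ Y.basicOpen r := by
    rw [Scheme.basicOpen_mul, Scheme.Hom.appLE, CommRingCat.comp_apply, Scheme.basicOpen_res,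
      ← Scheme.preimage_basicOpen, ← inf_assoc, ← hg, ← hr]
    exact congrArg (· ⊓ f ⁻¹ᵁ Y.basicOpen r) (inf_eq_left.2 (hg.le.trans (X.basicOpen_le g₀)))
  refine ⟨g * f.appLE V U h r, by rw [h1]; exact ⟨hgx, hrx⟩, ?_⟩
  have h3 := hgood.basicOpen U₀.2 (g₀ * f.appLE V₀ U₀ hle₀ r₀)
  have hA : IsAffineOpen (X.basicOpen (g * f.appLE V U h r)) := hU.basicOpen _
  rw [h2, ← h1] at h3
  have hle : X.basicOpen (g * f.appLE V U h r) ≤ f ⁻¹ᵁ Y.basicOpen r := by rw [h1]; exact inf_le_right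
  refine (good_basicOpen_base_iff hA hV r hle).1 ?_
  rw [hr]
  exact (good_basicOpen_base_iff hA V₀.2 r₀ (hr ▸ hle)).2 h3

/-- Relative pseudo-coherence, tested on the members of given covers. -/
theorem rel_of_good [LocallyOfFiniteType f]
    (h : ∀ x : X, ∃ (U : X.Opens) (V : Y.Opens), x ∈ U ∧ IsAffineOpen U ∧ IsAffineOpen V ∧ Good f m K U V) :
    DerSch.IsPseudoCoherentRel f m K := by
  refine ⟨inferInstance, Set.univ, ?_, fun V _ => ?_⟩
  · simpa using iSup_affineOpens_eq_top Y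
  refine ⟨{U | (U : X.Opens) ≤ f ⁻¹ᵁ (V : Y.Opens) ∧ Good f m K U V}, le_antisymm (iSup₂_le fun U hU => hU.1) ?_,
    fun U hU hle => ?_⟩
  · intro x hx
    simp only [Opens.mem_iSup]
    obtain ⟨U₀, V₀, hxU₀, hU₀, hV₀, hgood⟩ := h x
    obtain ⟨r, r₀, hr, hrx⟩ := exists_basicOpen_le_affine_inter V.2 hV₀ (f x) ⟨hx, hgood.le hxU₀⟩
    let a := f.appLE V₀ U₀ hgood.le r₀
    have ha : X.basicOpen a = U₀ ⊓ f ⁻¹ᵁ Y.basicOpen r₀ := by
      simp only [a]
      rw [Scheme.Hom.appLE, CommRingCat.comp_apply, Scheme.basicOpen_res, ← Scheme.preimage_basicOpen]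
    have hle : X.basicOpen a ≤ f ⁻¹ᵁ Y.basicOpen r₀ := by rw [ha]; exact inf_le_right
    have hA := hU₀.basicOpen a
    have h3 := (good_basicOpen_base_iff hA hV₀ r₀ hle).2 (hgood.basicOpen hU₀ a)
    rw [← hr] at h3 hle
    refine ⟨⟨X.basicOpen a, hA⟩, ⟨hle.trans (f.preimage_mono (Y.basicOpen_le r)),
      (good_basicOpen_base_iff hA V.2 r hle).1 h3⟩, ?_⟩
    change x ∈ X.basicOpen a
    rw [ha]
    exact ⟨hxU₀, hr ▸ hrx⟩
  · obtain ⟨n, φ, hφ⟩ := exists_chart_of_ft (f := f) U.2 V.2 hle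
    exact ⟨n, φ, hφ, (good_iff_chartPC U.2 hle hφ).1 hU.2⟩

end Groth.Agent.RelPCSch41
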