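import Groth.Agent.RelPCSch41.Basic
import Mathlib.AlgebraicGeometry.Morphisms.Smooth

/-!
The closed-immersion-into-smooth test for relative pseudo-coherence.
-/

set_option autoImplicit false
set_option backward.isDefEq.respectTransparency.types false
set_option linter.style.haveILetI false
set_option linter.unusedSectionVars false
set_option maxHeartbeats 400000

noncomputable section

universe u

open CategoryTheory Limits AlgebraicGeometry TopologicalSpace DerivedCategory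
open Groth.Agent.DCX42
attribute [local instance] HasDerivedCategory.standard

namespace Groth.Agent.RelPCSch41

variable {X Y Z : Scheme.{u}} (f : X ⟶ Y) [IsClosedImmersion f] (g : Y ⟶ Z) {m : ℤ} {K : DCoh.D X}

theorem good_closed_flat_iff {U' : Y.Opens} {V : Z.Opens} (hU' : IsAffineOpen U')
    (hle : U' ≤ g ⁻¹ᵁ V) (hg : (g.appLE V U' hle).hom.Flat ∧ (g.appLE V U' hle).hom.FinitePresentation) :
    Good (f ≫ g) m K (f ⁻¹ᵁ U') V ↔ DCoh.IsPseudoCoherentD m ((resD hU'.fromSpec).obj ((pushD f).obj K)) := by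
  have hU : IsAffineOpen (f ⁻¹ᵁ U') := hU'.preimage f
  letI := (g.appLE V U' hle).hom.toAlgebra
  haveI : Module.Flat Γ(Z, V) Γ(Y, U') := hg.1
  haveI : Algebra.FinitePresentation Γ(Z, V) Γ(Y, U') := hg.2
  let ψ := (f.app U').hom
  have hψ : Function.Surjective ψ := f.app_surjective U' hU'
  have hle' : f ⁻¹ᵁ U' ≤ (f ≫ g) ⁻¹ᵁ V := f.preimage_mono hle
  have hc : ψ.comp (algebraMap Γ(Z, V) Γ(Y, U')) = ((f ≫ g).appLE V (f ⁻¹ᵁ U') hle').hom := by
    rw [RingHom.algebraMap_toAlgebra, ← CommRingCat.hom_comp, Scheme.Hom.app_eq_appLE,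
      Scheme.Hom.appLE_comp_appLE]
  haveI := isClosedImmersion_imm hU hψ
  rw [good_iff hU hle' ψ hψ hc, pcat_iff_pc]
  have hsq : imm (f ⁻¹ᵁ U') ψ ≫ hU'.fromSpec = (f ⁻¹ᵁ U').ι ≫ f := by
    rw [Category.assoc, CommRingCat.ofHom_hom, Scheme.Hom.app_eq_appLE, hU'.SpecMap_appLE_fromSpec f hU,
      ← Category.assoc, hU.toSpecΓ_fromSpec]
  have hr : (f ⁻¹ᵁ U').ι.opensRange = f ⁻¹ᵁ hU'.fromSpec.opensRange := by
    rw [Scheme.Opens.opensRange_ι, hU'.opensRange_fromSpec]
  let e := (sqD f (imm (f ⁻¹ᵁ U') ψ) (f ⁻¹ᵁ U').ι hU'.fromSpec hsq hr).app K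
  exact ⟨isPC_of_iso e.symm, isPC_of_iso e⟩

/-- Relative pseudo-coherence for a closed immersion followed by a flat morphism of finite presentation. -/
theorem rel_closed_flat_iff [LocallyOfFiniteType (f ≫ g)]
    (hg : ∀ (V : Z.Opens) (U : Y.Opens), IsAffineOpen V → IsAffineOpen U → (hle : U ≤ g ⁻¹ᵁ V) →
      (g.appLE V U hle).hom.Flat ∧ (g.appLE V U hle).hom.FinitePresentation) :
    DerSch.IsPseudoCoherentRel (f ≫ g) m K ↔ DCoh.IsPseudoCoherentD m ((pushD f).obj K) := by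
  constructor
  · intro h
    refine isPC_of_local fun y => ?_
    obtain ⟨U', V, hy, hU', hV, hle⟩ := exists_affine_pair g y
    refine ⟨hU'.fromSpec.opensRange, by rw [hU'.opensRange_fromSpec]; exact hy, isPC_opensRange _ ?_⟩
    exact (good_closed_flat_iff f g hU' hle (hg V U' hV hU' hle)).1
      (good_of_rel h (hU'.preimage f) hV (f.preimage_mono hle))
  · intro h
    refine rel_of_good fun x => ?_
    obtain ⟨U', V, hy, hU', hV, hle⟩ := exists_affine_pair g (f x)
    exact ⟨f ⁻¹ᵁ U', V, hy, hU'.preimage f, hV,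
      (good_closed_flat_iff f g hU' hle (hg V U' hV hU' hle)).2 (isPC_resD _ h)⟩

theorem rel_closed_smooth_iff [Smooth g] :
    DerSch.IsPseudoCoherentRel (f ≫ g) m K ↔ DCoh.IsPseudoCoherentD m ((pushD f).obj K) := by
  refine rel_closed_flat_iff f g fun V U hV hU hle => ⟨?_, ?_⟩
  · exact HasRingHomProperty.appLE @Flat g inferInstance ⟨V, hV⟩ ⟨U, hU⟩ hle
  · exact HasRingHomProperty.appLE @LocallyOfFinitePresentation g inferInstance ⟨V, hV⟩ ⟨U, hU⟩ hle

/-- Direct image along the identity. -/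
def pushDIdObj (K : DCoh.D Y) : (pushD (𝟙 Y)).obj K ≅ K :=
  (pushD (𝟙 Y)).mapIso (rep K).symm ≪≫ pushQ (𝟙 Y) (Q.objPreimage K) ≪≫
    Q.mapIso ((NatIso.mapHomologicalComplex (Scheme.Modules.pushforwardId Y) _ ≪≫
      Functor.mapHomologicalComplexIdIso _ _).app (Q.objPreimage K)) ≪≫ rep K

/-- For a flat morphism of finite presentation the relative notion is the absolute one. -/
theorem rel_flat_lfp_iff [Flat g] [LocallyOfFinitePresentation g] {L : DCoh.D Y} :
    DerSch.IsPseudoCoherentRel g m L ↔ DCoh.IsPseudoCoherentD m L := by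
  haveI : LocallyOfFiniteType (𝟙 Y ≫ g) := by rw [Category.id_comp]; infer_instance
  have h := rel_closed_flat_iff (𝟙 Y) g (m := m) (K := L) fun V U hV hU hle =>
    ⟨HasRingHomProperty.appLE @Flat g inferInstance ⟨V, hV⟩ ⟨U, hU⟩ hle,
      HasRingHomProperty.appLE @LocallyOfFinitePresentation g inferInstance ⟨V, hV⟩ ⟨U, hU⟩ hle⟩
  rw [Category.id_comp] at h
  rw [h]
  exact ⟨isPC_of_iso (pushDIdObj L), isPC_of_iso (pushDIdObj L).symm⟩

end Groth.Agent.RelPCSch41
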