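import Groth.Agent.RelPCSch41.PushPC

/-!
Direct image along a closed immersion whose direct image of the structure sheaf is `c`-pseudo-coherent.
-/

set_option autoImplicit false
set_option backward.isDefEq.respectTransparency.types false
set_option linter.style.haveILetI false
set_option linter.unusedSectionVars false
set_option maxHeartbeats 400000

noncomputable section

universe u

open CategoryTheory Limits AlgebraicGeometry TopologicalSpace DerivedCategory Pretriangulated
open Groth.Agent.DCX42 Groth.Agent.Props58.HomO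
attribute [local instance] HasDerivedCategory.standard

namespace Groth.Agent.RelPCSch41

variable {W Z : Scheme.{u}}

/-- The direct image of the structure sheaf is `c`-pseudo-coherent. -/
def HasPCPushAt (s : W ⟶ Z) [IsClosedImmersion s] (c : ℤ) : Prop :=
  DCoh.IsPseudoCoherentD c ((pushD s).obj ((singleFunctor W.Modules 0).obj (Coh.structureModule W)))

theorem HasPCPushAt.mono {s : W ⟶ Z} [IsClosedImmersion s] {c c' : ℤ} (hs : HasPCPushAt s c) (h : c ≤ c') :
    HasPCPushAt s c' := isPC_mono h hs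

theorem HasPCPush.at {s : W ⟶ Z} [IsClosedImmersion s] (hs : HasPCPush s) (c : ℤ) : HasPCPushAt s c := hs c

theorem HasPCPushAt.restrict {s : W ⟶ Z} [IsClosedImmersion s] {c : ℤ} (hs : HasPCPushAt s c) (V : Z.Opens) :
    HasPCPushAt (s ∣_ V) c :=
  isPC_of_iso ((pushDRestr s V).app _ ≪≫ (pushD (s ∣_ V)).mapIso
    (((Scheme.Modules.restrictFunctor (s ⁻¹ᵁ V).ι).mapDerivedCategorySingleFunctor 0).app _ ≪≫
      (singleFunctor _ 0).mapIso (Scheme.Modules.restrictUnitIso (s ⁻¹ᵁ V).ι)))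
    (isPC_restrict hs V)

theorem HasPCPushAt.free {s : W ⟶ Z} [IsClosedImmersion s] {c : ℤ} (hs : HasPCPushAt s c) (n : ℕ) (b k : ℤ)
    (hk : c + b ≤ k) :
    DCoh.IsPseudoCoherentD k ((pushD s).obj ((singleFunctor W.Modules b).obj (FlatMod.freeMod W n))) := by
  suffices H : ∀ (n : ℕ) (k : ℤ), c ≤ k →
      DCoh.IsPseudoCoherentD k ((pushD s).obj ((singleFunctor W.Modules 0).obj (FlatMod.freeMod W n))) by
    exact isPC_of_iso ((((pushD s).commShiftIso (-b)).app _).symm ≪≫ (pushD s).mapIso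
      (((singleFunctors W.Modules).shiftIso (-b) b 0 (by omega)).app _))
      (isPC_shift (H n (k - b) (by omega)) (-b) (by omega))
  clear hk b k n
  intro n
  induction n with
  | zero =>
    intro k _
    have hz : IsZero (FlatMod.freeMod W 0) :=
      (IsZero.iff_id_eq_zero _).2 (Sigma.hom_ext _ _ fun i => i.elim0)
    have hz' := (pushD s).map_isZero ((singleFunctor W.Modules 0).map_isZero hz)
    exact isPC_of_isLE ((DerivedCategory.isLE_iff _ _).2 fun i _ => (homologyFunctor _ i).map_isZero hz')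
  | succ n ih =>
    intro k hk
    let G := singleFunctor W.Modules 0 ⋙ pushD s
    have e1 : FlatMod.freeMod W 1 ≅ Coh.structureModule W :=
      { hom := Sigma.desc fun _ => 𝟙 _
        inv := Sigma.ι (fun _ : Fin 1 => Coh.structureModule W) 0
        hom_inv_id := Sigma.hom_ext _ _ fun i => by simp [Fin.fin_one_eq_zero i]
        inv_hom_id := by simp }
    have h1 : DCoh.IsPseudoCoherentD k (G.obj (FlatMod.freeMod W 1)) :=
      isPC_of_iso (G.mapIso e1).symm (isPC_mono hk hs)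
    haveI : PreservesBinaryBiproducts G := preservesBinaryBiproducts_of_preservesBiproducts G
    refine isPC_of_iso ((G.mapBiprod _ _).symm ≪≫ G.mapIso (freeSum n 1)) ?_
    exact isPC₂ _ (binaryBiproductTriangle_distinguished _ _) (ih k hk) h1

theorem push_of_local (s : W ⟶ Z) [IsClosedImmersion s] {m : ℤ} {K : DCoh.D W}
    (h : ∀ w : W, ∃ V : Z.Opens, s w ∈ V ∧
      DCoh.IsPseudoCoherentD m ((pushD (s ∣_ V)).obj ((resD (s ⁻¹ᵁ V).ι).obj K))) :
    DCoh.IsPseudoCoherentD m ((pushD s).obj K) := by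
  refine isPC_of_local fun z => ?_
  by_cases hz : z ∈ Set.range s
  · obtain ⟨w, rfl⟩ := hz
    obtain ⟨V, hw, hV⟩ := h w
    exact ⟨V, hw, isPC_of_iso ((pushDRestr s V).app K).symm hV⟩
  · let V : Z.Opens := ⟨(Set.range s)ᶜ, s.isClosedEmbedding.isClosed_range.isOpen_compl⟩
    refine ⟨V, hz, isPC_of_iso ((pushDRestr s V).app K).symm (isPC_of_isLE ((isLE_push_iff _ _ _).2 ?_))⟩
    haveI : IsEmpty (s ⁻¹ᵁ V : W.Opens) := ⟨fun x => x.2 ⟨x.1, rfl⟩⟩
    exact (DerivedCategory.isLE_iff _ _).2 fun i _ => isZero_of_isEmpty _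

/-- One step of the induction on the top degree. -/
theorem exists_step (s : W ⟶ Z) [IsClosedImmersion s] {b : ℤ} {K : DCoh.D W} (hb : K.IsLE b)
    (hft : CohB1.IsFT (DCoh.HD K b)) (w : W) :
    ∃ (V : Z.Opens) (n : ℕ) (T : Triangle (DCoh.D (s ⁻¹ᵁ V : W.Opens))), s w ∈ V ∧ T ∈ distinguishedTriangles ∧
      Nonempty (T.obj₁ ≅ (singleFunctor _ b).obj (FlatMod.freeMod _ n)) ∧
      T.obj₂ = (resD (s ⁻¹ᵁ V).ι).obj K ∧ T.obj₃.IsLE (b - 1) := by
  obtain ⟨A, n, α, hw, hα⟩ := exists_top_map hb hft w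
  let g := W.homOfLE (preimage_bigOpen s A).le
  let α' := (resD g).map α ≫ (resDComp g A.ι).hom.app K ≫ (resDCongr (W.homOfLE_ι _)).hom.app K
  obtain ⟨C, p, q, hT⟩ := distinguished_cocone_triangle α'
  obtain ⟨e⟩ := isFree_restrict (Iso.refl (FlatMod.freeMod (A : Scheme.{u}) n)) g
  have hpc : PCMap b α' := PCMap.comp (PCMap.map _ ⟨fun i hi => by
      have hK : IsZero ((homologyFunctor _ i).obj ((resD A.ι).obj K)) :=
        haveI := isLE_map (Scheme.Modules.restrictFunctor A.ι) hb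
        DerivedCategory.isZero_of_isLE _ b i hi
      exact (DerivedCategory.isZero_of_isLE _ b i hi).isIso hK _, hα⟩)
    (PCMap.comp (PCMap.of_isIso _ _) (PCMap.of_isIso _ _))
  exact ⟨bigOpen s A, n, _, show w ∈ s ⁻¹ᵁ bigOpen s A by rw [preimage_bigOpen]; exact hw, hT,
    ⟨((Scheme.Modules.restrictFunctor g).mapDerivedCategorySingleFunctor b).app _ ≪≫ (singleFunctor _ b).mapIso e⟩,
    rfl, (pcMap_iff_isLE hT b).1 hpc⟩

theorem isPC_of_pushD_of_isLE (c m : ℤ) (d : ℕ) :
    ∀ {W Z : Scheme.{u}} {s : W ⟶ Z} [IsClosedImmersion s], HasPCPushAt s c → ∀ (K : DCoh.D W),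
      K.IsLE (m - 1 + d) → c + d ≤ 2 → DCoh.IsPseudoCoherentD m ((pushD s).obj K) →
        DCoh.IsPseudoCoherentD m K := by
  induction d with
  | zero => exact fun {W Z s} _ _ K h _ _ => isPC_of_isLE (by simpa using h)
  | succ d ih =>
    intro W Z s _ hs K h hc hp
    have hb : K.IsLE (m + d) := by convert h using 1; push_cast; omega
    have hft : CohB1.IsFT (DCoh.HD K (m + d)) :=
      isFT_of_push s _ (isFT_of_iso' (pushHD s K _) (isFT_HD (isPC_mono (by omega) hp) fun i hi =>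
        haveI := (isLE_push_iff s K _).2 hb
        DerivedCategory.isZero_of_isLE ((pushD s).obj K) _ i hi))
    refine isPC_of_local fun w => ?_
    obtain ⟨V, n, T, hw, hT, ⟨e⟩, e₂, h₃⟩ := exists_step s hb hft w
    refine ⟨s ⁻¹ᵁ V, hw, ?_⟩
    have hs' := hs.restrict V
    have h₁ : DCoh.IsPseudoCoherentD m T.obj₁ :=
      isPC_of_iso e.symm (isPC_of_isPerfect (isPerfect_single (QC70.isFinLocFree_freeMod _ n) _) m)
    have hp₁ : DCoh.IsPseudoCoherentD (m + 1) ((pushD (s ∣_ V)).obj T.obj₁) :=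
      isPC_of_iso ((pushD _).mapIso e).symm (hs'.free n _ _ (by push_cast at hc; omega))
    have hp₂ : DCoh.IsPseudoCoherentD m ((pushD (s ∣_ V)).obj T.obj₂) := by
      rw [e₂]
      exact isPC_of_iso ((pushDRestr s V).app K) (isPC_restrict hp V)
    rw [← e₂]
    exact isPC₂ _ hT h₁ (ih hs' T.obj₃ (by convert h₃ using 1; omega) (by push_cast at hc; omega)
      (isPC₃ _ ((pushD (s ∣_ V)).map_distinguished _ hT) hp₁ hp₂))

theorem isPC_pushD_of_isLE (c m : ℤ) (d : ℕ) :
    ∀ {W Z : Scheme.{u}} {s : W ⟶ Z} [IsClosedImmersion s], HasPCPushAt s c → ∀ (K : DCoh.D W),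
      K.IsLE (m - 1 + d) → c + d ≤ 1 → DCoh.IsPseudoCoherentD m K →
        DCoh.IsPseudoCoherentD m ((pushD s).obj K) := by
  induction d with
  | zero => exact fun {W Z s} _ _ K h _ _ => isPC_of_isLE ((isLE_push_iff _ _ _).2 (by simpa using h))
  | succ d ih =>
    intro W Z s _ hs K h hc hK
    have hb : K.IsLE (m + d) := by convert h using 1; push_cast; omega
    have hft : CohB1.IsFT (DCoh.HD K (m + d)) :=
      isFT_HD (isPC_mono (by omega) hK) fun i hi => haveI := hb; DerivedCategory.isZero_of_isLE K _ i hi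
    refine push_of_local s fun w => ?_
    obtain ⟨V, n, T, hw, hT, ⟨e⟩, e₂, h₃⟩ := exists_step s hb hft w
    refine ⟨V, hw, ?_⟩
    have hs' := hs.restrict V
    have h₁ : DCoh.IsPseudoCoherentD (m + 1) T.obj₁ :=
      isPC_of_iso e.symm (isPC_of_isPerfect (isPerfect_single (QC70.isFinLocFree_freeMod _ n) _) _)
    have hp₁ : DCoh.IsPseudoCoherentD m ((pushD (s ∣_ V)).obj T.obj₁) :=
      isPC_of_iso ((pushD _).mapIso e).symm (hs'.free n _ _ (by push_cast at hc; omega))
    have h₂ : DCoh.IsPseudoCoherentD m T.obj₂ := by rw [e₂]; exact isPC_restrict hK _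
    rw [← e₂]
    exact isPC₂ _ ((pushD (s ∣_ V)).map_distinguished _ hT) hp₁
      (ih hs' T.obj₃ (by convert h₃ using 1; omega) (by push_cast at hc; omega) (isPC₃ _ hT h₁ h₂))

/-- Pseudo-coherence of an object descends from its direct image. -/
theorem isPC_of_pushD {s : W ⟶ Z} [IsClosedImmersion s] {c m b : ℤ} (hs : HasPCPushAt s c) (hc : c + b ≤ m + 1)
    {K : DCoh.D W} (hb : K.IsLE b) (h : DCoh.IsPseudoCoherentD m ((pushD s).obj K)) :
    DCoh.IsPseudoCoherentD m K := by
  by_cases hd : b < m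
  · exact isPC_of_isLE (TStructure.t.isLE_of_le K b (m - 1) (by omega))
  obtain ⟨d, rfl⟩ : ∃ d : ℕ, b = m - 1 + d := ⟨(b - m + 1).toNat, by omega⟩
  exact isPC_of_pushD_of_isLE c m d hs K hb (by omega) h

/-- Pseudo-coherence passes to the direct image. -/
theorem isPC_pushD {s : W ⟶ Z} [IsClosedImmersion s] {c m b : ℤ} (hs : HasPCPushAt s c) (hc : c + b ≤ m)
    {K : DCoh.D W} (hb : K.IsLE b) (h : DCoh.IsPseudoCoherentD m K) :
    DCoh.IsPseudoCoherentD m ((pushD s).obj K) := by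
  by_cases hd : b < m
  · exact isPC_of_isLE ((isLE_push_iff _ _ _).2 (TStructure.t.isLE_of_le K b (m - 1) (by omega)))
  obtain ⟨d, rfl⟩ : ∃ d : ℕ, b = m - 1 + d := ⟨(b - m + 1).toNat, by omega⟩
  exact isPC_pushD_of_isLE c m d hs K hb (by omega) h

end Groth.Agent.RelPCSch41
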