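import Groth.Agent.RelPCSch41.NPC
import Groth.Agent.RelPCSch41.PushAt
import Groth.Agent.FlatMor67.PCHom

/-!
Relative pseudo-coherence and composition.
-/

set_option autoImplicit false
set_option backward.isDefEq.respectTransparency.types false
set_option linter.style.haveILetI false
set_option linter.unusedSectionVars false
set_option maxHeartbeats 400000

noncomputable section

universe u

open CategoryTheory Limits AlgebraicGeometry TopologicalSpace DerivedCategory Opposite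
open Groth.Agent.DCX42
attribute [local instance] HasDerivedCategory.standard MvPolynomial.algebraMvPolynomial

namespace Groth.Agent.RelPCSch41

theorem hasPCPushAt_spec {R S : CommRingCat.{u}} (φ : R ⟶ S) [IsClosedImmersion (Spec.map φ)] (c : ℤ)
    (h : DR39.PC c (Dual.inD (R : Type u) ((ModuleCat.restrictScalars φ.hom).obj (ModuleCat.of S S)))) :
    HasPCPushAt (Spec.map φ) c := by
  obtain ⟨e⟩ := nonempty_push_structure φ
  exact isPC_of_iso (((tilde.functor R).mapDerivedCategorySingleFunctor 0).app _ ≪≫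
    (singleFunctor _ 0).mapIso e.symm ≪≫
    (((Scheme.Modules.pushforward (Spec.map φ)).mapDerivedCategorySingleFunctor 0).app _).symm)
    (isPC_tildeD h)

open TensorProduct in
/-- Adjoining variables preserves pseudo-coherence of an algebra. -/
theorem pc_mvPolynomial (A₀ B : Type u) [CommRing A₀] [CommRing B] [Algebra A₀ B] (k : ℕ) (c : ℤ)
    (h : DR39.PC c (Dual.inD A₀ B)) :
    DR39.PC c (Dual.inD (MvPolynomial (Fin k) A₀) (MvPolynomial (Fin k) B)) := by
  haveI : Algebra.IsPushout A₀ (MvPolynomial (Fin k) A₀) B (MvPolynomial (Fin k) B) := inferInstance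
  let e := (Algebra.IsPushout.equiv A₀ (MvPolynomial (Fin k) A₀) B (MvPolynomial (Fin k) B)).toLinearEquiv
  obtain ⟨e'⟩ := DR39.rep_inD_baseChange (A := A₀) (B := MvPolynomial (Fin k) A₀) B
  exact ((DR39.pc_map (DR39.extA A₀ (MvPolynomial (Fin k) A₀)) (DR39.pc_extendScalars_FF _) h).of_iso e').of_iso
    (DR39.inDIso e)

variable {X Y Z : Scheme.{u}} {f : X ⟶ Y} {g : Y ⟶ Z}

theorem hasPCPushAt_map {V : Y.Opens} {A₀ : Type u} [CommRing A₀] {φ : A₀ →+* Γ(Y, V)}
    (k : ℕ) (c : ℤ) (h : DR39.PC c (Dual.inD A₀ (secMod V φ (Coh.structureModule Y))))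
    [IsClosedImmersion (Spec.map (CommRingCat.ofHom (MvPolynomial.map (σ := Fin k) φ)))] :
    HasPCPushAt (Spec.map (CommRingCat.ofHom (MvPolynomial.map (σ := Fin k) φ))) c := by
  letI := φ.toAlgebra
  let e₁ : (secMod V φ (Coh.structureModule Y) : Type u) ≃ₗ[A₀] Γ(Y, V) :=
    { toFun := fun x => x
      invFun := fun x => x
      map_add' := fun _ _ => rfl
      map_smul' := fun _ _ => rfl
      left_inv := fun _ => rfl
      right_inv := fun _ => rfl }
  have h1 := pc_mvPolynomial A₀ Γ(Y, V) k c (h.of_iso (DR39.inDIso e₁))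
  let S := MvPolynomial (Fin k) Γ(Y, V)
  let e₂ : S ≃ₗ[MvPolynomial (Fin k) A₀]
      ((ModuleCat.restrictScalars (MvPolynomial.map (σ := Fin k) φ)).obj (ModuleCat.of S S) : Type u) :=
    { toFun := fun x => x
      invFun := fun x => x
      map_add' := fun _ _ => rfl
      map_smul' := fun r x => by
        simp only [Algebra.smul_def, MvPolynomial.algebraMap_def]
        rfl
      left_inv := fun _ => rfl
      right_inv := fun _ => rfl }
  exact hasPCPushAt_spec _ c (h1.of_iso (DR39.inDIso e₂))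

/-- The chart of a composite. -/
theorem exists_comp_chart [LocallyOfFiniteType g] {m c : ℤ} (hg : DerSch.IsNPseudoCoherent g c) {U : X.Opens}
    {V : Y.Opens} {W : Z.Opens} (hU : IsAffineOpen U) (hV : IsAffineOpen V) (hW : IsAffineOpen W)
    (h : U ≤ f ⁻¹ᵁ V) (h' : V ≤ g ⁻¹ᵁ W) [LocallyOfFiniteType f] {K : DCoh.D X} :
    ∃ (Z₁ Z₂ : Scheme.{u}) (s : (U : Scheme.{u}) ⟶ Z₁) (t : Z₁ ⟶ Z₂) (_ : IsClosedImmersion s)
      (_ : IsClosedImmersion t), HasPCPushAt t c ∧
      (Good f m K U V ↔ DCoh.IsPseudoCoherentD m ((pushD s).obj ((resD U.ι).obj K))) ∧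
      (Good (f ≫ g) m K U W ↔ DCoh.IsPseudoCoherentD m ((pushD t).obj ((pushD s).obj ((resD U.ι).obj K)))) := by
  obtain ⟨n, φg, hφg⟩ := exists_chart_of_ft (f := g) hV hW h'
  obtain ⟨k, φf, hφf⟩ := exists_chart_of_ft (f := f) hU hV h
  let q : MvPolynomial (Fin k) (MvPolynomial (Fin n) Γ(Z, W)) →+* MvPolynomial (Fin k) Γ(Y, V) :=
    MvPolynomial.map φg
  have hq : Function.Surjective q := MvPolynomial.map_surjective _ hφg.1
  haveI : IsClosedImmersion (Spec.map (CommRingCat.ofHom q)) :=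
    IsClosedImmersion.spec_of_surjective (CommRingCat.ofHom q) hq
  haveI := isClosedImmersion_imm hU hφf.1
  haveI := isClosedImmersion_imm hU (ψ := φf.comp q) (hφf.1.comp hq)
  refine ⟨_, _, imm U φf, Spec.map (CommRingCat.ofHom q), inferInstance, inferInstance,
    hasPCPushAt_map k c ((npc_iff c).1 hg V W hV hW h' n φg hφg), good_iff_pc hU h hφf, ?_⟩
  haveI : Module.Flat Γ(Z, W) (MvPolynomial (Fin k) (MvPolynomial (Fin n) Γ(Z, W))) :=
    Module.Flat.trans Γ(Z, W) (MvPolynomial (Fin n) Γ(Z, W)) _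
  haveI : Algebra.FinitePresentation Γ(Z, W) (MvPolynomial (Fin k) (MvPolynomial (Fin n) Γ(Z, W))) :=
    Algebra.FinitePresentation.mvPolynomial_of_finitePresentation _
  have hle : U ≤ (f ≫ g) ⁻¹ᵁ W := h.trans (f.preimage_mono h')
  have hc : (φf.comp q).comp (algebraMap Γ(Z, W) (MvPolynomial (Fin k) (MvPolynomial (Fin n) Γ(Z, W)))) =
      ((f ≫ g).appLE W U hle).hom := by
    rw [← f.appLE_comp_appLE g W V U h' h, CommRingCat.hom_comp, ← hφg.2, ← hφf.2]
    refine RingHom.ext fun a => ?_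
    change φf (MvPolynomial.map φg (MvPolynomial.C (MvPolynomial.C a))) = φf (MvPolynomial.C (φg (MvPolynomial.C a)))
    rw [MvPolynomial.map_C]
  rw [good_iff hU hle (φf.comp q) (hφf.1.comp hq) hc, pcat_iff_pc]
  have hi : imm U φf ≫ Spec.map (CommRingCat.ofHom q) = imm U (φf.comp q) := by
    rw [imm, imm, Category.assoc, ← Spec.map_comp, ← CommRingCat.ofHom_comp]
  exact ⟨isPC_of_iso ((pushDComp (imm U φf) (Spec.map (CommRingCat.ofHom q)) ≪≫ pushDCongr hi).app _).symm,
    isPC_of_iso ((pushDComp (imm U φf) (Spec.map (CommRingCat.ofHom q)) ≪≫ pushDCongr hi).app _)⟩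

theorem isLE_push_resD {U : X.Opens} {Z₁ : Scheme.{u}} (s : (U : Scheme.{u}) ⟶ Z₁) [IsClosedImmersion s]
    {K : DCoh.D X} {b : ℤ} (hb : K.IsLE b) : ((pushD s).obj ((resD U.ι).obj K)).IsLE b :=
  (isLE_push_iff _ _ _).2 (isLE_map _ hb)

/-- A pair of affine opens for each morphism of a composite. -/
theorem exists_affine_triple (f : X ⟶ Y) (g : Y ⟶ Z) (x : X) :
    ∃ (U : X.Opens) (V : Y.Opens) (W : Z.Opens), x ∈ U ∧ IsAffineOpen U ∧ IsAffineOpen V ∧ IsAffineOpen W ∧
      U ≤ f ⁻¹ᵁ V ∧ V ≤ g ⁻¹ᵁ W := by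
  obtain ⟨V, W, hxV, hV, hW, h'⟩ := exists_affine_pair g (f x)
  obtain ⟨U, hU, hxU, h⟩ := exists_isAffineOpen_mem_and_subset (U := f ⁻¹ᵁ V) (x := x) hxV
  exact ⟨U, V, W, hxU, hU, hV, hW, h, h'⟩

theorem rel_of_comp [LocallyOfFiniteType f] [LocallyOfFiniteType g] {m c b : ℤ} {K : DCoh.D X} (hb : K.IsLE b)
    (hg : DerSch.IsNPseudoCoherent g c) (hc : c + b ≤ m + 1) (h : DerSch.IsPseudoCoherentRel (f ≫ g) m K) :
    DerSch.IsPseudoCoherentRel f m K :=
  rel_of_good fun x => by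
    obtain ⟨U, V, W, hx, hU, hV, hW, hle, hle'⟩ := exists_affine_triple f g x
    obtain ⟨_, _, s, t, _, _, ht, h1, h2⟩ := exists_comp_chart (f := f) (m := m) (K := K) hg hU hV hW hle hle'
    exact ⟨U, V, hx, hU, hV, h1.2 (isPC_of_pushD ht hc (isLE_push_resD s hb)
      (h2.1 (good_of_rel h hU hW (hle.trans (f.preimage_mono hle')))))⟩

theorem rel_comp [LocallyOfFiniteType f] [LocallyOfFiniteType g] {m c b : ℤ} {K : DCoh.D X} (hb : K.IsLE b)
    (hg : DerSch.IsNPseudoCoherent g c) (hc : c + b ≤ m) (h : DerSch.IsPseudoCoherentRel f m K) :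
    DerSch.IsPseudoCoherentRel (f ≫ g) m K :=
  rel_of_good fun x => by
    obtain ⟨U, V, W, hx, hU, hV, hW, hle, hle'⟩ := exists_affine_triple f g x
    obtain ⟨_, _, s, t, _, _, ht, h1, h2⟩ := exists_comp_chart (f := f) (m := m) (K := K) hg hU hV hW hle hle'
    exact ⟨U, W, hx, hU, hW, h2.2 (isPC_pushD ht hc (isLE_push_resD s hb)
      (h1.1 (good_of_rel h hU hV hle)))⟩

theorem isLE_unit (X : Scheme.{u}) : (DCoh.toD X (DerSch.unitCx X)).IsLE 0 := by
  haveI : TStructure.t.IsLE (DCoh.inD X (Coh.structureModule X)) 0 :=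
    inferInstanceAs (((singleFunctor X.Modules 0).obj _).IsLE 0)
  exact TStructure.t.isLE_of_iso (unitIso X).symm 0

theorem rel_id_iff {m : ℤ} {K : DCoh.D X} :
    DerSch.IsPseudoCoherentRel (𝟙 X) m K ↔ DCoh.IsPseudoCoherentD m K :=
  rel_flat_lfp_iff (𝟙 X)

end Groth.Agent.RelPCSch41
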