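import Groth.Agent.GSS45.ClosedHom
import Groth.Agent.GSS45.RelExt
import Groth.Agent.DCX42.PerfectRetract
import Groth.Agent.DCX42.TopH
import Groth.Agent.DCX42.Coh
import Groth.Agent.DCX42.Single
import Groth.Agent.DCX42.LpullLoc

/-!
Direct image along closed immersions on derived categories.
-/

set_option autoImplicit false
set_option backward.isDefEq.respectTransparency false
set_option linter.style.haveILetI false

noncomputable section

universe u

open CategoryTheory Limits AlgebraicGeometry TopologicalSpace DerivedCategory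
open Groth.Agent.DCX42 Groth.Agent.Props58.HomO
attribute [local instance] HasDerivedCategory.standard

namespace Groth.Agent.RelPCSch41

variable {W Z Z' : Scheme.{u}}

instance preservesFiniteLimits_push (s : W ⟶ Z) : PreservesFiniteLimits (Scheme.Modules.pushforward s) :=
  have : (Scheme.Modules.pushforward s).IsRightAdjoint :=
    (Scheme.Modules.pullbackPushforwardAdjunction s).isRightAdjoint
  inferInstance

instance preservesFiniteColimits_push (s : W ⟶ Z) [IsClosedImmersion s] :
    PreservesFiniteColimits (Scheme.Modules.pushforward s) :=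
  GSS45.ClosedHom.preservesFiniteColimits_pushforward s

/-- Direct image along a closed immersion on derived categories. -/
abbrev pushD (s : W ⟶ Z) [IsClosedImmersion s] : DCoh.D W ⥤ DCoh.D Z :=
  (Scheme.Modules.pushforward s).mapDerivedCategory

/-- Direct image of complexes. -/
abbrev pushC (s : W ⟶ Z) : CochainComplex W.Modules ℤ ⥤ CochainComplex Z.Modules ℤ :=
  (Scheme.Modules.pushforward s).mapHomologicalComplex (ComplexShape.up ℤ)

/-- Direct image of the image of a complex. -/
def pushQ (s : W ⟶ Z) [IsClosedImmersion s] (F : CochainComplex W.Modules ℤ) :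
    (pushD s).obj (Q.obj F) ≅ Q.obj ((pushC s).obj F) :=
  (Scheme.Modules.pushforward s).mapDerivedCategoryFactors.app F

/-- Direct image along equal closed immersions. -/
def pushDCongr {s t : W ⟶ Z} (h : s = t) [IsClosedImmersion s] [IsClosedImmersion t] : pushD s ≅ pushD t :=
  letI : Localization.Lifting Q (qis W) (pushC s ⋙ Q) (pushD s) :=
    ⟨(Scheme.Modules.pushforward s).mapDerivedCategoryFactors⟩
  letI : Localization.Lifting Q (qis W) (pushC t ⋙ Q) (pushD t) :=
    ⟨(Scheme.Modules.pushforward t).mapDerivedCategoryFactors⟩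
  Localization.liftNatIso Q (qis W) (pushC s ⋙ Q) (pushC t ⋙ Q) _ _
    (Functor.isoWhiskerRight (NatIso.mapHomologicalComplex (Scheme.Modules.pushforwardCongr h) _) Q)

/-- Direct image along a composite. -/
def pushDComp (s : W ⟶ Z) (t : Z ⟶ Z') [IsClosedImmersion s] [IsClosedImmersion t] :
    pushD s ⋙ pushD t ≅ pushD (s ≫ t) :=
  let e₁ := (Scheme.Modules.pushforward s).mapDerivedCategoryFactors
  let e₂ := (Scheme.Modules.pushforward t).mapDerivedCategoryFactors
  letI : Localization.Lifting Q (qis W) ((pushC s ⋙ pushC t) ⋙ Q) (pushD s ⋙ pushD t) :=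
    ⟨(Functor.associator _ _ _).symm ≪≫ Functor.isoWhiskerRight e₁ _ ≪≫ Functor.associator _ _ _ ≪≫
      Functor.isoWhiskerLeft _ e₂ ≪≫ (Functor.associator _ _ _).symm⟩
  letI : Localization.Lifting Q (qis W) (pushC (s ≫ t) ⋙ Q) (pushD (s ≫ t)) :=
    ⟨(Scheme.Modules.pushforward (s ≫ t)).mapDerivedCategoryFactors⟩
  Localization.liftNatIso Q (qis W) ((pushC s ⋙ pushC t) ⋙ Q) (pushC (s ≫ t) ⋙ Q) _ _
    (Functor.isoWhiskerRight (Functor.mapHomologicalComplexCompIso (Scheme.Modules.pushforwardComp s t) _) Q)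

/-- Direct image commutes with restriction to opens. -/
def pushDRestr (s : W ⟶ Z) [IsClosedImmersion s] (V : Z.Opens) [IsClosedImmersion (s ∣_ V)] :
    pushD s ⋙ resD V.ι ≅ resD (s ⁻¹ᵁ V).ι ⋙ pushD (s ∣_ V) :=
  let e₁ := (Scheme.Modules.pushforward s).mapDerivedCategoryFactors
  let e₂ := (Scheme.Modules.restrictFunctor V.ι).mapDerivedCategoryFactors
  let e₃ := (Scheme.Modules.restrictFunctor (s ⁻¹ᵁ V).ι).mapDerivedCategoryFactors
  let e₄ := (Scheme.Modules.pushforward (s ∣_ V)).mapDerivedCategoryFactors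
  letI : Localization.Lifting Q (qis W) ((pushC s ⋙ resCx V.ι) ⋙ Q) (pushD s ⋙ resD V.ι) :=
    ⟨(Functor.associator _ _ _).symm ≪≫ Functor.isoWhiskerRight e₁ _ ≪≫ Functor.associator _ _ _ ≪≫
      Functor.isoWhiskerLeft _ e₂ ≪≫ (Functor.associator _ _ _).symm⟩
  letI : Localization.Lifting Q (qis W) ((resCx (s ⁻¹ᵁ V).ι ⋙ pushC (s ∣_ V)) ⋙ Q)
      (resD (s ⁻¹ᵁ V).ι ⋙ pushD (s ∣_ V)) :=
    ⟨(Functor.associator _ _ _).symm ≪≫ Functor.isoWhiskerRight e₃ _ ≪≫ Functor.associator _ _ _ ≪≫
      Functor.isoWhiskerLeft _ e₄ ≪≫ (Functor.associator _ _ _).symm⟩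
  Localization.liftNatIso Q (qis W) ((pushC s ⋙ resCx V.ι) ⋙ Q) ((resCx (s ⁻¹ᵁ V).ι ⋙ pushC (s ∣_ V)) ⋙ Q) _ _
    (Functor.isoWhiskerRight
      ((Functor.mapHomologicalComplexCompIso (Iso.refl (Scheme.Modules.pushforward s ⋙ Scheme.Modules.restrictFunctor V.ι)) _) ≪≫
        (Functor.mapHomologicalComplexCompIso (GSS45.RelExt.pushRestrictIso s V).symm _).symm) Q)

theorem faithful_push (s : W ⟶ Z) [IsClosedImmersion s] : (Scheme.Modules.pushforward s).Faithful :=
  QC70.faithful_pushforward s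

theorem isZero_of_isZero_push (s : W ⟶ Z) [IsClosedImmersion s] {M : W.Modules}
    (h : IsZero ((Scheme.Modules.pushforward s).obj M)) : IsZero M := by
  haveI := faithful_push s
  rw [IsZero.iff_id_eq_zero] at h ⊢
  exact (Scheme.Modules.pushforward s).map_injective (by rw [CategoryTheory.Functor.map_id, h, Functor.map_zero])

/-- Cohomology of a direct image. -/
def pushHD (s : W ⟶ Z) [IsClosedImmersion s] (K : DCoh.D W) (i : ℤ) :
    DCoh.HD ((pushD s).obj K) i ≅ (Scheme.Modules.pushforward s).obj (DCoh.HD K i) :=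
  (DerivedCategory.homologyFunctor Z.Modules i).mapIso
      ((pushD s).mapIso (rep K).symm ≪≫ pushQ s (Q.objPreimage K)) ≪≫
    (DerivedCategory.homologyFunctorFactors Z.Modules i).app _ ≪≫
    ShortComplex.mapHomologyIso ((Q.objPreimage K).sc i) (Scheme.Modules.pushforward s) ≪≫
    (Scheme.Modules.pushforward s).mapIso (((DerivedCategory.homologyFunctorFactors W.Modules i).app _).symm ≪≫
      (DerivedCategory.homologyFunctor W.Modules i).mapIso (rep K))

theorem isLE_push_iff (s : W ⟶ Z) [IsClosedImmersion s] (K : DCoh.D W) (n : ℤ) :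
    ((pushD s).obj K).IsLE n ↔ K.IsLE n := by
  rw [isLE_iff, isLE_iff]
  refine forall₂_congr fun i _ => ⟨fun h => isZero_of_isZero_push s (h.of_iso (pushHD s K i).symm), fun h => ?_⟩
  exact ((Scheme.Modules.pushforward s).map_isZero h).of_iso (pushHD s K i)

/-- Modules on an empty scheme vanish. -/
theorem isZero_of_isEmpty [IsEmpty W] (M : W.Modules) : IsZero M :=
  isZero_of_local M fun x => isEmptyElim x

/-- A local epimorphism from finite locally free modules gives finite type. -/
theorem isFT_of_local_epi' (M : W.Modules)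
    (h : ∀ x : W, ∃ (A : W.Opens) (L : (A : Scheme.{u}).Modules) (π : L ⟶ M.restrict A.ι),
      x ∈ A ∧ FlatMod.IsFinLocFree L ∧ Epi π) : CohB1.IsFT M := by
  refine isFT_of_local_epi M fun x => ?_
  obtain ⟨A, L, π, hx, hL, hπ⟩ := h x
  obtain ⟨B, n, hxB, ⟨e⟩⟩ := hL ⟨x, hx⟩
  obtain ⟨i, hi, hi'⟩ := exists_opens_iso (B.ι ≫ A.ι)
  haveI := hi
  obtain ⟨e'⟩ := isFree_restrict e i
  haveI := hπ
  let G := Scheme.Modules.restrictFunctor B.ι ⋙ Scheme.Modules.restrictFunctor i
  haveI : Epi (G.map π) := inferInstance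
  exact ⟨_, n, e'.inv ≫ G.map π ≫
      ((Scheme.Modules.restrictFunctor i).mapIso ((Scheme.Modules.restrictFunctorComp B.ι A.ι).symm.app M) ≪≫
        (Scheme.Modules.restrictFunctorComp i (B.ι ≫ A.ι)).symm.app M ≪≫
        (Scheme.Modules.restrictFunctorCongr hi').app M).hom,
    ⟨⟨⟨x, hx⟩, hxB⟩, rfl⟩, inferInstance⟩

/-- Finite type is reflected by direct image along a closed immersion. -/
theorem isFT_of_push (s : W ⟶ Z) [IsClosedImmersion s] (M : W.Modules)
    (h : CohB1.IsFT ((Scheme.Modules.pushforward s).obj M)) : CohB1.IsFT M := by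
  refine isFT_of_local_epi' M fun w => ?_
  obtain ⟨V, n, π, hw, hπ⟩ := exists_local_free_epi _ h (s w)
  haveI := hπ
  let P := Scheme.Modules.pullback (s ∣_ V)
  haveI : P.IsLeftAdjoint := (Scheme.Modules.pullbackPushforwardAdjunction (s ∣_ V)).isLeftAdjoint
  exact ⟨s ⁻¹ᵁ V, P.obj (FlatMod.freeMod _ n), P.map π ≫ P.map ((GSS45.RelExt.pushRestrictIso s V).hom.app M) ≫
      (GSS45.ClosedHom.counitIso (s ∣_ V)).hom.app _, hw,
    isFinLocFree_pullback _ (QC70.isFinLocFree_freeMod _ n), inferInstance⟩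

end Groth.Agent.RelPCSch41
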