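import Groth.Agent.RelPCSch41.PushTensor
import Groth.Agent.RelPCSch41.PushD
import Groth.Agent.RegImm10.ExtVanish
import Groth.Agent.DCX42.KInjPush
import Groth.Agent.DCX42.LpullLoc
import Groth.Agent.TorStalk41.Pull

/-!
Flat inverse images and closed immersions.
-/

set_option autoImplicit false
set_option backward.isDefEq.respectTransparency false
set_option linter.style.haveILetI false
set_option linter.unusedSectionVars false
set_option maxHeartbeats 400000

noncomputable section

universe u

open CategoryTheory Limits AlgebraicGeometry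
open Groth.Agent.DCX42
attribute [local instance] HasDerivedCategory.standard

namespace Groth.Agent.RelPCSch41

/-- The derived inverse image along a flat morphism. -/
theorem nonempty_lpull_flat {X Y : Scheme.{u}} (f : X ⟶ Y) [Flat f] [DCoh.HasLpull f]
    (C : CochainComplex Y.Modules ℤ) :
    Nonempty ((DCoh.Lpull f).obj (DerivedCategory.Q.obj C) ≅
      DerivedCategory.Q.obj (((Scheme.Modules.pullback f).mapHomologicalComplex (ComplexShape.up ℤ)).obj C)) := by
  obtain ⟨P, p, hP, -, hp, -⟩ := Mod48.exists_resolution (O := Y.sheaf) C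
  haveI := preservesHomology_pullback f
  haveI : QuasiIso (C := Y.Modules) p := hp
  haveI : IsIso (DerivedCategory.Q.map (C := CochainComplex Y.Modules ℤ) p) :=
    (DerivedCategory.isIso_Q_map_iff_quasiIso Y.Modules p).2 hp
  haveI : QuasiIso (((Scheme.Modules.pullback f).mapHomologicalComplex (ComplexShape.up ℤ)).map p) := inferInstance
  obtain ⟨e⟩ := DCK91.nonempty_lpullIso f P hP
  exact ⟨(DCoh.Lpull f).mapIso (asIso (DerivedCategory.Q.map (C := CochainComplex Y.Modules ℤ) p)).symm ≪≫ e ≪≫
    asIso (DerivedCategory.Q.map (((Scheme.Modules.pullback f).mapHomologicalComplex (ComplexShape.up ℤ)).map p))⟩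

variable {X X' P P' : Scheme.{u}}

theorem smulEnd_eq_zero_of_killed (t : X ⟶ P) [IsClosedImmersion t] [IsAffine P] {N : P.Modules}
    (hN : GSS45.Descend.IsKilled t N) {b : Γ(P, ⊤)} (hb : b ∈ t.ker.ideal ⟨⊤, isAffineOpen_top P⟩) :
    RegImm10.ExtVanish.smulEnd b N = 0 := by
  refine Scheme.Modules.hom_ext _ _ fun W => ?_
  ext m
  refine (RegImm10.ExtVanish.smulEnd_app b N W m).trans ?_
  refine QC70.section_ext N _ _ fun p hp => ?_
  obtain ⟨_, ⟨U, hU, rfl⟩, hpU, hUW⟩ := P.isBasis_affineOpens.exists_subset_of_mem_open hp W.2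
  refine ⟨U, hUW, hpU, ?_⟩
  rw [QC70.res_smul, QC70.resO_resO]
  refine (hN ⟨U, hU⟩ _ ?_ _).trans ?_
  · exact t.ker.ideal_le_comap_ideal (U := ⟨U, hU⟩) (V := ⟨⊤, isAffineOpen_top P⟩) (le_top (a := U)) hb
  · exact (map_zero _).symm

theorem pushforward_smulEnd (π : P' ⟶ P) (b : Γ(P, ⊤)) (M : P'.Modules) :
    (Scheme.Modules.pushforward π).map (RegImm10.ExtVanish.smulEnd (π.appTop b) M) =
      RegImm10.ExtVanish.smulEnd b ((Scheme.Modules.pushforward π).obj M) := by
  refine RegImm10.ExtVanish.smulEnd_ext fun W m => ?_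
  refine Eq.trans ?_ (QCqs72.pushforward_smul M π _ m).symm
  refine (RegImm10.ExtVanish.smulEnd_app (π.appTop b) M (π ⁻¹ᵁ W) m).trans ?_
  exact congrArg (fun c : Γ(P', π ⁻¹ᵁ W) => c • (show Γ(M, π ⁻¹ᵁ W) from m)) (QCqs72.app_resO π _ b).symm

theorem pullback_smulEnd (π : P' ⟶ P) (b : Γ(P, ⊤)) (N : P.Modules) :
    (Scheme.Modules.pullback π).map (RegImm10.ExtVanish.smulEnd b N) =
      RegImm10.ExtVanish.smulEnd (π.appTop b) ((Scheme.Modules.pullback π).obj N) := by
  apply ((Scheme.Modules.pullbackPushforwardAdjunction π).homEquiv _ _).injective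
  rw [Adjunction.homEquiv_unit, Adjunction.homEquiv_unit, pushforward_smulEnd]
  have h := (Scheme.Modules.pullbackPushforwardAdjunction π).unit.naturality (RegImm10.ExtVanish.smulEnd b N)
  simp only [Functor.id_obj, Functor.id_map, Functor.comp_obj, Functor.comp_map] at h
  rw [← h]
  exact RegImm10.ExtVanish.smulEnd_naturality b _

/-- Killed modules pull back to killed modules. -/
theorem isKilled_pullback (t : X ⟶ P) [IsClosedImmersion t] [IsAffine P] (t' : X' ⟶ P') [IsClosedImmersion t']
    [IsAffine P'] (π : P' ⟶ P)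
    (h : t'.ker.ideal ⟨⊤, isAffineOpen_top P'⟩ = (t.ker.ideal ⟨⊤, isAffineOpen_top P⟩).map π.appTop.hom)
    {N : P.Modules} (hN : GSS45.Descend.IsKilled t N) :
    GSS45.Descend.IsKilled t' ((Scheme.Modules.pullback π).obj N) := by
  intro U a ha s
  have hle : U ≤ (⟨⊤, isAffineOpen_top P'⟩ : P'.affineOpens) := le_top (a := (U : P'.Opens))
  rw [← t'.ker.map_ideal hle, h, Ideal.map_map] at ha
  induction ha using Submodule.span_induction with
  | mem x hx =>
    obtain ⟨b, hb, rfl⟩ := hx
    have h0 : RegImm10.ExtVanish.smulEnd (π.appTop b) ((Scheme.Modules.pullback π).obj N) = 0 := by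
      rw [← pullback_smulEnd, smulEnd_eq_zero_of_killed t hN hb, Functor.map_zero]
    have h1 := congrArg (fun φ => φ.app U.1 s) h0
    exact (RegImm10.ExtVanish.smulEnd_app _ _ U.1 s).symm.trans h1
  | zero => exact zero_smul _ s
  | add x y _ _ hx hy => rw [add_smul, hx, hy, add_zero]
  | smul c x _ hx => rw [smul_eq_mul, mul_smul, hx, smul_zero]

/-- Base change for a closed immersion, on all modules. -/
def closedBC (t : X ⟶ P) [IsClosedImmersion t] [IsAffine P] (t' : X' ⟶ P') [IsClosedImmersion t']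
    [IsAffine P'] (π : P' ⟶ P) (π' : X' ⟶ X) (w : t' ≫ π = π' ≫ t)
    (h : t'.ker.ideal ⟨⊤, isAffineOpen_top P'⟩ = (t.ker.ideal ⟨⊤, isAffineOpen_top P⟩).map π.appTop.hom) :
    Scheme.Modules.pushforward t ⋙ Scheme.Modules.pullback π ≅
      Scheme.Modules.pullback π' ⋙ Scheme.Modules.pushforward t' :=
  let F := Scheme.Modules.pushforward t ⋙ Scheme.Modules.pullback π
  haveI : ∀ M, IsIso ((Functor.whiskerLeft F (Scheme.Modules.pullbackPushforwardAdjunction t').unit).app M) := fun M => by
    haveI := GSS45.ClosedHom.full_pushforward t'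
    haveI := QC70.faithful_pushforward t'
    exact (Scheme.Modules.pullbackPushforwardAdjunction t').isIso_unit_app_of_iso
      (GSS45.Descend.descIso (isKilled_pullback t t' π h (GSS45.Descend.isKilled_pushforward t M))).symm
  haveI : IsIso (Functor.whiskerLeft F (Scheme.Modules.pullbackPushforwardAdjunction t').unit) :=
    NatIso.isIso_of_isIso_app _
  asIso (Functor.whiskerLeft F (Scheme.Modules.pullbackPushforwardAdjunction t').unit) ≪≫
    Functor.isoWhiskerRight
      (Functor.associator _ _ _ ≪≫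
        Functor.isoWhiskerLeft _ (Scheme.Modules.pullbackComp t' π ≪≫ Scheme.Modules.pullbackCongr w ≪≫
          (Scheme.Modules.pullbackComp π' t).symm) ≪≫ (Functor.associator _ _ _).symm ≪≫
        Functor.isoWhiskerRight (GSS45.ClosedHom.counitIso t) _ ≪≫ Functor.leftUnitor _)
      (Scheme.Modules.pushforward t')

end Groth.Agent.RelPCSch41
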