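import Groth.Agent.RelPCSch41.Comp
import Groth.Agent.TorStalk41.Pull

/-!
Relative perfect amplitude and composition.
-/

set_option autoImplicit false
set_option backward.isDefEq.respectTransparency.types false
set_option linter.style.haveILetI false
set_option linter.unusedSectionVars false
set_option maxHeartbeats 400000

noncomputable section

universe u

open CategoryTheory Limits AlgebraicGeometry
open Groth.Agent.DR39
attribute [local instance] HasDerivedCategory.standard

namespace Groth.Agent.RelPCSch41

variable {X Y : Scheme.{u}} {f : X ⟶ Y}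

/-- Tor amplitude bounds the cohomology above. -/
theorem isLE_of_hasTorAmplitude {a b : ℤ} {F : CochainComplex X.Modules ℤ} (h : DerSch.HasTorAmplitude f a b F) :
    (DCoh.toD X F).IsLE b := by
  refine (DerivedCategory.isLE_iff _ _).2 fun i hi => ?_
  refine IsZero.of_iso ?_ ((DerivedCategory.homologyFunctorFactors X.Modules i).app F)
  refine DCK91.isZero_of_stalks fun x => isZero_of_isZero_restrict (f.stalkMap x).hom _ ?_
  refine IsZero.of_iso ?_ ((F.sc i).mapHomologyIso (TorStalk41.SO f x)).symm
  exact (isZero_HF_Q_iff ((TorStalk41.SOc f x).obj F) i).1 (TA.acyc (h x) i (by omega))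

theorem perfAmpRel_comp {Z : Scheme.{u}} (f : X ⟶ Y) (g : Y ⟶ Z) [LocallyOfFiniteType f] [LocallyOfFiniteType g]
    (n : ℕ) (hg : DerSch.HasPerfDimLE g n) {a b : ℤ} {F : CochainComplex X.Modules ℤ}
    (hF : DerSch.HasPerfAmplitudeRel f a b F) : DerSch.HasPerfAmplitudeRel (f ≫ g) (a - n) b F :=
  ⟨fun m => rel_comp (isLE_of_hasTorAmplitude hF.2) (hg.1 (m - b)) (by omega) (hF.1 m),
    TorStalk41.hasTorAmplitude_comp f g (f ≫ g) rfl hg.2 hF.2⟩

end Groth.Agent.RelPCSch41
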