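import Groth.Agent.RelPCSch41.TensorRel
import Groth.Agent.RelPCSch41.FlatBC
import Groth.Agent.RelPCSch41.Comp
import Groth.Agent.RelPCSch41.ClosedSmooth
import Groth.Agent.RelPCSch41.PerfComp
import Groth.Agent.TorStalk41.Extern

/-!
Relative pseudo-coherence of `E ⊗ Lf^*F` for a composite.
-/

set_option autoImplicit false
set_option backward.isDefEq.respectTransparency.types false
set_option linter.style.haveILetI false
set_option linter.unusedSectionVars false
set_option maxHeartbeats 1000000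

noncomputable section

universe u

open CategoryTheory Limits AlgebraicGeometry
open Groth.Agent.DCX42
attribute [local instance] HasDerivedCategory.standard

namespace Groth.Agent.RelPCSch41

/-- The ideal of a closed immersion into an affine scheme, on global sections. -/
theorem ker_imm_top {X : Scheme.{u}} (U : X.Opens) {P : Type u} [CommRing P] (ψ : P →+* Γ(X, U))
    [IsClosedImmersion (imm U ψ)] :
    (imm U ψ).ker.ideal ⟨⊤, isAffineOpen_top _⟩ =
      (RingHom.ker ψ).map (Scheme.ΓSpecIso (CommRingCat.of P)).inv.hom := by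
  rw [Scheme.Hom.ker_apply]
  show RingHom.ker (imm U ψ).appTop.hom = _
  let e := (Scheme.ΓSpecIso (CommRingCat.of P)).commRingCatIsoToRingEquiv
  have h := imm_appTop ψ (U := U)
  rw [show (RingHom.ker ψ).map (Scheme.ΓSpecIso (CommRingCat.of P)).inv.hom = (RingHom.ker ψ).map e.symm.toRingHom from rfl,
    show (RingHom.ker ψ).map e.symm.toRingHom = (RingHom.ker ψ).comap e.toRingHom from Ideal.map_symm e]
  ext a
  simp only [RingHom.mem_ker, Ideal.mem_comap]
  have ha : (imm U ψ).appTop ((Scheme.ΓSpecIso (CommRingCat.of P)).inv (e a)) = U.topIso.inv (ψ (e a)) :=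
    congr($h (e a))
  rw [show (Scheme.ΓSpecIso (CommRingCat.of P)).inv (e a) = a from e.symm_apply_apply a] at ha
  rw [ha]
  exact ⟨fun H => (U.topIso.symm.commRingCatIsoToRingEquiv.map_eq_zero_iff).1 H,
    fun H => (U.topIso.symm.commRingCatIsoToRingEquiv.map_eq_zero_iff).2 H⟩

/-- The ideal of a closed immersion of spectra, on global sections. -/
theorem ker_specMap_top {P Q : CommRingCat.{u}} (q : P ⟶ Q) [IsClosedImmersion (Spec.map q)] :
    (Spec.map q).ker.ideal ⟨⊤, isAffineOpen_top _⟩ = (RingHom.ker q.hom).map (Scheme.ΓSpecIso P).inv.hom := by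
  rw [Scheme.Hom.ker_apply]
  show RingHom.ker (Spec.map q).appTop.hom = _
  let e := (Scheme.ΓSpecIso P).commRingCatIsoToRingEquiv
  rw [show (RingHom.ker q.hom).map (Scheme.ΓSpecIso P).inv.hom = (RingHom.ker q.hom).map e.symm.toRingHom from rfl,
    show (RingHom.ker q.hom).map e.symm.toRingHom = (RingHom.ker q.hom).comap e.toRingHom from Ideal.map_symm e]
  ext a
  simp only [RingHom.mem_ker, Ideal.mem_comap]
  have ha := congr($(Scheme.ΓSpecIso_naturality q) a)
  simp only [CommRingCat.comp_apply] at ha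
  show (Spec.map q).appTop a = 0 ↔ q ((Scheme.ΓSpecIso P).hom a) = 0
  rw [← ha]
  exact ((Scheme.ΓSpecIso Q).commRingCatIsoToRingEquiv.map_eq_zero_iff).symm

theorem appTop_specMap {P Q : CommRingCat.{u}} (q : P ⟶ Q) :
    (Scheme.ΓSpecIso P).inv ≫ (Spec.map q).appTop = q ≫ (Scheme.ΓSpecIso Q).inv := by
  rw [Iso.inv_comp_eq, ← Category.assoc, Iso.eq_comp_inv]
  exact Scheme.ΓSpecIso_naturality q

variable {X Y Z : Scheme.{u}} {f : X ⟶ Y} {g : Y ⟶ Z}

/-- The pulled back second factor on the chart of a composite. -/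
theorem rel_pull_chart [LocallyOfFiniteType g] {c : ℤ} {V : Y.Opens} {W : Z.Opens} (hV : IsAffineOpen V)
    (h' : V ≤ g ⁻¹ᵁ W) {n : ℕ} {ψ : MvPolynomial (Fin n) Γ(Z, W) →+* Γ(Y, V)} (hψ : DerSch.IsChart g V W h' ψ)
    (k : ℕ) [IsClosedImmersion (Spec.map (CommRingCat.ofHom (MvPolynomial.map (σ := Fin k) ψ)))]
    {P : CochainComplex Y.Modules ℤ} (hP : Good g c (DerivedCategory.Q.obj P) V W) :
    DerSch.IsPseudoCoherentRel (Spec.map (CommRingCat.ofHom (MvPolynomial.map (σ := Fin k) ψ))) c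
      (DerivedCategory.Q.obj (((Scheme.Modules.pullback
        (Spec.map (CommRingCat.ofHom (MvPolynomial.C (σ := Fin k) (R := Γ(Y, V)))) ≫ hV.fromSpec)).mapHomologicalComplex
          (ComplexShape.up ℤ)).obj P)) := by
  let R₀ := MvPolynomial (Fin n) Γ(Z, W)
  let q : MvPolynomial (Fin k) R₀ →+* MvPolynomial (Fin k) Γ(Y, V) := MvPolynomial.map ψ
  let t := Spec.map (CommRingCat.ofHom q)
  let t₀ := imm V ψ
  haveI := isClosedImmersion_imm hV hψ.1
  let πP := Spec.map (CommRingCat.ofHom (MvPolynomial.C (σ := Fin k) (R := R₀)))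
  let πV := Spec.map (CommRingCat.ofHom (MvPolynomial.C (σ := Fin k) (R := Γ(Y, V)))) ≫ hV.isoSpec.inv
  haveI : Flat πP := by
    rw [HasRingHomProperty.Spec_iff (P := @Flat)]
    exact RingHom.flat_algebraMap_iff.2 (inferInstance : Module.Flat R₀ (MvPolynomial (Fin k) R₀))
  have hι : V.toSpecΓ = hV.isoSpec.hom := rfl
  have w : t ≫ πP = πV ≫ t₀ := by
    simp only [t, t₀, πP, πV, q, imm, hι, Category.assoc, Iso.inv_hom_id_assoc]
    rw [← Spec.map_comp, ← Spec.map_comp, ← CommRingCat.ofHom_comp, ← CommRingCat.ofHom_comp]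
    congr 2
    exact RingHom.ext fun a => by simp
  have hker : t.ker.ideal ⟨⊤, isAffineOpen_top _⟩ =
      (t₀.ker.ideal ⟨⊤, isAffineOpen_top _⟩).map πP.appTop.hom := by
    rw [ker_imm_top, ker_specMap_top, Ideal.map_map, ← CommRingCat.hom_comp, appTop_specMap, CommRingCat.hom_comp,
      ← Ideal.map_map]
    congr 1
    exact MvPolynomial.ker_map ψ
  let PV := ((Scheme.Modules.restrictFunctor V.ι).mapHomologicalComplex (ComplexShape.up ℤ)).obj P
  have h0 : DCoh.IsPseudoCoherentD c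
      (DerivedCategory.Q.obj (((Scheme.Modules.pushforward t₀).mapHomologicalComplex (ComplexShape.up ℤ)).obj PV)) :=
    isPC_of_iso ((pushD t₀).mapIso (resQ V.ι P) ≪≫ pushQ t₀ PV) ((good_iff_pc hV h' hψ).1 hP)
  haveI := DCK91.hasLpull πP
  obtain ⟨eL⟩ := nonempty_lpull_flat πP (((Scheme.Modules.pushforward t₀).mapHomologicalComplex (ComplexShape.up ℤ)).obj PV)
  have h1 := isPC_of_iso eL (DCX42.isPC_Lpull πP h0)
  haveI : LocallyOfFiniteType (t ≫ 𝟙 _) := by rw [Category.comp_id]; infer_instance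
  have h2 := fun (K : DCoh.D (Spec (CommRingCat.of (MvPolynomial (Fin k) Γ(Y, V))))) =>
    rel_closed_smooth_iff t (𝟙 (Spec (CommRingCat.of (MvPolynomial (Fin k) R₀)))) (m := c) (K := K)
  simp only [Category.comp_id] at h2
  refine (h2 _).2 (isPC_of_iso ?_ h1)
  let η : Scheme.Modules.restrictFunctor V.ι ⋙ Scheme.Modules.pushforward t₀ ⋙ Scheme.Modules.pullback πP ≅
      Scheme.Modules.pullback (Spec.map (CommRingCat.ofHom (MvPolynomial.C (σ := Fin k) (R := Γ(Y, V)))) ≫ hV.fromSpec) ⋙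
        Scheme.Modules.pushforward t :=
    Functor.isoWhiskerLeft _ (closedBC t₀ t πP πV w hker) ≪≫ (Functor.associator _ _ _).symm ≪≫
      Functor.isoWhiskerRight (Functor.isoWhiskerRight (Scheme.Modules.restrictFunctorIsoPullback V.ι) _ ≪≫
        Scheme.Modules.pullbackComp πV V.ι ≪≫ Scheme.Modules.pullbackCongr (by
          simp only [πV, Category.assoc]; rfl)) _
  exact DerivedCategory.Q.mapIso ((NatIso.mapHomologicalComplex η (ComplexShape.up ℤ)).app P) ≪≫
    (pushQ t (((Scheme.Modules.pullback (Spec.map (CommRingCat.ofHom (MvPolynomial.C (σ := Fin k) (R := Γ(Y, V)))) ≫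
      hV.fromSpec)).mapHomologicalComplex (ComplexShape.up ℤ)).obj P)).symm

/-- `E ⊗ f^*P` is relatively pseudo-coherent for the composite. -/
theorem rel_comp_tensor [LocallyOfFiniteType f] [LocallyOfFiniteType g] {a b c d m : ℤ}
    {E : CochainComplex X.Modules ℤ} (hE : DerSch.IsPseudoCoherentRel f a (DerivedCategory.Q.obj E))
    (hb : (DerivedCategory.Q.obj E).IsLE b) {P : CochainComplex Y.Modules ℤ}
    (hPd : ∀ i, d < i → IsZero (P.X i)) (hPf : ∀ i, FlatMod.IsFlat (P.X i))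
    (hP : DerSch.IsPseudoCoherentRel g c (DerivedCategory.Q.obj P)) (hm : a + d ≤ m) (hm' : c + b ≤ m) :
    DerSch.IsPseudoCoherentRel (f ≫ g) m (DerivedCategory.Q.obj
      ((tF (((Scheme.Modules.pullback f).mapHomologicalComplex (ComplexShape.up ℤ)).obj P)).obj E)) := by
  refine rel_of_good fun x => ?_
  obtain ⟨U, V, W, hxU, hU, hV, hW, h, h'⟩ := exists_affine_triple f g x
  refine ⟨U, W, hxU, hU, hW, ?_⟩
  obtain ⟨n, φg, hφg⟩ := exists_chart_of_ft (f := g) hV hW h'
  obtain ⟨k, φf, hφf⟩ := exists_chart_of_ft (f := f) hU hV h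
  let q : MvPolynomial (Fin k) (MvPolynomial (Fin n) Γ(Z, W)) →+* MvPolynomial (Fin k) Γ(Y, V) :=
    MvPolynomial.map φg
  have hq : Function.Surjective q := MvPolynomial.map_surjective _ hφg.1
  haveI : IsClosedImmersion (Spec.map (CommRingCat.ofHom q)) :=
    IsClosedImmersion.spec_of_surjective (CommRingCat.ofHom q) hq
  haveI := isClosedImmersion_imm hU hφf.1
  haveI := isClosedImmersion_imm hU (ψ := φf.comp q) (hφf.1.comp hq)
  haveI : Module.Flat Γ(Z, W) (MvPolynomial (Fin k) (MvPolynomial (Fin n) Γ(Z, W))) :=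
    Module.Flat.trans Γ(Z, W) (MvPolynomial (Fin n) Γ(Z, W)) _
  haveI : Algebra.FinitePresentation Γ(Z, W) (MvPolynomial (Fin k) (MvPolynomial (Fin n) Γ(Z, W))) :=
    Algebra.FinitePresentation.mvPolynomial_of_finitePresentation _
  have hle : U ≤ (f ≫ g) ⁻¹ᵁ W := h.trans (f.preimage_mono h')
  have hc : (φf.comp q).comp (algebraMap Γ(Z, W) (MvPolynomial (Fin k) (MvPolynomial (Fin n) Γ(Z, W)))) =
      ((f ≫ g).appLE W U hle).hom := by
    rw [← f.appLE_comp_appLE g W V U h' h, CommRingCat.hom_comp, ← hφg.2, ← hφf.2]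
    refine RingHom.ext fun a => ?_
    change φf (MvPolynomial.map φg (MvPolynomial.C (MvPolynomial.C a))) = φf (MvPolynomial.C (φg (MvPolynomial.C a)))
    rw [MvPolynomial.map_C]
  rw [good_iff hU hle (φf.comp q) (hφf.1.comp hq) hc, pcat_iff_pc]
  let s := imm U φf
  let t := Spec.map (CommRingCat.ofHom q)
  have hi : s ≫ t = imm U (φf.comp q) := by
    simp only [s, t, imm, Category.assoc, ← Spec.map_comp, ← CommRingCat.ofHom_comp]
  refine isPC_of_iso ((pushDComp s t ≪≫ pushDCongr hi).app _) ?_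
  let π := Spec.map (CommRingCat.ofHom (MvPolynomial.C (σ := Fin k) (R := Γ(Y, V)))) ≫ hV.fromSpec
  have hsπ : s ≫ π = U.ι ≫ f := by
    simp only [s, π, imm, Category.assoc]
    rw [← Spec.map_comp_assoc, ← CommRingCat.ofHom_comp, hφf.2, CommRingCat.ofHom_hom,
      hV.SpecMap_appLE_fromSpec f hU, ← Category.assoc, hU.toSpecΓ_fromSpec]
  let M := ((Scheme.Modules.pullback π).mapHomologicalComplex (ComplexShape.up ℤ)).obj P
  let E' := (resCx U.ι).obj E
  have hMd : ∀ i, d < i → IsZero (M.X i) := fun i hi => Functor.map_isZero _ (hPd i hi)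
  have hMf : ∀ i, FlatMod.IsFlat (M.X i) := fun i => DCK91.isFlat_pullback π _ (hPf i)
  have hM := rel_pull_chart hV h' hφg k (good_of_rel hP hV hW h')
  have hC : DCoh.IsPseudoCoherentD a
      (DerivedCategory.Q.obj (((Scheme.Modules.pushforward s).mapHomologicalComplex (ComplexShape.up ℤ)).obj E')) :=
    isPC_of_iso ((pushD s).mapIso (resQ U.ι E) ≪≫ pushQ s E') ((good_iff_pc hU h hφf).1 (good_of_rel hE hU hV h))
  have hCb : (DerivedCategory.Q.obj (((Scheme.Modules.pushforward s).mapHomologicalComplex (ComplexShape.up ℤ)).obj E')).IsLE b := by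
    haveI : DerivedCategory.TStructure.t.IsLE ((pushD s).obj ((resD U.ι).obj (DerivedCategory.Q.obj E))) b :=
      isLE_push_resD s hb
    exact DerivedCategory.TStructure.t.isLE_of_iso ((pushD s).mapIso (resQ U.ι E) ≪≫ pushQ s E') b
  have hrel := rel_tF hMd hMf hM hC hCb hm hm'
  haveI : LocallyOfFiniteType (t ≫ 𝟙 _) := by rw [Category.comp_id]; infer_instance
  have h2 := fun (K : DCoh.D (Spec (CommRingCat.of (MvPolynomial (Fin k) Γ(Y, V))))) =>
    rel_closed_smooth_iff t (𝟙 (Spec (CommRingCat.of (MvPolynomial (Fin k) (MvPolynomial (Fin n) Γ(Z, W))))))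
      (m := m) (K := K)
  simp only [Category.comp_id] at h2
  let P' := ((Scheme.Modules.pullback f).mapHomologicalComplex (ComplexShape.up ℤ)).obj P
  obtain ⟨e₁⟩ := nonempty_res_tF U.ι E P'
  obtain ⟨e₂⟩ := nonempty_pushTotIso s E' M
  let ν : Scheme.Modules.pullback f ⋙ Scheme.Modules.restrictFunctor U.ι ≅
      Scheme.Modules.pullback π ⋙ Scheme.Modules.pullback s :=
    Functor.isoWhiskerLeft _ (Scheme.Modules.restrictFunctorIsoPullback U.ι) ≪≫
      Scheme.Modules.pullbackComp U.ι f ≪≫ Scheme.Modules.pullbackCongr hsπ.symm ≪≫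
        (Scheme.Modules.pullbackComp s π).symm
  let e₃ : (resCx U.ι).obj P' ≅
      ((Scheme.Modules.pullback s).mapHomologicalComplex (ComplexShape.up ℤ)).obj M :=
    (NatIso.mapHomologicalComplex ν (ComplexShape.up ℤ)).app P
  refine isPC_of_iso ((pushD t).mapIso ?_) ((h2 _).1 hrel)
  exact DerivedCategory.Q.mapIso (e₂ ≪≫
      ((Scheme.Modules.pushforward s).mapHomologicalComplex (ComplexShape.up ℤ)).mapIso
        (((DCoh.tensorCx (X := (U : Scheme.{u}))).obj E').mapIso e₃.symm ≪≫ e₁.symm)) ≪≫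
    (pushQ s _).symm ≪≫ (pushD s).mapIso (resQ U.ι _).symm

/-- The derived tensor product with the derived inverse image, for a composite. -/
theorem rel_comp_ltensor [LocallyOfFiniteType f] [LocallyOfFiniteType g] {a b c d : ℤ}
    (E : CochainComplex X.Modules ℤ) (hE : DerSch.IsPseudoCoherentRel f a (DCoh.toD X E))
    (hb : (DCoh.toD X E).IsLE b) (F : DCoh.D Y) (hF : DerSch.IsPseudoCoherentRel g c F) (hd : F.IsLE d)
    [DCoh.HasLpull f] [DCoh.HasLTensorCx E] :
    DerSch.IsPseudoCoherentRel (f ≫ g) (max (a + d) (b + c)) ((DCoh.LTensorCx E).obj ((DCoh.Lpull f).obj F)) ∧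
      ((DCoh.LTensorCx E).obj ((DCoh.Lpull f).obj F)).IsLE (b + d) := by
  obtain ⟨G, hG, ⟨e⟩⟩ := DerivedCategory.exists_iso_Q_obj_of_isLE F d
  obtain ⟨P, p, hPd, hPfl, hp⟩ := DCK91.exists_flat_res_le (O := Y.sheaf) G d
    (inferInstanceAs (CochainComplex.IsLE (C := Y.Modules) G d))
  haveI : IsIso (DerivedCategory.Q.map (C := CochainComplex Y.Modules ℤ) p) :=
    (DerivedCategory.isIso_Q_map_iff_quasiIso Y.Modules p).2 hp
  have hPf : ∀ i, FlatMod.IsFlat ((P : CochainComplex Y.Modules ℤ).X i) := fun i => DCK91.flatMod_of_isFlat _ (hPfl i)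
  obtain ⟨hk, hf'⟩ := DCK91.kff_of_le (X := Y) P d hPd hPf
  let e' : F ≅ DerivedCategory.Q.obj (P : CochainComplex Y.Modules ℤ) :=
    e ≪≫ (asIso (DerivedCategory.Q.map (C := CochainComplex Y.Modules ℤ) p)).symm
  let P' := ((Scheme.Modules.pullback f).mapHomologicalComplex (ComplexShape.up ℤ)).obj P
  obtain ⟨l⟩ := DCK91.nonempty_lpullIso f P hk
  obtain ⟨t⟩ := TorStalk41.nonempty_ltensorIso E P' (DCK91.isKFlat_pullback f P hk)
  let eL : (DCoh.LTensorCx E).obj ((DCoh.Lpull f).obj F) ≅ DerivedCategory.Q.obj ((tF P').obj E) :=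
    (DCoh.LTensorCx E).mapIso ((DCoh.Lpull f).mapIso e' ≪≫ l) ≪≫ t ≪≫
      DerivedCategory.Q.mapIso (Mod48.tcSymm (O := X.sheaf) P' E)
  refine ⟨rel_congr eL.symm (rel_comp_tensor (d := d) hE hb hPd hPf (rel_congr e' hF)
    (le_max_left _ _) (by omega)), ?_⟩
  haveI := isLE_tF (M := P') (d := d) (fun i hi => Functor.map_isZero _ (hPd i hi))
    (fun i => DCK91.isFlat_pullback f _ (hPf i)) hb
  exact DerivedCategory.TStructure.t.isLE_of_iso eL.symm (b + d)

end Groth.Agent.RelPCSch41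

namespace Groth.Agent.RelPCSch41

variable {X Y Z : Scheme.{u}} {f : X ⟶ Y} {g : Y ⟶ Z}

/-- `O ⊗ P = P`. -/
def tFUnitIso (P : CochainComplex X.Modules ℤ) : (tF P).obj (DerSch.unitCx X) ≅ P :=
  (DerComp18.tcLIso (O := X.sheaf) (Coh.structureModule X) 0 P).symm ≪≫
    (CategoryTheory.shiftFunctor _ (-(0 : ℤ))).mapIso
      ((NatIso.mapHomologicalComplex (Mod48.tensUnit (O := X.sheaf)) (ComplexShape.up ℤ)).app P ≪≫
        (Functor.mapHomologicalComplexIdIso X.Modules (ComplexShape.up ℤ)).app P) ≪≫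
    (shiftFunctorZero' _ (-(0 : ℤ)) neg_zero).app P

/-- The derived inverse image of a relatively pseudo-coherent object, for a composite. -/
theorem rel_comp_lpull [LocallyOfFiniteType f] [LocallyOfFiniteType g] {a c d : ℤ}
    (hf : DerSch.IsPseudoCoherentRel f a (DCoh.toD X (DerSch.unitCx X))) (F : DCoh.D Y)
    (hF : DerSch.IsPseudoCoherentRel g c F) (hd : F.IsLE d) [DCoh.HasLpull f] :
    DerSch.IsPseudoCoherentRel (f ≫ g) (max (a + d) c) ((DCoh.Lpull f).obj F) := by
  obtain ⟨G, hG, ⟨e⟩⟩ := DerivedCategory.exists_iso_Q_obj_of_isLE F d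
  obtain ⟨P, p, hPd, hPfl, hp⟩ := DCK91.exists_flat_res_le (O := Y.sheaf) G d
    (inferInstanceAs (CochainComplex.IsLE (C := Y.Modules) G d))
  haveI : IsIso (DerivedCategory.Q.map (C := CochainComplex Y.Modules ℤ) p) :=
    (DerivedCategory.isIso_Q_map_iff_quasiIso Y.Modules p).2 hp
  have hPf : ∀ i, FlatMod.IsFlat ((P : CochainComplex Y.Modules ℤ).X i) := fun i => DCK91.flatMod_of_isFlat _ (hPfl i)
  obtain ⟨hk, -⟩ := DCK91.kff_of_le (X := Y) P d hPd hPf
  let e' : F ≅ DerivedCategory.Q.obj (P : CochainComplex Y.Modules ℤ) :=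
    e ≪≫ (asIso (DerivedCategory.Q.map (C := CochainComplex Y.Modules ℤ) p)).symm
  obtain ⟨l⟩ := DCK91.nonempty_lpullIso f P hk
  exact rel_congr ((DCoh.Lpull f).mapIso e' ≪≫ l ≪≫ DerivedCategory.Q.mapIso (tFUnitIso _).symm).symm
    (rel_comp_tensor (d := d) (b := 0) hf (isLE_unit X) hPd hPf (rel_congr e' hF)
      (le_max_left _ _) (by omega))

/-- Relative perfectness of `E ⊗ Lf^*F` for a composite. -/
theorem perfAmpRel_comp_ltensor [LocallyOfFiniteType f] [LocallyOfFiniteType g] {a b c d : ℤ}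
    {E : CochainComplex X.Modules ℤ} (hE : DerSch.HasPerfAmplitudeRel f a b E) {F : CochainComplex Y.Modules ℤ}
    (hF : DerSch.HasPerfAmplitudeRel g c d F) [DCoh.HasLpull f] [DCoh.HasLTensorCx E]
    (K : CochainComplex X.Modules ℤ)
    (e : DCoh.toD X K ≅ (DCoh.LTensorCx E).obj ((DCoh.Lpull f).obj (DCoh.toD Y F))) :
    DerSch.HasPerfAmplitudeRel (f ≫ g) (a + c) (b + d) K :=
  ⟨fun m => rel_congr e.symm (rel_mono (by omega)
      (rel_comp_ltensor (a := m - d) (c := m - b) E (hE.1 _) (isLE_of_hasTorAmplitude hE.2) _ (hF.1 _)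
        (isLE_of_hasTorAmplitude hF.2)).1),
    TorStalk41.hasTorAmplitudeD_ltensor_Lpull f g (f ≫ g) rfl hE.2 hF.2 K ⟨e⟩⟩

/-- Relative perfectness of `Lf^*G` for a composite. -/
theorem perfAmpRel_comp_lpull [LocallyOfFiniteType f] [LocallyOfFiniteType g] {c d : ℤ} (k : ℕ)
    (hf : DerSch.HasPerfDimLE f k) {G : CochainComplex Y.Modules ℤ} (hG : DerSch.HasPerfAmplitudeRel g c d G)
    [DCoh.HasLpull f] (K : CochainComplex X.Modules ℤ) (e : DCoh.toD X K ≅ (DCoh.Lpull f).obj (DCoh.toD Y G)) :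
    DerSch.HasPerfAmplitudeRel (f ≫ g) (c - k) d K :=
  ⟨fun m => rel_congr e.symm (rel_mono (by omega)
      (rel_comp_lpull (a := m - d) (c := m) (hf.1 _) _ (hG.1 _) (isLE_of_hasTorAmplitude hG.2))),
    TorStalk41.hasTorAmplitudeD_Lpull f g (f ≫ g) rfl hf.2 hG.2 K ⟨e⟩⟩

end Groth.Agent.RelPCSch41
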