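import Groth.Agent.PCoh41.Devissage

/-!
Dévissage along terms and along cohomology for a degree-indexed predicate.
-/

set_option autoImplicit false

noncomputable section

universe w v u

open CategoryTheory CategoryTheory.Limits HomologicalComplex Pretriangulated
open Groth.Agent.PCoh41

namespace Groth.Agent.RelPCSch41

variable {C : Type u} [Category.{v} C] [Abelian C] [HasDerivedCategory.{w} C]

/-- A predicate behaving like `m`-pseudo-coherence. -/
structure PCLike (Φ : ℤ → DerivedCategory C → Prop) : Prop where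
  iso : ∀ {m : ℤ} {K L : DerivedCategory C}, (K ≅ L) → Φ m K → Φ m L
  low : ∀ {m : ℤ} {K : DerivedCategory C}, K.IsLE (m - 1) → Φ m K
  shift : ∀ {m : ℤ} {K : DerivedCategory C}, Φ m K → ∀ k : ℤ, Φ (m - k) (K⟦k⟧)
  ext : ∀ {m : ℤ} (T : Triangle (DerivedCategory C)), T ∈ distTriang _ → Φ m T.obj₁ → Φ m T.obj₃ → Φ m T.obj₂

variable {Φ : ℤ → DerivedCategory C → Prop}

theorem PCLike.of_single (hΦ : PCLike Φ) {n i : ℤ} {X : C}
    (h : Φ (n - i) ((DerivedCategory.singleFunctor C 0).obj X)) :
    Φ n (DerivedCategory.Q.obj ((single C (ComplexShape.up ℤ) i).obj X)) := by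
  have := hΦ.shift h (-i)
  rw [sub_neg_eq_add, sub_add_cancel] at this
  exact hΦ.iso (singleShiftIso i X) this

theorem PCLike.zero (hΦ : PCLike Φ) (n : ℤ) {X : C} (hX : IsZero X) :
    Φ n ((DerivedCategory.singleFunctor C 0).obj X) :=
  hΦ.low ((DerivedCategory.isLE_iff _ _).2 fun i _ =>
    ((DerivedCategory.singleFunctor C 0 ⋙ DerivedCategory.homologyFunctor C i).map_isZero hX))

theorem PCLike.of_isoObj (hΦ : PCLike Φ) {n : ℤ} {X Y : C} (e : X ≅ Y)
    (h : Φ n ((DerivedCategory.singleFunctor C 0).obj X)) : Φ n ((DerivedCategory.singleFunctor C 0).obj Y) :=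
  hΦ.iso ((DerivedCategory.singleFunctor C 0).mapIso e) h

/-- Dévissage along terms. -/
theorem PCLike.of_terms (hΦ : PCLike Φ) (n : ℤ) (F : CochainComplex C ℤ) (b : ℤ)
    (hb : ∀ i, b < i → IsZero (F.X i))
    (hF : ∀ i, n ≤ i → Φ (n - i) ((DerivedCategory.singleFunctor C 0).obj (F.X i))) :
    Φ n (DerivedCategory.Q.obj F) := by
  suffices ∀ (k : ℕ) (b : ℤ), b - n < k → ∀ F : CochainComplex C ℤ, (∀ i, b < i → IsZero (F.X i)) →
      (∀ i, n ≤ i → Φ (n - i) ((DerivedCategory.singleFunctor C 0).obj (F.X i))) →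
      Φ n (DerivedCategory.Q.obj F) by
    exact this ((b - n).toNat + 1) b (by omega) F hb hF
  intro k
  induction k with
  | zero =>
    intro b hbn F hb _
    refine hΦ.low ((DerivedCategory.isLE_iff _ _).2 fun i hi => ?_)
    exact (HomologicalComplex.ExactAt.isZero_homology
      (HomologicalComplex.ExactAt.of_isZero (hb i (by omega)))).of_iso (hIso F i)
  | succ k ih =>
    intro b hbn F hb hF
    by_cases h : b < n
    · exact ih b (by omega) F hb hF
    let ι : (single C (ComplexShape.up ℤ) b).obj (F.X b) ⟶ F :=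
      mkHomFromSingle (𝟙 _) (fun j (hj : b + 1 = j) => (hb j (by omega)).eq_of_tgt _ _)
    have hι : ι.f b = (singleObjXSelf (ComplexShape.up ℤ) b (F.X b)).hom :=
      (mkHomFromSingle_f _ _).trans (Category.comp_id _)
    have : ∀ i, Mono (ι.f i) := fun i => by
      by_cases hi : i = b
      · subst hi; rw [hι]; infer_instance
      · exact ⟨fun g h _ => (isZero_single_obj_X _ b (F.X b) i hi).eq_of_tgt _ _⟩
    have : Mono ι := mono_of_mono_f ι this
    let S := ShortComplex.mk ι (cokernel.π ι) (cokernel.condition ι)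
    have hS : S.ShortExact := ShortComplex.ShortExact.mk (ShortComplex.exact_cokernel ι)
    have hSi : ∀ i, (S.map (eval C _ i)).ShortExact := fun i => hS.map_of_exact _
    have h₃ : ∀ i, b - 1 < i → IsZero ((cokernel ι).X i) := by
      intro i hi
      have := (hSi i).epi_g
      rcases eq_or_lt_of_le (show b ≤ i by omega) with rfl | hi'
      · have : (cokernel.π ι).f b = 0 := by
          have h0 := congr_arg (fun t : _ ⟶ cokernel ι => t.f b) (cokernel.condition ι)
          simp only [comp_f, zero_f, hι] at h0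
          exact (cancel_epi _).1 (h0.trans comp_zero.symm)
        exact IsZero.of_epi_eq_zero ((cokernel.π ι).f b) this
      · exact IsZero.of_epi ((cokernel.π ι).f i) (hb i hi')
    refine hΦ.ext _ (DerivedCategory.triangleOfSES_distinguished hS) (hΦ.of_single (hF b (by omega))) ?_
    refine ih (b - 1) (by omega) _ h₃ (fun i hi => ?_)
    by_cases hi' : b - 1 < i
    · exact hΦ.zero _ (h₃ i hi')
    · have := (hSi i).epi_g
      have : Mono ((cokernel.π ι).f i) := (hSi i).exact.mono_g
        ((isZero_single_obj_X (ComplexShape.up ℤ) b (F.X b) i (by omega)).eq_of_src _ _)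
      exact hΦ.of_isoObj (@asIso _ _ _ _ ((cokernel.π ι).f i) (isIso_of_mono_of_epi _)) (hF i hi)

/-- Dévissage along cohomology. -/
theorem PCLike.of_homology (hΦ : PCLike Φ) (n : ℤ) (X : DerivedCategory C) (b : ℤ) (hb : X.IsLE b)
    (hX : ∀ i, n ≤ i →
      Φ (n - i) ((DerivedCategory.singleFunctor C 0).obj ((DerivedCategory.homologyFunctor C i).obj X))) :
    Φ n X := by
  suffices ∀ (k : ℕ) (b : ℤ), b - n < k → ∀ X : DerivedCategory C, X.IsLE b →
      (∀ i, n ≤ i →
        Φ (n - i) ((DerivedCategory.singleFunctor C 0).obj ((DerivedCategory.homologyFunctor C i).obj X))) →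
      Φ n X by
    exact this ((b - n).toNat + 1) b (by omega) X hb hX
  intro k
  induction k with
  | zero => exact fun b hbn X hb _ => hΦ.low (DerivedCategory.TStructure.t.isLE_of_le X b (n - 1) (by omega))
  | succ k ih =>
    intro b hbn X hb hX
    by_cases h : b < n
    · exact ih b (by omega) X hb hX
    obtain ⟨A, B, hA', hB', f, g, δ, hT⟩ :=
      DerivedCategory.TStructure.t.exists_triangle X (b - 1) b (by omega)
    let H := DerivedCategory.homologyFunctor C
    have hAz : ∀ i, b ≤ i → IsZero ((H i).obj A) := fun i hi =>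
      @DerivedCategory.isZero_of_isLE _ _ _ _ A (b - 1) i (by omega) ⟨hA'⟩
    have hBz : ∀ i, i < b → IsZero ((H i).obj B) := fun i hi =>
      @DerivedCategory.isZero_of_isGE _ _ _ _ B b i hi ⟨hB'⟩
    have hBu : ∀ i, b < i → IsZero ((H i).obj B) := fun i hi =>
      (DerivedCategory.HomologySequence.exact₃ _ hT i (i + 1) rfl).isZero_X₂
        ((DerivedCategory.isZero_of_isLE X b i hi).eq_of_src _ _) ((hAz (i + 1) (by omega)).eq_of_tgt _ _)
    have : B.IsGE b := ⟨hB'⟩
    have : B.IsLE b := (DerivedCategory.isLE_iff B b).2 hBu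
    obtain ⟨Y, ⟨e⟩⟩ := DerivedCategory.exists_iso_singleFunctor_obj_of_isGE_of_isLE B b
    have hiso : IsIso ((H b).map g) := by
      have : Mono ((H b).map g) :=
        (DerivedCategory.HomologySequence.mono_homologyMap_mor₂_iff _ hT b).2
          ((hAz b le_rfl).eq_of_src _ _)
      have : Epi ((H b).map g) :=
        (DerivedCategory.HomologySequence.epi_homologyMap_mor₂_iff _ hT b (b + 1) rfl).2
          ((hAz (b + 1) (by omega)).eq_of_tgt _ _)
      exact isIso_of_mono_of_epi _
    have hAX : ∀ i, i < b → IsIso ((H i).map f) := fun i hi => by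
      have : Epi ((H i).map f) :=
        (DerivedCategory.HomologySequence.epi_homologyMap_mor₁_iff _ hT i).2
          ((hBz i hi).eq_of_tgt _ _)
      have : Mono ((H i).map f) :=
        (DerivedCategory.HomologySequence.mono_homologyMap_mor₁_iff _ hT (i - 1) i (by omega)).2
          ((hBz (i - 1) (by omega)).eq_of_src _ _)
      exact isIso_of_mono_of_epi _
    refine hΦ.ext _ hT (ih (b - 1) (by omega) A ⟨hA'⟩ (fun i hi => ?_))
      (hΦ.iso e.symm (hΦ.of_single
        (hΦ.of_isoObj (asIso ((H b).map g) ≪≫ (H b).mapIso e ≪≫ hSingleIso b Y) (hX b (by omega)))))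
    by_cases hib : i < b
    · have := hAX i hib
      exact hΦ.of_isoObj (asIso ((H i).map f)).symm (hX i hi)
    · exact hΦ.zero _ (hAz i (by omega))

end Groth.Agent.RelPCSch41
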