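import Groth.Agent.RelPCSch41.Basic
import Groth.Agent.RelPCSch41.GenDev

/-!
Dévissage for relative pseudo-coherence.
-/

set_option autoImplicit false
set_option backward.isDefEq.respectTransparency.types false
set_option linter.style.haveILetI false
set_option linter.unusedSectionVars false
set_option maxHeartbeats 400000

noncomputable section

universe u

open CategoryTheory Limits AlgebraicGeometry TopologicalSpace DerivedCategory
open Groth.Agent.DCX42
attribute [local instance] HasDerivedCategory.standard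

namespace Groth.Agent.RelPCSch41

variable {X Y : Scheme.{u}} {f : X ⟶ Y} {m : ℤ} {K : DCoh.D X}

theorem rel_of_isLE [LocallyOfFiniteType f] (h : K.IsLE (m - 1)) : DerSch.IsPseudoCoherentRel f m K :=
  rel_iff.2 fun U V hU hV hle => by
    obtain ⟨n, φ, hφ⟩ := exists_chart_of_ft (f := f) hU hV hle
    haveI := isClosedImmersion_imm hU hφ.1
    exact (good_iff_pc hU hle hφ).2 (isPC_of_isLE ((isLE_push_iff _ _ _).2 (isLE_map _ h)))

theorem rel_shift (h : DerSch.IsPseudoCoherentRel f m K) (k : ℤ) :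
    DerSch.IsPseudoCoherentRel f (m - k) (K⟦k⟧) :=
  haveI := h.1
  rel_iff.2 fun U V hU hV hle => by
    obtain ⟨n, φ, hφ⟩ := exists_chart_of_ft (f := f) hU hV hle
    haveI := isClosedImmersion_imm hU hφ.1
    exact (good_iff_pc hU hle hφ).2 (isPC_of_iso (((resD U.ι ⋙ pushD (imm U φ)).commShiftIso k).app K).symm
      (isPC_shift ((good_iff_pc hU hle hφ).1 (good_of_rel h hU hV hle)) k rfl))

theorem pcLike_rel (f : X ⟶ Y) [LocallyOfFiniteType f] :
    PCLike (fun m (K : DCoh.D X) => DerSch.IsPseudoCoherentRel f m K) where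
  iso e h := rel_congr e h
  low h := rel_of_isLE h
  shift h k := rel_shift h k
  ext T hT h₁ h₃ := rel₂ T hT h₁ h₃

theorem rel_mono {m n : ℤ} (hmn : m ≤ n) (h : DerSch.IsPseudoCoherentRel f m K) :
    DerSch.IsPseudoCoherentRel f n K :=
  haveI := h.1
  rel_iff.2 fun U V hU hV hle => by
    obtain ⟨k, φ, hφ⟩ := exists_chart_of_ft (f := f) hU hV hle
    haveI := isClosedImmersion_imm hU hφ.1
    exact (good_iff_pc hU hle hφ).2 (isPC_mono hmn ((good_iff_pc hU hle hφ).1 (good_of_rel h hU hV hle)))

/-- The cohomology above the degree of relative pseudo-coherence is quasi-coherent. -/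
theorem isQCoh_HD (h : DerSch.IsPseudoCoherentRel f m K) (i : ℤ) (hi : m < i) : Coh.IsQCoh (DCoh.HD K i) := by
  haveI := h.1
  refine isQCoh_of_local _ fun x => ?_
  obtain ⟨U, V, hxU, hU, hV, hle⟩ := exists_affine_pair f x
  obtain ⟨n, φ, hφ⟩ := exists_chart_of_ft (f := f) hU hV hle
  haveI := isClosedImmersion_imm hU hφ.1
  refine ⟨U, hxU, QC70.isQuasicoherent_of_iso
    ((Mod48.homologyMapDerivedIso (Scheme.Modules.restrictFunctor U.ι) i).app K) (isQCoh_of_push (imm U φ) ?_)⟩
  exact QC70.isQuasicoherent_of_iso (pushHD (imm U φ) _ i)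
    (isQCoh_HD_of_lt ((good_iff_pc hU hle hφ).1 (good_of_rel h hU hV hle)) i hi)

end Groth.Agent.RelPCSch41
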