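import Groth.Agent.RelPCSch41.NPC
import Groth.Agent.FlatMor67.PCScheme

/-!
Flat base change of `n`-pseudo-coherence.
-/

set_option autoImplicit false
set_option backward.isDefEq.respectTransparency.types false
set_option linter.style.haveILetI false
set_option linter.unusedSectionVars false
set_option maxHeartbeats 400000

noncomputable section

universe u

open CategoryTheory Limits AlgebraicGeometry TopologicalSpace DerivedCategory Opposite
open Groth.Agent.DCX42
open Groth.Agent.FlatMor67.PCH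
attribute [local instance] HasDerivedCategory.standard MvPolynomial.algebraMvPolynomial

namespace Groth.Agent.RelPCSch41

variable {X Y : Scheme.{u}} {f : X ⟶ Y}

/-- Goodness of the structure sheaf on a presentation of the sections. -/
theorem good_unit_iff {U : X.Opens} {V : Y.Opens} (hU : IsAffineOpen U) (h : U ≤ f ⁻¹ᵁ V) {n : ℕ} (m : ℤ) :
    letI := (f.appLE V U h).hom.toAlgebra
    ∀ (φ : MvPolynomial (Fin n) Γ(Y, V) →ₐ[Γ(Y, V)] Γ(X, U)), Function.Surjective φ →
      (Good f m (DCoh.toD X (DerSch.unitCx X)) U V ↔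
        (letI := φ.toRingHom.toAlgebra; DR39.PC m (Dual.inD (MvPolynomial (Fin n) Γ(Y, V)) Γ(X, U)))) := by
  letI := (f.appLE V U h).hom.toAlgebra
  intro φ hφ
  have hφ' : DerSch.IsChart f U V h φ.toRingHom := ⟨hφ, RingHom.ext fun r => φ.commutes r⟩
  haveI : (Coh.structureModule X).IsQuasicoherent := inferInstance
  rw [show Good f m (DCoh.toD X (DerSch.unitCx X)) U V ↔ Good f m (DCoh.inD X (Coh.structureModule X)) U V from
    ⟨fun H => H.congr (unitIso X), fun H => H.congr (unitIso X).symm⟩, good_inD_iff hU h hφ']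
  letI := φ.toRingHom.toAlgebra
  let e : (secMod U φ.toRingHom (Coh.structureModule X) : Type u) ≃ₗ[MvPolynomial (Fin n) Γ(Y, V)] Γ(X, U) :=
    { toFun := fun x => x
      invFun := fun x => x
      map_add' := fun _ _ => rfl
      map_smul' := fun _ _ => rfl
      left_inv := fun _ => rfl
      right_inv := fun _ => rfl }
  exact ⟨fun H => H.of_iso (DR39.inDIso e), fun H => H.of_iso (DR39.inDIso e).symm⟩

open TensorProduct in
theorem pc_baseChange_module {A B : Type u} [CommRing A] [CommRing B] [Algebra A B] [Module.Flat A B] {m : ℤ}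
    {M N : Type u} [AddCommGroup M] [Module A M] [AddCommGroup N] [Module B N] (e : (B ⊗[A] M) ≃ₗ[B] N)
    (h : DR39.PC m (Dual.inD A M)) : DR39.PC m (Dual.inD B N) := by
  obtain ⟨e'⟩ := DR39.rep_inD_baseChange (A := A) (B := B) M
  exact ((DR39.pc_map (DR39.extA A B) (DR39.pc_extendScalars_FF _) h).of_iso e').of_iso (DR39.inDIso e)

theorem npc_baseChange {X' Y' : Scheme.{u}} (f' : X' ⟶ Y') (g' : X' ⟶ X) (g : Y' ⟶ Y) [Flat g]
    [LocallyOfFiniteType f] [LocallyOfFiniteType f'] (hc : IsPullback g' f' f g) (m : ℤ)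
    (hf : DerSch.IsNPseudoCoherent f m) : DerSch.IsNPseudoCoherent f' m := by
  refine rel_of_good fun x' => ?_
  obtain ⟨U', V', hUV', hU', hV', hx', U, V, hUV, hU, hV, hVV, hUU, hfl, hp⟩ :=
    FlatMor67.PCS.bc_charts f f' g' g hc x'
  refine ⟨U', V', hx', hU', hV', ?_⟩
  obtain ⟨_, _, _⟩ := FlatMor67.PCS.alg_pushout hp
  letI := (f.appLE V U hUV).hom.toAlgebra
  letI := (g.appLE V V' hVV).hom.toAlgebra
  letI := (g'.appLE U U' hUU).hom.toAlgebra
  letI := (f'.appLE V' U' hUV').hom.toAlgebra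
  letI : Algebra Γ(Y, V) Γ(X', U') := ((g'.appLE U U' hUU).hom.comp (f.appLE V U hUV).hom).toAlgebra
  haveI : Module.Flat Γ(Y, V) Γ(Y', V') := hfl
  haveI : Algebra.FiniteType Γ(Y, V) Γ(X, U) := f.finiteType_appLE hV hU hUV
  obtain ⟨n, φ, hφ⟩ := FlatMor67.PCH.exists_surj Γ(Y, V) Γ(X, U)
  obtain ⟨φ', hφ', ⟨e⟩⟩ := FlatMor67.PCH.bc_square Γ(Y', V') Γ(X', U') n φ hφ
  have h1 := (good_unit_iff hU hUV m φ hφ).1 (good_of_rel hf hU hV hUV)
  refine (good_unit_iff hU' hUV' m φ' hφ').2 ?_
  letI := φ.toRingHom.toAlgebra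
  letI := φ'.toRingHom.toAlgebra
  haveI := FlatMor67.PCH.flat_mvPolynomial (A := Γ(Y, V)) Γ(Y', V') n
  exact pc_baseChange_module e h1

end Groth.Agent.RelPCSch41
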