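import Groth.Agent.RelPCSch41.CompTensor
import Groth.Agent.RelPCSch41.BaseChange

/-!
Flat base change of relative pseudo-coherence, for arbitrary objects.
-/

set_option autoImplicit false
set_option backward.isDefEq.respectTransparency.types false
set_option linter.style.haveILetI false
set_option linter.unusedSectionVars false
set_option maxHeartbeats 1000000

noncomputable section

universe u

open CategoryTheory Limits AlgebraicGeometry
open Groth.Agent.DCX42
attribute [local instance] HasDerivedCategory.standard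

namespace Groth.Agent.RelPCSch41

/-- A presentation pushed out along the base. -/
theorem exists_bc_presentation {A A' B B' : CommRingCat.{u}} {a : A ⟶ B} {b : A ⟶ A'} {c : B ⟶ B'} {d : A' ⟶ B'}
    (hp : IsPushout a b c d) {n : ℕ} (φ : MvPolynomial (Fin n) A →+* B) (hφ : Function.Surjective φ)
    (hC : φ.comp MvPolynomial.C = a.hom) :
    ∃ φ' : MvPolynomial (Fin n) A' →+* B', Function.Surjective φ' ∧ φ'.comp MvPolynomial.C = d.hom ∧
      φ'.comp (MvPolynomial.map b.hom) = c.hom.comp φ ∧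
      RingHom.ker φ' = (RingHom.ker φ).map (MvPolynomial.map b.hom) := by
  let φ' : MvPolynomial (Fin n) A' →+* B' := MvPolynomial.eval₂Hom d.hom fun i => c.hom (φ (MvPolynomial.X i))
  have hC' : φ'.comp MvPolynomial.C = d.hom := RingHom.ext fun r => by simp [φ']
  have hw : ∀ r, c.hom (a.hom r) = d.hom (b.hom r) := fun r => congr($(hp.w) r)
  have hcomp : φ'.comp (MvPolynomial.map b.hom) = c.hom.comp φ := by
    refine MvPolynomial.ringHom_ext (fun r => ?_) fun i => ?_
    · simp only [φ', RingHom.comp_apply, MvPolynomial.map_C, MvPolynomial.eval₂Hom_C]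
      rw [← hw, ← hC]
      rfl
    · simp [φ']
  have hsurj : Function.Surjective φ' := by
    obtain ⟨_, _, _⟩ := FlatMor67.PCS.alg_pushout hp
    letI := a.hom.toAlgebra; letI := b.hom.toAlgebra; letI := c.hom.toAlgebra; letI := d.hom.toAlgebra
    letI : Algebra A B' := (c.hom.comp a.hom).toAlgebra
    intro z
    let e := Algebra.IsPushout.equiv A A' B B'
    obtain ⟨w, rfl⟩ := e.surjective z
    induction w using TensorProduct.induction_on with
    | zero => exact ⟨0, by simp⟩
    | tmul r s =>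
      obtain ⟨p, rfl⟩ := hφ s
      refine ⟨MvPolynomial.C r * MvPolynomial.map b.hom p, ?_⟩
      rw [map_mul, ← RingHom.comp_apply φ' (MvPolynomial.map b.hom), hcomp, ← RingHom.comp_apply φ' MvPolynomial.C, hC']
      exact (Algebra.IsPushout.equiv_tmul A A' B B' r (φ p)).symm
    | add x y hx hy =>
      obtain ⟨u, hu⟩ := hx
      obtain ⟨v, hv⟩ := hy
      exact ⟨u + v, by rw [map_add, map_add, hu, hv]⟩
  refine ⟨φ', hsurj, hC', hcomp, le_antisymm ?_ ?_⟩
  · let J := (RingHom.ker φ).map (MvPolynomial.map b.hom)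
    let σB : B →+* MvPolynomial (Fin n) A' ⧸ J :=
      (φ.liftOfSurjective hφ) ⟨(Ideal.Quotient.mk J).comp (MvPolynomial.map b.hom), fun p hp' =>
        Ideal.Quotient.eq_zero_iff_mem.2 (Ideal.mem_map_of_mem _ hp')⟩
    have hσB : ∀ p, σB (φ p) = Ideal.Quotient.mk J (MvPolynomial.map b.hom p) :=
      fun p => RingHom.liftOfRightInverse_comp_apply φ _ _ _ p
    have hw' : a ≫ CommRingCat.ofHom σB =
        b ≫ CommRingCat.ofHom ((Ideal.Quotient.mk J).comp MvPolynomial.C) := by
      ext r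
      show σB (a.hom r) = Ideal.Quotient.mk J (MvPolynomial.C (b.hom r))
      rw [← hC, RingHom.comp_apply, hσB, MvPolynomial.map_C]
    let σ := (hp.desc _ _ hw').hom
    have hσ : σ.comp φ' = Ideal.Quotient.mk J := by
      refine MvPolynomial.ringHom_ext (fun r => ?_) fun i => ?_
      · simp only [φ', RingHom.comp_apply, MvPolynomial.eval₂Hom_C]
        exact congr($(hp.inr_desc _ _ hw') r)
      · simp only [φ', RingHom.comp_apply, MvPolynomial.eval₂Hom_X']
        refine (congr($(hp.inl_desc _ _ hw') (φ (MvPolynomial.X i)))).trans ?_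
        show σB (φ (MvPolynomial.X i)) = _
        rw [hσB, MvPolynomial.map_X]
    intro p hp'
    rw [← Ideal.Quotient.eq_zero_iff_mem, ← hσ, RingHom.comp_apply, RingHom.mem_ker.1 hp', map_zero]
  · rw [Ideal.map_le_iff_le_comap]
    intro p hp'
    rw [Ideal.mem_comap, RingHom.mem_ker, ← RingHom.comp_apply, hcomp, RingHom.comp_apply, RingHom.mem_ker.1 hp',
      map_zero]

variable {X Y X' Y' : Scheme.{u}} {f : X ⟶ Y}

/-- Flat base change of relative pseudo-coherence. -/
theorem rel_baseChange {f' : X' ⟶ Y'} {g' : X' ⟶ X} {g : Y' ⟶ Y} [Flat g] [LocallyOfFiniteType f]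
    [LocallyOfFiniteType f'] (hc : IsPullback g' f' f g) {m : ℤ} (C : CochainComplex X.Modules ℤ)
    (hC : DerSch.IsPseudoCoherentRel f m (DerivedCategory.Q.obj C)) :
    DerSch.IsPseudoCoherentRel f' m
      (DerivedCategory.Q.obj (((Scheme.Modules.pullback g').mapHomologicalComplex (ComplexShape.up ℤ)).obj C)) := by
  refine rel_of_good fun x' => ?_
  obtain ⟨U', V', hUV', hU', hV', hx', U, V, hUV, hU, hV, hVV, hUU, hfl, hp⟩ :=
    FlatMor67.PCS.bc_charts f f' g' g hc x'
  refine ⟨U', V', hx', hU', hV', ?_⟩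
  obtain ⟨n, φ, hφ⟩ := exists_chart_of_ft (f := f) hU hV hUV
  obtain ⟨φ', hφ's, hφ'C, hcomp, hker⟩ := exists_bc_presentation hp φ hφ.1 hφ.2
  haveI := isClosedImmersion_imm hU hφ.1
  haveI := isClosedImmersion_imm hU' hφ's
  rw [good_iff_pc hU' hUV' (φ := φ') ⟨hφ's, hφ'C⟩]
  let ρ := MvPolynomial.map (σ := Fin n) (g.appLE V V' hVV).hom
  let s := imm U φ
  let s' := imm U' φ'
  let πP := Spec.map (CommRingCat.ofHom ρ)
  let π' := g'.resLE U U' hUU
  haveI : Flat πP := by
    rw [HasRingHomProperty.Spec_iff (P := @Flat)]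
    letI := (g.appLE V V' hVV).hom.toAlgebra
    haveI : Module.Flat Γ(Y, V) Γ(Y', V') := hfl
    letI := (MvPolynomial.map (σ := Fin n) (g.appLE V V' hVV).hom).toAlgebra
    haveI := FlatMor67.PCH.flat_mvPolynomial (A := Γ(Y, V)) Γ(Y', V') n
    exact RingHom.flat_algebraMap_iff.2 ‹_›
  have w : s' ≫ πP = π' ≫ s := by
    simp only [s, s', π', πP, imm, Category.assoc]
    rw [← Spec.map_comp, ← CommRingCat.ofHom_comp, hcomp, ← Category.assoc (g'.resLE U U' hUU),
      ← Scheme.Opens.toSpecΓ_SpecMap_appLE, Category.assoc, ← Spec.map_comp]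
    rfl
  have hk : s'.ker.ideal ⟨⊤, isAffineOpen_top _⟩ =
      (s.ker.ideal ⟨⊤, isAffineOpen_top _⟩).map πP.appTop.hom := by
    rw [ker_imm_top, ker_imm_top, Ideal.map_map, ← CommRingCat.hom_comp, appTop_specMap, CommRingCat.hom_comp,
      ← Ideal.map_map, hker]
    rfl
  let CU := (resCx U.ι).obj C
  have h0 : DCoh.IsPseudoCoherentD m
      (DerivedCategory.Q.obj (((Scheme.Modules.pushforward s).mapHomologicalComplex (ComplexShape.up ℤ)).obj CU)) :=
    isPC_of_iso ((pushD s).mapIso (resQ U.ι C) ≪≫ pushQ s CU) ((good_iff_pc hU hUV hφ).1 (good_of_rel hC hU hV hUV))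
  haveI := DCK91.hasLpull πP
  obtain ⟨eL⟩ := nonempty_lpull_flat πP (((Scheme.Modules.pushforward s).mapHomologicalComplex (ComplexShape.up ℤ)).obj CU)
  have h1 := isPC_of_iso eL (DCX42.isPC_Lpull πP h0)
  let η : Scheme.Modules.restrictFunctor U.ι ⋙ Scheme.Modules.pushforward s ⋙ Scheme.Modules.pullback πP ≅
      (Scheme.Modules.pullback g' ⋙ Scheme.Modules.restrictFunctor U'.ι) ⋙ Scheme.Modules.pushforward s' :=
    Functor.isoWhiskerLeft _ (closedBC s s' πP π' w hk) ≪≫ (Functor.associator _ _ _).symm ≪≫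
      Functor.isoWhiskerRight (Functor.isoWhiskerRight (Scheme.Modules.restrictFunctorIsoPullback U.ι) _ ≪≫
        Scheme.Modules.pullbackComp π' U.ι ≪≫ Scheme.Modules.pullbackCongr (g'.resLE_comp_ι hUU) ≪≫
        (Scheme.Modules.pullbackComp U'.ι g').symm ≪≫
        Functor.isoWhiskerLeft _ (Scheme.Modules.restrictFunctorIsoPullback U'.ι).symm) _
  let P' := ((Scheme.Modules.pullback g').mapHomologicalComplex (ComplexShape.up ℤ)).obj C
  exact isPC_of_iso (DerivedCategory.Q.mapIso ((NatIso.mapHomologicalComplex η (ComplexShape.up ℤ)).app C) ≪≫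
    (pushQ s' ((resCx U'.ι).obj P')).symm ≪≫ (pushD s').mapIso (resQ U'.ι P').symm) h1

/-- Flat base change, with the derived inverse image. -/
theorem rel_baseChange_Lpull {f' : X' ⟶ Y'} {g' : X' ⟶ X} {g : Y' ⟶ Y} [Flat g] [Flat g'] [LocallyOfFiniteType f]
    [LocallyOfFiniteType f'] (hc : IsPullback g' f' f g) {m : ℤ} {K : DCoh.D X}
    (hK : DerSch.IsPseudoCoherentRel f m K) [DCoh.HasLpull g'] :
    DerSch.IsPseudoCoherentRel f' m ((DCoh.Lpull g').obj K) := by
  obtain ⟨e⟩ := nonempty_lpull_flat g' (DerivedCategory.Q.objPreimage K)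
  exact rel_congr (e.symm ≪≫ (DCoh.Lpull g').mapIso (rep K)) (rel_baseChange hc _ (rel_congr (rep K).symm hK))

theorem perfAmpRel_baseChange {Y₀ : Scheme.{u}} (f₀ : X ⟶ Y₀) [LocallyOfFiniteType f₀] (h : Y' ⟶ Y₀) [Flat h]
    [DCoh.HasLpull (pullback.fst f₀ h)] {a b : ℤ} {F : CochainComplex X.Modules ℤ}
    (hF : DerSch.HasPerfAmplitudeRel f₀ a b F) (K : CochainComplex (pullback f₀ h).Modules ℤ)
    (e : DCoh.toD (pullback f₀ h) K ≅ (DCoh.Lpull (pullback.fst f₀ h)).obj (DCoh.toD X F))
    (htor : DerSch.HasTorAmplitudeD (pullback.snd f₀ h) a b ((DCoh.Lpull (pullback.fst f₀ h)).obj (DCoh.toD X F))) :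
    DerSch.HasPerfAmplitudeRel (pullback.snd f₀ h) a b K :=
  ⟨fun m => rel_congr e.symm (rel_baseChange_Lpull (IsPullback.of_hasPullback f₀ h) (hF.1 m)), htor K ⟨e⟩⟩

end Groth.Agent.RelPCSch41
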