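import Groth.Agent.RelPCSch41.AmpleKill
import Groth.Agent.An92.Ample.Resolution

/-!
Negative powers of an ample family form generating classes on their affine generating loci.
-/

set_option autoImplicit false
set_option maxSynthPendingDepth 3
set_option linter.style.haveILetI false
set_option linter.unusedSectionVars false

noncomputable section

universe u

open CategoryTheory CategoryTheory.Limits AlgebraicGeometry TopologicalSpace

namespace Groth.Agent.RelPCSch41

open Amp73 Var76.LineBundle Var76.ZeroScheme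

variable {X : Scheme.{u}}

/-- Finite sums of invertible negative powers of members of a family. -/
def NegSum {ι : Type u} (L : ι → X.Modules) (M : X.Modules) : Prop :=
  ∃ (k : ℕ) (N : Fin k → X.Modules), (∀ j, KSix.IsNegPower L (N j) ∧ PicF.IsInvertible (N j)) ∧
    Nonempty (M ≅ ⨁ N)

variable {ι : Type u} {L : ι → X.Modules}

theorem NegSum.inAddL {M : X.Modules} (h : NegSum L M) : KSix.InAddL L M :=
  let ⟨k, N, hN, e⟩ := h
  ⟨k, N, fun j => (hN j).1, e⟩

theorem NegSum.isFinLocFree {M : X.Modules} (h : NegSum L M) : FlatMod.IsFinLocFree M :=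
  let ⟨_, N, hN, ⟨e⟩⟩ := h
  DCX42.isFinLocFree_of_iso e.symm (An92.AmpleRes.isFinLocFree_biproduct N fun j => (hN j).2)

/-- Finite sums of sums are sums. -/
theorem negSum_biproduct {m : ℕ} (M : Fin m → X.Modules) (h : ∀ j, NegSum L (M j)) : NegSum L (⨁ M) := by
  classical
  choose k N hN e using h
  let J := Σ j : Fin m, Fin (k j)
  let c : J ≃ Fin (Fintype.card J) := Fintype.equivFin J
  refine ⟨Fintype.card J, fun a => N (c.symm a).1 (c.symm a).2, fun a => hN _ _, ⟨?_⟩⟩
  exact biproduct.mapIso (fun j => (e j).some) ≪≫ biproductBiproductIso (fun j => Fin (k j)) N ≪≫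
    biproduct.whiskerEquiv c fun a => eqToIso (by rw [Equiv.symm_apply_apply])

theorem negSum_single {N : X.Modules} (h : KSix.IsNegPower L N) (hN : PicF.IsInvertible N) :
    NegSum L (⨁ fun _ : Fin 1 => N) :=
  ⟨1, fun _ => N, fun _ => ⟨h, hN⟩, ⟨Iso.refl _⟩⟩

/-- Sections over an affine generating locus of a finite type module come from negative powers. -/
theorem exists_maps_span (hL : KSix.IsAmpleFamily L) {F : X.Modules} (hF : Coh.IsQCoh F) (hF' : F.IsFiniteType)
    (i : ι) (n : ℕ) (s : Coh.structureModule X ⟶ CohB1.tensorPow (L i) (n + 1))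
    (hU : IsAffineOpen (CohB1.genLocus (CohB1.tensorPow (L i) (n + 1)) s)) :
    ∃ (N : X.Modules) (_ : KSix.IsNegPower L N ∧ PicF.IsInvertible N)
      (T : Finset (N ⟶ F)) (z : Γ(N, CohB1.genLocus (CohB1.tensorPow (L i) (n + 1)) s)),
      Submodule.span Γ(X, CohB1.genLocus (CohB1.tensorPow (L i) (n + 1)) s)
        ((fun φ : N ⟶ F => φ.app (CohB1.genLocus (CohB1.tensorPow (L i) (n + 1)) s) z) ''
          (T : Set (N ⟶ F))) = ⊤ := by
  classical
  obtain ⟨hc, hqs, hinv, -⟩ := hL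
  have hM : PicF.IsInvertible (CohB1.tensorPow (L i) (n + 1)) := EGA73.isInvertible_tensorPow (hinv i) _
  let M := CohB1.tensorPow (L i) (n + 1)
  let U := CohB1.genLocus M s
  have : F.IsQuasicoherent := hF
  obtain ⟨G, hG⟩ := (QC70.finite_sections_of_isFiniteType F hU).fg_top
  choose K hK using fun g : G => exists_tw_extend hM s hF g.1
  let k := ∑ g, K g + 1
  choose t ht using fun g : G => hK g k
    ((Finset.single_le_sum (f := K) (fun _ _ => Nat.zero_le _) (Finset.mem_univ g)).trans (Nat.le_succ _))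
  obtain ⟨N, hN, ⟨β⟩⟩ := An92.InvMod.exists_inverse (EGA73.isInvertible_tensorPow hM k)
  let P := CohB1.tensorPow M k
  let ψ : CohB1.tensorMod (CohB1.tensorMod F P) N ⟶ F :=
    (EGA73.tensAssoc' F P N ≪≫ EGA73.tensIso (Iso.refl F) (EGA73.tensComm P N ≪≫ β) ≪≫
      EGA73.tensUnitRight F).hom
  have hp : IsFrame P U (epow (val M s U) k) := isFrame_epow (isFrame_genLocus s) k
  obtain ⟨z, hz⟩ := exists_eq_tm_frame (L := N) hp le_rfl
    (β.inv.app U ((1 : Γ(X, U)) : Γ(Coh.structureModule X, U)))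
  rw [res_self] at hz
  have hzf : IsFrame N U z := by
    refine (isFrame_tm_right_iff hN hp).1 ?_
    rw [hz]
    exact (isFrame_app_iff β.inv _).2 (isFrame_one U)
  refine ⟨N, ⟨⟨i, (n + 1) * k, Nat.mul_pos (Nat.succ_pos n) (Nat.succ_pos _),
    ⟨EGA73.tensIso (Iso.refl N) (Amp73.powMul (L i) (n + 1) k).symm ≪≫ β⟩⟩, hN⟩,
    Finset.univ.image fun g : G => tmLeft (t g) N ≫ ψ, z, eq_top_iff.2 ?_⟩
  have hsp : Submodule.span Γ(X, U) (ψ.app U '' ((fun w => tm (CohB1.tensorMod F P) N w z) ''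
      ((fun u => tm F P u (epow (val M s U) k)) '' (G : Set Γ(F, U))))) = ⊤ :=
    span_image_iso ψ (span_image_tm hzf (span_image_tm hp hG))
  refine hsp.ge.trans (Submodule.span_mono ?_)
  rintro _ ⟨_, ⟨_, ⟨g, hg, rfl⟩, rfl⟩, rfl⟩
  refine ⟨tmLeft (t ⟨g, hg⟩) N ≫ ψ,
    Finset.mem_coe.2 (Finset.mem_image.2 ⟨⟨g, hg⟩, Finset.mem_univ _, rfl⟩), ?_⟩
  show ψ.app U ((tmLeft (t ⟨g, hg⟩) N).app U z) = _
  rw [tmLeft_app, ht]

/-- Negative powers of an ample family generate on the affine generating loci. -/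
theorem genAt_ample (hL : KSix.IsAmpleFamily L) (i : ι) (n : ℕ)
    (s : Coh.structureModule X ⟶ CohB1.tensorPow (L i) (n + 1))
    (hU : IsAffineOpen (CohB1.genLocus (CohB1.tensorPow (L i) (n + 1)) s)) :
    GenAt (NegSum L) (CohB1.genLocus (CohB1.tensorPow (L i) (n + 1)) s) := by
  classical
  refine ⟨fun N h => h.isFinLocFree, fun F hF y => ?_⟩
  let U := CohB1.genLocus (CohB1.tensorPow (L i) (n + 1)) s
  haveI : CompactSpace X := hL.1
  haveI : QuasiSeparatedSpace X := hL.2.1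
  haveI : F.IsQuasicoherent := hF
  obtain ⟨G, j, -, hG, hG', hy⟩ := Serre69.exists_ft_sub F (fun _ : Unit => (⟨U, hU⟩ : X.affineOpens)) fun _ => y
  obtain ⟨y', hy'⟩ := hy ()
  obtain ⟨N, hN, T, z, hsp⟩ := exists_maps_span hL hG hG' i n s hU
  let c := Fintype.equivFin T
  let g : Fin (Fintype.card T) → (N ⟶ G) := fun a => ((c.symm a : T) : N ⟶ G)
  have hmem : y' ∈ Submodule.span Γ(X, U) (Set.range fun a => (g a).app U z) := by
    refine (hsp.ge.trans (Submodule.span_mono ?_)) Submodule.mem_top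
    rintro _ ⟨φ, hφ, rfl⟩
    exact ⟨c ⟨φ, hφ⟩, by simp [g]; rfl⟩
  obtain ⟨a, ha⟩ := (Submodule.mem_span_range_iff_exists_fun Γ(X, U)).1 hmem
  let P := fun _ : Fin (Fintype.card T) => N
  refine ⟨⨁ P, ∑ b, a b • (biproduct.ι P b).app U z, biproduct.desc g ≫ j,
    ⟨_, P, fun _ => hN, ⟨Iso.refl _⟩⟩, ?_⟩
  show j.app U ((biproduct.desc g).app U (∑ b, a b • (biproduct.ι P b).app U z)) = y
  refine (congrArg (j.app U) ?_).trans hy'
  rw [map_sum, ← ha]
  refine Finset.sum_congr rfl fun b _ => ?_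
  rw [Scheme.Modules.Hom.app_smul]
  exact congrArg (a b • ·) (congr((Scheme.Modules.Hom.app $(biproduct.ι_desc g b) U) z))

/-- An ample family has an affine cover with affine inclusions and generating classes. -/
theorem exists_genAt (hL : KSix.IsAmpleFamily L) (x : X) :
    ∃ U : X.Opens, x ∈ U ∧ IsAffineOpen U ∧ IsAffineHom U.ι ∧ GenAt (NegSum L) U := by
  obtain ⟨i, n, s, hx, hU⟩ := hL.2.2.2 x
  exact ⟨_, hx, hU, Amp73.isAffineHom_genLocus_ι (EGA73.isInvertible_tensorPow (hL.2.2.1 i) _) s,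
    genAt_ample hL i n s hU⟩

end Groth.Agent.RelPCSch41
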