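import Groth.Agent.QCohPush72.HomBound
import Groth.Agent.QCohPush72.AffineUnit
import Groth.Agent.Mod48.BddFullyFaithful
import Groth.Agent.Coh69.AcyclicEmbed
import Groth.Agent.Serre69.Criterion
import Groth.Agent.QC70.Closure
import Groth.Agent.Amp73.CounitIff

/-!
Maps from generators into negative objects of the derived category are killed by maps of generators.
-/

set_option autoImplicit false
set_option maxSynthPendingDepth 3
set_option backward.isDefEq.respectTransparency.types false
set_option linter.style.haveILetI false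
set_option linter.unusedSectionVars false
set_option maxHeartbeats 800000

noncomputable section

universe u

open CategoryTheory CategoryTheory.Limits CategoryTheory.Pretriangulated DerivedCategory AlgebraicGeometry TopologicalSpace
attribute [local instance] HasDerivedCategory.standard

namespace Groth.Agent.RelPCSch41

variable {X : Scheme.{u}}

/-- A class of finite locally free modules whose sections over an open generate those of every quasi-coherent
module. -/
structure GenAt (C : X.Modules → Prop) (U : X.Opens) : Prop where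
  ft : ∀ N, C N → FlatMod.IsFinLocFree N
  gen : ∀ F : X.Modules, Coh.IsQCoh F → ∀ y : Γ(F, U), ∃ (N : X.Modules) (z : Γ(N, U)) (f : N ⟶ F),
    C N ∧ f.app U z = y

/-- `τ` carries some section to `z`. -/
def Above {U : X.Opens} (C : X.Modules → Prop) {N : X.Modules} (z : Γ(N, U))
    (P : ∀ N' : X.Modules, (N' ⟶ N) → Prop) : Prop :=
  ∃ (N' : X.Modules) (z' : Γ(N', U)) (τ : N' ⟶ N), C N' ∧ τ.app U z' = z ∧ P N' τ

/-- Quasi-coherent epimorphisms lift after passing to another generator. -/
theorem exists_lift_epi {C : X.Modules → Prop} {U : X.Opens} (hU : IsAffineOpen U) (hC : GenAt C U)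
    {A B : X.Modules} (hA : Coh.IsQCoh A) (hB : Coh.IsQCoh B) (π : A ⟶ B) [Epi π] {N : X.Modules} (hN : C N)
    (g : N ⟶ B) (z : Γ(N, U)) : Above C z fun N' τ => ∃ f : N' ⟶ A, f ≫ π = τ ≫ g := by
  haveI : A.IsQuasicoherent := hA
  haveI : B.IsQuasicoherent := hB
  haveI : N.IsQuasicoherent := DCX42.isQCoh_of_isFinLocFree (hC.ft N hN)
  let h : A ⊞ N ⟶ B := biprod.desc π (-g)
  haveI : (A ⊞ N).IsQuasicoherent := QC70.isQuasicoherent_X₂ (ShortComplex.mk (biprod.inl : A ⟶ A ⊞ N)
    biprod.snd (by simp)) (ShortComplex.Splitting.ofHasBinaryBiproduct A N).shortExact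
  haveI : (kernel h).IsQuasicoherent := QC70.isQuasicoherent_kernel h
  let i := kernel.ι h
  let p₁ : kernel h ⟶ A := i ≫ biprod.fst
  let p₂ : kernel h ⟶ N := i ≫ biprod.snd
  have hsq : p₁ ≫ π = p₂ ≫ g := by
    have := kernel.condition h
    simp only [h, biprod.desc_eq, Preadditive.comp_add, Preadditive.comp_neg] at this
    rw [add_neg_eq_zero] at this
    simpa [p₁, p₂, i] using this
  haveI hp₂ : Epi p₂ := by
    let l : pullback π g ⟶ kernel h := kernel.lift h (biprod.lift (pullback.fst π g) (pullback.snd π g))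
      (by simp [h, pullback.condition])
    haveI : Epi (l ≫ p₂) := by
      have : l ≫ p₂ = pullback.snd π g := by simp [l, p₂, i]
      rw [this]
      infer_instance
    exact epi_of_epi l p₂
  let S := ShortComplex.mk (kernel.ι p₂) p₂ (kernel.condition p₂)
  have hS : S.ShortExact := { exact := ShortComplex.exact_of_f_is_kernel _ (kernelIsKernel p₂) }
  haveI : S.X₁.IsQuasicoherent := QC70.isQuasicoherent_kernel p₂
  obtain ⟨y, hy⟩ := QC70.app_surjective_of_isAffineOpen S hS hU z
  obtain ⟨N', z', f, hN', hf⟩ := hC.gen (kernel h) (inferInstanceAs (kernel h).IsQuasicoherent) y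
  refine ⟨N', z', f ≫ p₂, hN', ?_, f ≫ p₁, (Category.assoc f p₁ π).trans ((congrArg (f ≫ ·) hsq).trans (Category.assoc f p₂ g).symm)⟩
  show p₂.app U (f.app U z') = z
  rw [hf]
  exact hy

/-- Higher maps from finite locally free modules to quasi-coherent modules vanish on affine schemes. -/
theorem hom_single_eq_zero_affine {W : Scheme.{u}} [IsAffine W] {N G : W.Modules} (hN : FlatMod.IsFinLocFree N)
    (hG : Coh.IsQCoh G) {q : ℤ} (hq : q < 0) (φ : DCoh.inD W N ⟶ (singleFunctor W.Modules q).obj G) : φ = 0 := by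
  refine QCohPush72.eq_zero_of_resD_isIso W.isoSpec.inv φ ?_
  let j := W.isoSpec.inv
  let M := (Scheme.Modules.restrictFunctor j).obj N
  let P := (CochainComplex.singleFunctor (Spec Γ(W, ⊤)).Modules 0).obj M
  let e : (DCX42.resD j).obj (DCoh.inD W N) ≅ Q.obj P :=
    ((Scheme.Modules.restrictFunctor j).mapDerivedCategorySingleFunctor 0).app N
  rw [← cancel_epi e.inv, comp_zero]
  refine QCohPush72.hom_eq_zero_spec Γ(W, ⊤) P 0 0
    (fun i hi => HomologicalComplex.isZero_single_obj_X _ _ _ _ (by omega)) (fun i => ?_) _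
    (DCX42.isQCohD_resD (fun i => ?_) j) q (QCohPush72.isLE_resD j _ q inferInstance) hq _
  · by_cases hi : i = 0
    · subst hi
      exact DCX42.isFinLocFree_of_iso
        (((Scheme.Modules.restrictFunctorIsoPullback j).app N).symm ≪≫
          (HomologicalComplex.singleObjXSelf (ComplexShape.up ℤ) 0 M).symm)
        (DCX42.isFinLocFree_pullback j hN)
    · exact DCX42.isFinLocFree_of_isZero (HomologicalComplex.isZero_single_obj_X _ _ _ _ hi)
  · by_cases hi : i = q
    · subst hi
      haveI : G.IsQuasicoherent := hG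
      exact QC70.isQuasicoherent_of_iso ((singleFunctorCompHomologyFunctorIso W.Modules i).app G).symm hG
    · refine QC70.isQuasicoherent_of_isZero ?_
      rcases lt_or_gt_of_ne hi with h | h
      · exact DerivedCategory.isZero_of_isGE _ q i h
      · exact DerivedCategory.isZero_of_isLE _ q i h

/-- Higher maps from finite locally free modules to direct images from affine opens vanish. -/
theorem hom_single_push_eq_zero (V : X.Opens) (hV : IsAffineOpen V) [IsAffineHom V.ι] {N : X.Modules}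
    (hN : FlatMod.IsFinLocFree N) {G : (V : Scheme.{u}).Modules} (hG : Coh.IsQCoh G) {q : ℤ} (hq : q < 0)
    (φ : DCoh.inD X N ⟶ (singleFunctor X.Modules q).obj ((Scheme.Modules.pushforward V.ι).obj G)) : φ = 0 := by
  haveI : IsAffine (V : Scheme.{u}) := hV
  haveI := DCX42.hasRpush V.ι
  haveI := DCK91.hasLpull V.ι
  obtain ⟨eL⟩ := DCX42.nonempty_Lpull_iso_resD V.ι
  let Ad := DCX42.LpullRpushAdj V.ι
  let Kx := (CochainComplex.singleFunctor (V : Scheme.{u}).Modules q).obj G
  haveI := QCohPush72.isIso_unit_affineHom V.ι Kx fun n => by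
    by_cases h : n = q
    · subst h
      exact QC70.isQuasicoherent_of_iso (HomologicalComplex.singleObjXSelf (ComplexShape.up ℤ) n G).symm hG
    · exact QC70.isQuasicoherent_of_isZero (HomologicalComplex.isZero_single_obj_X _ _ _ _ h)
  let e : (DCoh.Rpush V.ι).obj ((singleFunctor (V : Scheme.{u}).Modules q).obj G) ≅
      (singleFunctor X.Modules q).obj ((Scheme.Modules.pushforward V.ι).obj G) :=
    (DCoh.Rpush V.ι).mapIso ((singleFunctorIsoCompQ _ q).app G ≪≫
      ((quotientCompQhIso (V : Scheme.{u}).Modules).app Kx).symm) ≪≫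
    (asIso ((PropPush72.αu V.ι).app ((HomotopyCategory.quotient _ (ComplexShape.up ℤ)).obj Kx))).symm ≪≫
    Qh.mapIso (((Scheme.Modules.pushforward V.ι).mapHomotopyCategoryFactors (ComplexShape.up ℤ)).app Kx) ≪≫
    (quotientCompQhIso X.Modules).app _ ≪≫
    Q.mapIso ((HomologicalComplex.singleMapHomologicalComplex (Scheme.Modules.pushforward V.ι) (ComplexShape.up ℤ) q).app G) ≪≫
    ((singleFunctorIsoCompQ _ q).app _).symm
  rw [← cancel_mono e.inv, zero_comp]
  haveI := PropPush72.additive_Rpush V.ι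
  rw [← (Ad.homEquiv _ _).apply_symm_apply (φ ≫ e.inv)]
  have h0 : (Ad.homEquiv _ _).symm (φ ≫ e.inv) = 0 := by
    rw [← cancel_epi (eL.inv.app (DCoh.inD X N)), comp_zero,
      ← cancel_epi (((Scheme.Modules.restrictFunctor V.ι).mapDerivedCategorySingleFunctor 0).app N).inv, comp_zero]
    exact hom_single_eq_zero_affine (DCX42.isFinLocFree_of_iso
      ((Scheme.Modules.restrictFunctorIsoPullback V.ι).app N).symm (DCX42.isFinLocFree_pullback V.ι hN)) hG hq _
  rw [h0, Adjunction.homEquiv_unit, Functor.map_zero, comp_zero]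

/-- Effacement of higher maps from finite locally free modules. -/
theorem exists_mono_efface [CompactSpace X]
    (hA : ∀ x : X, ∃ V : X.Opens, x ∈ V ∧ IsAffineOpen V ∧ IsAffineHom V.ι) (M : X.Modules) (hM : Coh.IsQCoh M) :
    ∃ (M' : X.Modules) (i : M ⟶ M'), Mono i ∧ Coh.IsQCoh M' ∧ Coh.IsQCoh (cokernel i) ∧
      ∀ (N : X.Modules), FlatMod.IsFinLocFree N → ∀ q : ℤ, q < 0 →
        ∀ φ : DCoh.inD X N ⟶ (singleFunctor X.Modules q).obj M', φ = 0 := by
  choose V hxV hV hVa using hA
  obtain ⟨t, ht⟩ := isCompact_univ.elim_finite_subcover (fun x => (V x : Set X)) (fun x => (V x).2)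
    (fun x _ => Set.mem_iUnion.2 ⟨x, hxV x⟩)
  let U : Fin t.card → X.Opens := fun k => V (t.equivFin.symm k).1
  have hcov : ∀ x : X, ∃ k, x ∈ U k := fun x => by
    obtain ⟨W, hW, hxW⟩ := Set.mem_iUnion₂.mp (ht (Set.mem_univ x))
    exact ⟨t.equivFin ⟨W, hW⟩, by simpa [U] using hxW⟩
  haveI : M.IsQuasicoherent := hM
  let F : Fin t.card → X.Modules := fun k =>
    (Scheme.Modules.pushforward (U k).ι).obj ((Scheme.Modules.restrictFunctor (U k).ι).obj M)
  let η : ∀ k, M ⟶ F k := fun k => (Scheme.Modules.restrictAdjunction (U k).ι).unit.app M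
  have hF : ∀ k, Coh.IsQCoh (F k) := fun k => by
    haveI := hVa (t.equivFin.symm k).1
    exact QCqs72.isQuasicoherent_pushforward (M := (Scheme.Modules.restrictFunctor (U k).ι).obj M) (U k).ι
  have hq : (⨁ F).IsQuasicoherent := Serre69.isQuasicoherent_biproduct hF
  refine ⟨⨁ F, biproduct.lift η, ?_, hq, QC70.isQuasicoherent_cokernel _, fun N hN q hq φ => ?_⟩
  · refine Preadditive.mono_of_cancel_zero _ fun {N} g hg => ?_
    ext W z
    refine QC70.section_ext' M (fun k => W ⊓ U k) (fun k => inf_le_left) (fun x hx => ?_) _ _ fun k => ?_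
    · obtain ⟨k, hk⟩ := hcov x
      exact Opens.mem_iSup.mpr ⟨k, hx, hk⟩
    · have h1 : g ≫ η k = 0 := by
        rw [← biproduct.lift_π η k, ← Category.assoc, hg, zero_comp]
      have h2 : (η k).app W (g.app W z) = 0 := congr((Scheme.Modules.Hom.app $h1 W) z)
      have hle : W ⊓ U k ≤ (U k).ι ''ᵁ ((U k).ι ⁻¹ᵁ W) := by
        rw [Scheme.Hom.image_preimage_eq_opensRange_inf, Scheme.Opens.opensRange_ι, inf_comm]
      rw [Scheme.Modules.Hom.zero_app]
      refine Eq.trans ?_ (QC70.res_zero _).symm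
      refine Eq.trans ?_ ((congrArg (QC70.res M hle) h2).trans (map_zero _))
      simp only [η, Scheme.Modules.restrictAdjunction_unit_app_app]
      exact (QC70.res_res (M := M) _ _ _).symm
  · haveI : (singleFunctor X.Modules q).Additive := inferInstance
    have key : φ = φ ≫ (singleFunctor X.Modules q).map (∑ k, biproduct.π F k ≫ biproduct.ι F k) := by
      rw [biproduct.total, CategoryTheory.Functor.map_id, Category.comp_id]
    rw [key, Functor.map_sum, Preadditive.comp_sum]
    refine Finset.sum_eq_zero fun k _ => ?_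
    haveI := hVa (t.equivFin.symm k).1
    rw [Functor.map_comp, ← Category.assoc, hom_single_push_eq_zero (U k) (hV _) hN
      (G := (Scheme.Modules.restrictFunctor (U k).ι).obj M) (Amp73.isQCoh_restrict hM (U k)) hq
      (φ ≫ (singleFunctor X.Modules q).map (biproduct.π F k)), zero_comp]

/-- Composition of `Above`. -/
theorem Above.imp {C : X.Modules → Prop} {U : X.Opens} {N : X.Modules} {z : Γ(N, U)}
    {P Q : ∀ N' : X.Modules, (N' ⟶ N) → Prop} (h : Above C z P)
    (hPQ : ∀ (N' : X.Modules) (z' : Γ(N', U)) (τ : N' ⟶ N), C N' → P N' τ →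
      Above C z' fun N'' σ => Q N'' (σ ≫ τ)) : Above C z Q := by
  obtain ⟨N', z', τ, hN', hz', hP⟩ := h
  obtain ⟨N'', z'', σ, hN'', hz'', hQ⟩ := hPQ N' z' τ hN' hP
  refine ⟨N'', z'', σ ≫ τ, hN'', ?_, hQ⟩
  show τ.app U (σ.app U z'') = z
  rw [hz'', hz']

/-- Positive degree maps from generators to quasi-coherent modules are killed. -/
theorem kill_module [CompactSpace X] {C : X.Modules → Prop} {U : X.Opens}
    (hA : ∀ x : X, ∃ V : X.Opens, x ∈ V ∧ IsAffineOpen V ∧ IsAffineHom V.ι)
    (hU : IsAffineOpen U) (hC : GenAt C U) :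
    ∀ (n : ℕ) (m : ℤ), m = (n : ℤ) + 1 → ∀ (M : X.Modules), Coh.IsQCoh M → ∀ (N : X.Modules), C N →
      ∀ (z : Γ(N, U)) (φ : DCoh.inD X N ⟶ (DCoh.inD X M)⟦m⟧),
        Above C z fun N' τ => (singleFunctor X.Modules 0).map τ ≫ φ = 0 := by
  intro n
  induction n with
  | zero =>
    intro m hm M hM N hN z φ
    obtain rfl : m = 1 := by omega
    obtain ⟨M', i, hi, hM', hQ, hvan⟩ := exists_mono_efface hA M hM
    let S := ShortComplex.mk i (cokernel.π i) (cokernel.condition i)
    have hS : S.ShortExact := { exact := ShortComplex.exact_of_g_is_cokernel _ (cokernelIsCokernel i) }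
    have hT := rot_of_distTriang _ (rot_of_distTriang _ hS.singleTriangle_distinguished)
    have h0 : φ ≫ hS.singleTriangle.rotate.rotate.mor₂ = 0 := by
      exact (cancel_mono (((singleFunctors X.Modules).shiftIso (1 : ℤ) (-1) 0 (by omega)).app M').hom).1
        ((hvan N (hC.ft N hN) (-1) (by omega) _).trans zero_comp.symm)
    obtain ⟨ψ, hψ⟩ := Triangle.coyoneda_exact₂ _ hT φ h0
    obtain ⟨g, hg⟩ := (singleFunctor X.Modules 0).map_surjective (ψ : DCoh.inD X N ⟶ DCoh.inD X (cokernel i))
    obtain ⟨N', z', τ, hN', hz', f, hf⟩ := exists_lift_epi hU hC hM' hQ (cokernel.π i) hN g z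
    refine ⟨N', z', τ, hN', hz', ?_⟩
    have hc : (singleFunctor X.Modules 0).map (cokernel.π i) ≫ hS.singleδ = 0 :=
      comp_distTriang_mor_zero₂₃ _ hS.singleTriangle_distinguished
    rw [hψ, ← hg]
    show (singleFunctor X.Modules 0).map τ ≫ (singleFunctor X.Modules 0).map g ≫ hS.singleδ = 0
    rw [← Category.assoc, ← Functor.map_comp, ← hf, Functor.map_comp, Category.assoc, hc, comp_zero]
  | succ n ih =>
    intro m hm M hM N hN z φ
    obtain ⟨M', i, hi, hM', hQ, hvan⟩ := exists_mono_efface hA M hM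
    let S := ShortComplex.mk i (cokernel.π i) (cokernel.condition i)
    have hS : S.ShortExact := { exact := ShortComplex.exact_of_g_is_cokernel _ (cokernelIsCokernel i) }
    have hT := Triangle.shift_distinguished _
      (rot_of_distTriang _ (rot_of_distTriang _ hS.singleTriangle_distinguished)) (m - 1)
    let a := (shiftFunctorAdd' (DCoh.D X) (1 : ℤ) (m - 1) m (by omega)).app (DCoh.inD X M)
    let b := (shiftFunctorAdd' (DCoh.D X) (1 : ℤ) (m - 1) m (by omega)).app (DCoh.inD X M')
    have h0 : (φ ≫ a.hom) ≫ ((Triangle.shiftFunctor _ (m - 1)).obj hS.singleTriangle.rotate.rotate).mor₂ = 0 := by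
      exact (cancel_mono (b.inv ≫ (((singleFunctors X.Modules).shiftIso m (-m) 0 (by omega)).app M').hom)).1
        ((hvan N (hC.ft N hN) (-m) (by omega) _).trans zero_comp.symm)
    obtain ⟨ψ, hψ⟩ := Triangle.coyoneda_exact₂ _ hT (φ ≫ a.hom) h0
    obtain ⟨N', z', τ, hN', hz', h⟩ := ih (m - 1) (by omega) (cokernel i) hQ N hN z ψ
    refine ⟨N', z', τ, hN', hz', ?_⟩
    refine (cancel_mono a.hom).1 (Eq.trans ?_ zero_comp.symm)
    refine (Category.assoc _ _ _).trans ((congrArg ((singleFunctor X.Modules 0).map τ ≫ ·) hψ).trans ?_)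
    exact (Category.assoc _ _ _).symm.trans ((congrArg (· ≫ _) h).trans zero_comp)

/-- Maps from generators to bounded negative objects with quasi-coherent cohomology are killed. -/
theorem kill_bounded [CompactSpace X] {C : X.Modules → Prop} {U : X.Opens}
    (hA : ∀ x : X, ∃ V : X.Opens, x ∈ V ∧ IsAffineOpen V ∧ IsAffineHom V.ι)
    (hU : IsAffineOpen U) (hC : GenAt C U) {K : DCoh.D X} (hK : DCoh.IsQCohD K) (a : ℤ) (ha : K.IsGE a)
    (hb : K.IsLE (-1)) {N : X.Modules} (hN : C N) (z : Γ(N, U)) (φ : DCoh.inD X N ⟶ K) :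
    Above C z fun N' τ => (singleFunctor X.Modules 0).map τ ≫ φ = 0 := by
  let P : ObjectProperty (DCoh.D X) := fun K' => ∀ (N : X.Modules), C N → ∀ (z : Γ(N, U))
    (φ : DCoh.inD X N ⟶ K'), Above C z fun N' τ => (singleFunctor X.Modules 0).map τ ≫ φ = 0
  haveI : P.IsClosedUnderIsomorphisms := ⟨fun {A B} e h N hN z φ => by
    obtain ⟨N', z', τ, hN', hz', hτ⟩ := h N hN z (φ ≫ e.inv)
    refine ⟨N', z', τ, hN', hz', ?_⟩
    show (singleFunctor X.Modules 0).map τ ≫ φ = 0
    rw [← cancel_mono e.inv, Category.assoc, zero_comp, hτ]⟩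
  have hzero : ∀ Z, IsZero Z → P Z := fun Z hZ N hN z φ =>
    ⟨N, z, 𝟙 N, hN, rfl, hZ.eq_of_tgt _ _⟩
  refine Mod48.bounded_induction P hzero (fun T hT h1 h3 N hN z φ => ?_) (-a).toNat a K ha
    (TStructure.t.isLE_of_le K (-1) _ (by omega)) (fun q => ?_) N hN z φ
  · refine (h3 N hN z (φ ≫ T.mor₂)).imp fun N' z' τ hN' hτ => ?_
    rw [← Category.assoc] at hτ
    obtain ⟨ψ, hψ⟩ := Triangle.coyoneda_exact₂ _ hT _ hτ
    obtain ⟨N'', z'', σ, hN'', hz'', hσ⟩ := h1 N' hN' z' ψ
    refine ⟨N'', z'', σ, hN'', hz'', ?_⟩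
    show (singleFunctor X.Modules 0).map (σ ≫ τ) ≫ φ = 0
    rw [Functor.map_comp, Category.assoc, hψ, ← Category.assoc]
    exact (congrArg (· ≫ _) hσ).trans zero_comp
  · by_cases hq : q ≤ -1
    · refine P.prop_of_iso (((singleFunctors X.Modules).shiftIso (-q) q 0 (by omega)).app (DCoh.HD K q)) ?_
      intro N hN z φ
      exact kill_module hA hU hC (-q - 1).toNat (-q) (by omega) _ (hK q) N hN z φ
    · exact hzero _ ((singleFunctor X.Modules q).map_isZero (DerivedCategory.isZero_of_isLE K (-1) q (by omega)))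

/-- Maps from generators to negative objects with quasi-coherent cohomology are killed. -/
theorem kill_negative [CompactSpace X] [QuasiSeparatedSpace X] {C : X.Modules → Prop} {U : X.Opens}
    (hA : ∀ x : X, ∃ V : X.Opens, x ∈ V ∧ IsAffineOpen V ∧ IsAffineHom V.ι)
    (hU : IsAffineOpen U) (hC : GenAt C U) {K : DCoh.D X} (hK : DCoh.IsQCohD K)
    (hb : K.IsLE (-1)) {N : X.Modules} (hN : C N) (z : Γ(N, U)) (φ : DCoh.inD X N ⟶ K) :
    Above C z fun N' τ => (singleFunctor X.Modules 0).map τ ≫ φ = 0 := by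
  obtain ⟨N₀, hN₀⟩ := QCohPush72.exists_hom_eq_zero_of_isFinLocFree (X := X)
  let G := (TStructure.t.truncGE (N₀ + 1)).obj K
  have hG : DCoh.IsQCohD G := fun i => by
    by_cases h : N₀ + 1 ≤ i
    · haveI := Mod48.isIso_homology_truncGEπ K (N₀ + 1) i h
      exact QC70.isQuasicoherent_of_iso
        (asIso ((homologyFunctor X.Modules i).map ((TStructure.t.truncGEπ (N₀ + 1)).app K))) (hK i)
    · exact QC70.isQuasicoherent_of_isZero (DerivedCategory.isZero_of_isGE _ (N₀ + 1) i (by omega)
        (hX := TStructure.t.isGE_truncGE_obj K (N₀ + 1) (N₀ + 1) le_rfl))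
  haveI := hb
  refine (kill_bounded hA hU hC hG (N₀ + 1) inferInstance inferInstance hN z
    (φ ≫ (TStructure.t.truncGEπ (N₀ + 1)).app K)).imp fun N' z' τ hN' hτ => ?_
  rw [← Category.assoc] at hτ
  obtain ⟨ψ, hψ⟩ := Triangle.coyoneda_exact₂ _ (TStructure.t.triangleLTGE_distinguished (N₀ + 1) K) _ hτ
  refine ⟨N', z', 𝟙 N', hN', rfl, ?_⟩
  show (singleFunctor X.Modules 0).map (𝟙 N' ≫ τ) ≫ φ = 0
  rw [Category.id_comp, hψ, hN₀ N' (hC.ft N' hN') _ (fun i => ?_)
    (TStructure.t.isLE_truncLT_obj K (N₀ + 1) N₀ (by omega)) ψ]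
  · exact zero_comp
  · by_cases h : i < N₀ + 1
    · haveI := Mod48.isIso_homology_truncLTι K (N₀ + 1) i h
      exact QC70.isQuasicoherent_of_iso
        (asIso ((homologyFunctor X.Modules i).map ((TStructure.t.truncLTι (N₀ + 1)).app K))).symm (hK i)
    · exact QC70.isQuasicoherent_of_isZero (DerivedCategory.isZero_of_isLE _ N₀ i (by omega)
        (hX := TStructure.t.isLE_truncLT_obj K (N₀ + 1) N₀ (by omega)))

end Groth.Agent.RelPCSch41
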