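import Groth.Agent.RelPCSch41.AmpleGen

/-!
The top cohomology of an object with quasi-coherent cohomology is reached by sums of negative powers of an ample
family.
-/

set_option autoImplicit false
set_option maxSynthPendingDepth 3
set_option backward.isDefEq.respectTransparency.types false
set_option linter.style.haveILetI false
set_option linter.unusedSectionVars false

noncomputable section

universe u

open CategoryTheory CategoryTheory.Limits CategoryTheory.Pretriangulated DerivedCategory AlgebraicGeometry TopologicalSpace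
attribute [local instance] HasDerivedCategory.standard

namespace Groth.Agent.RelPCSch41

variable {X : Scheme.{u}} {ι : Type u} {L : ι → X.Modules}

/-- The top cohomology sheaf, when of finite type, is covered by a map from a sum of negative powers. -/
theorem exists_top_epi (hL : KSix.IsAmpleFamily L) {E : DCoh.D X} (hE : DCoh.IsQCohD E) (hb : E.IsLE 0)
    (hft : (DCoh.HD E 0).IsFiniteType) :
    ∃ (P : X.Modules) (φ : DCoh.inD X P ⟶ E), NegSum L P ∧
      Epi ((homologyFunctor X.Modules 0).map φ) := by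
  classical
  haveI : CompactSpace X := hL.1
  haveI : QuasiSeparatedSpace X := hL.2.1
  haveI := hb
  haveI : ((TStructure.t.truncGE 0).obj E).IsLE 0 := inferInstance
  haveI : ((TStructure.t.truncGE 0).obj E).IsGE 0 := TStructure.t.isGE_truncGE_obj E 0 0 le_rfl
  obtain ⟨M, ⟨e⟩⟩ := exists_iso_singleFunctor_obj_of_isGE_of_isLE ((TStructure.t.truncGE 0).obj E) 0
  haveI := Mod48.isIso_homology_truncGEπ E 0 0 le_rfl
  let eM : DCoh.HD E 0 ≅ M :=
    asIso ((homologyFunctor X.Modules 0).map ((TStructure.t.truncGEπ 0).app E)) ≪≫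
      (homologyFunctor X.Modules 0).mapIso e ≪≫ (singleFunctorCompHomologyFunctorIso X.Modules 0).app M
  haveI := hft
  have hM : Coh.IsQCoh M := QC70.isQuasicoherent_of_iso eM (hE 0)
  haveI : M.IsQuasicoherent := hM
  haveI hM' : M.IsFiniteType := QC70.isFiniteType_of_iso eM
  let K := ((TStructure.t.truncLT 0).obj E)⟦(1 : ℤ)⟧
  have hKq : DCoh.IsQCohD K := DCX42.isQCohD_shift (fun i => by
    by_cases h : i < 0
    · haveI := Mod48.isIso_homology_truncLTι E 0 i h
      exact QC70.isQuasicoherent_of_iso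
        (asIso ((homologyFunctor X.Modules i).map ((TStructure.t.truncLTι 0).app E))).symm (hE i)
    · exact QC70.isQuasicoherent_of_isZero (DerivedCategory.isZero_of_isLE _ (-1) i (by omega)
        (hX := TStructure.t.isLE_truncLT_obj E 0 (-1) (by omega)))) 1
  haveI : ((TStructure.t.truncLT 0).obj E).IsLE (-1) := TStructure.t.isLE_truncLT_obj E 0 (-1) (by omega)
  have hKb : K.IsLE (-1) := by
    haveI := TStructure.t.isLE_shift ((TStructure.t.truncLT 0).obj E) (-1) (1 : ℤ) (-2) (by omega)
    exact TStructure.t.isLE_of_le K (-2) (-1) (by omega)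
  let w : DCoh.inD X M ⟶ K := e.inv ≫ ((TStructure.t.triangleLTGE 0).obj E).mor₃
  have hcov : ∀ x : X, ∃ U : X.Opens, x ∈ U ∧ IsAffineOpen U ∧ IsAffineHom U.ι ∧ GenAt (NegSum L) U :=
    exists_genAt hL
  choose U hxU hU hUa hgen using hcov
  have hA : ∀ x : X, ∃ V : X.Opens, x ∈ V ∧ IsAffineOpen V ∧ IsAffineHom V.ι :=
    fun x => ⟨U x, hxU x, hU x, hUa x⟩
  have hstep : ∀ (x : X) (y : Γ(M, U x)), ∃ (N : X.Modules) (z : Γ(N, U x)) (g : N ⟶ M),
      NegSum L N ∧ g.app (U x) z = y ∧ (singleFunctor X.Modules 0).map g ≫ w = 0 := by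
    intro x y
    obtain ⟨N, z, g, hN, hgz⟩ := (hgen x).gen M hM y
    obtain ⟨N', z', τ, hN', hz', hτ⟩ :=
      kill_negative hA (hU x) (hgen x) hKq hKb hN z ((singleFunctor X.Modules 0).map g ≫ w)
    refine ⟨N', z', τ ≫ g, hN', ?_, ?_⟩
    · show g.app (U x) (τ.app (U x) z') = y
      rw [hz', hgz]
    · rw [Functor.map_comp, Category.assoc]
      exact hτ
  choose G hG using fun x : X => (QC70.finite_sections_of_isFiniteType M (hU x)).fg_top
  choose N z g hN hz hg using hstep
  obtain ⟨S, hS⟩ := isCompact_univ.elim_finite_subcover (fun x => (U x : Set X)) (fun x => (U x).2)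
    (fun x _ => Set.mem_iUnion.2 ⟨x, hxU x⟩)
  let J := Σ y : S, G y.1
  let c : J ≃ Fin (Fintype.card J) := Fintype.equivFin J
  let P : Fin (Fintype.card J) → X.Modules := fun j => N (c.symm j).1.1 (c.symm j).2.1
  let φ : ∀ j, P j ⟶ M := fun j => g (c.symm j).1.1 (c.symm j).2.1
  haveI hepi : Epi (biproduct.desc φ) := by
    suffices Epi ((biproduct.isoCoproduct P).hom ≫ Sigma.desc φ) by
      have h : (biproduct.isoCoproduct P).hom ≫ Sigma.desc φ = biproduct.desc φ :=
        biproduct.hom_ext' _ _ fun j => by simp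
      rwa [← h]
    suffices Epi (Sigma.desc φ) from epi_comp _ _
    refine Amp73.epi_desc_of_span_maps hM P φ fun x => ?_
    obtain ⟨y, hy, hxy⟩ := Set.mem_iUnion₂.1 (hS (Set.mem_univ x))
    let v : ∀ a : J, Γ(N a.1.1 a.2.1, U y) := fun a =>
      if h : a.1.1 = y then (by subst h; exact z a.1.1 a.2.1) else 0
    refine ⟨U y, fun j => v (c.symm j), hxy, hU y, eq_top_iff.2 ((hG y).ge.trans (Submodule.span_mono ?_))⟩
    intro m hm
    have key : ∀ a : J, a = ⟨⟨y, hy⟩, ⟨m, hm⟩⟩ → (g a.1.1 a.2.1).app (U y) (v a) = m := by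
      rintro a rfl
      simp only [v, dif_pos]
      exact hz y m
    exact ⟨c ⟨⟨y, hy⟩, ⟨m, hm⟩⟩, key _ (c.symm_apply_apply _)⟩
  have hw : (singleFunctor X.Modules 0).map (biproduct.desc φ) ≫ w = 0 := by
    have h : biproduct.desc φ = ∑ j, biproduct.π P j ≫ φ j := biproduct.desc_eq
    rw [h, Functor.map_sum, Preadditive.sum_comp]
    refine Finset.sum_eq_zero fun j _ => ?_
    rw [Functor.map_comp, Category.assoc, hg, comp_zero]
  obtain ⟨ψ', hψ'⟩ := Triangle.coyoneda_exact₃ _ (TStructure.t.triangleLTGE_distinguished 0 E)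
    ((singleFunctor X.Modules 0).map (biproduct.desc φ) ≫ e.inv) ((Category.assoc _ _ _).trans hw)
  let ψ : (singleFunctor X.Modules 0).obj (⨁ P) ⟶ (𝟭 (DerivedCategory X.Modules)).obj E := ψ'
  have hψ : (singleFunctor X.Modules 0).map (biproduct.desc φ) ≫ e.inv = ψ ≫ (TStructure.t.truncGEπ 0).app E := hψ'
  refine ⟨⨁ P, ψ, negSum_biproduct P fun j => hN _ _, ?_⟩
  haveI : Epi ((homologyFunctor X.Modules 0).map ((singleFunctor X.Modules 0).map (biproduct.desc φ) ≫ e.inv)) := by
    rw [Functor.map_comp]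
    haveI : Epi ((homologyFunctor X.Modules 0).map ((singleFunctor X.Modules 0).map (biproduct.desc φ))) := by
      have hh : (singleFunctor X.Modules 0 ⋙ homologyFunctor X.Modules 0).map (biproduct.desc φ) =
          (singleFunctorCompHomologyFunctorIso X.Modules 0).hom.app _ ≫ biproduct.desc φ ≫
            (singleFunctorCompHomologyFunctorIso X.Modules 0).inv.app _ :=
        (NatIso.naturality_2 (singleFunctorCompHomologyFunctorIso X.Modules 0) (biproduct.desc φ)).symm
      show Epi ((singleFunctor X.Modules 0 ⋙ homologyFunctor X.Modules 0).map (biproduct.desc φ))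
      rw [hh]
      infer_instance
    exact epi_comp _ _
  have hcomp : (homologyFunctor X.Modules 0).map ψ ≫
      (homologyFunctor X.Modules 0).map ((TStructure.t.truncGEπ 0).app E) =
      (homologyFunctor X.Modules 0).map ((singleFunctor X.Modules 0).map (biproduct.desc φ) ≫ e.inv) :=
    ((homologyFunctor X.Modules 0).map_comp _ _).symm.trans (congrArg (homologyFunctor X.Modules 0).map hψ.symm)
  have hfin := (IsIso.eq_comp_inv _).2 hcomp
  exact (congrArg (fun t => Epi t) hfin).mpr (epi_comp _ _)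

end Groth.Agent.RelPCSch41
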