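import Groth.Agent.RelPCSch41.SmoothTA
import Groth.Agent.PerfAmp41.LocTor

/-!
Direct images along closed immersions into smooth schemes: relative against absolute finiteness.
-/

set_option autoImplicit false
set_option backward.isDefEq.respectTransparency.types false
set_option linter.style.haveILetI false
set_option linter.unusedSectionVars false
set_option maxHeartbeats 400000

noncomputable section

universe u

open CategoryTheory Limits AlgebraicGeometry
open Groth.Agent.DR39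
attribute [local instance] HasDerivedCategory.standard

namespace Groth.Agent.RelPCSch41

variable {X Y S : Scheme.{u}} (i : X ⟶ Y) [IsClosedImmersion i] (g : Y ⟶ S)

/-- Off the image the stalks of a direct image vanish. -/
theorem subsingleton_stalk_push (M : X.Modules) {y : Y} (hy : y ∉ Set.range i.base) :
    Subsingleton (((Scheme.Modules.pushforward i).obj M).presheaf.stalk y) := by
  refine subsingleton_of_forall_eq 0 fun e => ?_
  obtain ⟨W, hyW, s, rfl⟩ := QC70.germM_exist e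
  let V : Y.Opens := ⟨(Set.range i.base)ᶜ, i.isClosedEmbedding.isClosed_range.isOpen_compl⟩
  have hyV : y ∈ W ⊓ V := ⟨hyW, hy⟩
  have he : i ⁻¹ᵁ (W ⊓ V) = ⊥ := by
    ext z
    exact ⟨fun h => (h.2 ⟨z, rfl⟩).elim, fun h => h.elim⟩
  rw [← QC70.germM_res (inf_le_left : W ⊓ V ≤ W) hyV s]
  refine (congrArg (QC70.germM _ (W ⊓ V) y hyV) ?_).trans (QC70.germM_zero hyV)
  exact QC70.section_ext M _ _ fun p hp => (he.le hp).elim

/-- Tor amplitude at the image of a point is tor amplitude of the composite at the point. -/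
theorem torAmpAt_push_iff (F : CochainComplex X.Modules ℤ) {a b : ℤ} (x : X) :
    DerSch.HasTorAmplitudeAt g a b (((Scheme.Modules.pushforward i).mapHomologicalComplex (ComplexShape.up ℤ)).obj F)
      (i.base x) ↔ DerSch.HasTorAmplitudeAt (i ≫ g) a b F x := by
  haveI : (DerSch.stalkOver g (i.base x)).Additive := inferInstanceAs (TorStalk41.SO g (i.base x)).Additive
  let e := (QA (S.presheaf.stalk (g.base (i.base x)))).mapIso
    ((Functor.mapHomologicalComplexCompIso (stalkPushIso i g x) (ComplexShape.up ℤ)).app F)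
  exact ⟨fun h => torAmp_stalkRes_congr x (Scheme.Hom.stalkMap_comp i g x).symm F (TA.of_iso h e),
    fun h => TA.of_iso (torAmp_stalkRes_congr x (Scheme.Hom.stalkMap_comp i g x) F h) e.symm⟩

/-- Off the image every tor amplitude holds. -/
theorem torAmpAt_push_off (F : CochainComplex X.Modules ℤ) {a b : ℤ} {y : Y} (hy : y ∉ Set.range i.base) :
    DerSch.HasTorAmplitudeAt g a b (((Scheme.Modules.pushforward i).mapHomologicalComplex (ComplexShape.up ℤ)).obj F) y := by
  refine ta_of_isZero a b (isZero_of_forall fun n => (isZero_HF_Q_iff _ n).2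
    ((HomologicalComplex.exactAt_iff_isZero_homology _ _).1 (ShortComplex.exact_of_isZero_X₂ _ ?_)))
  haveI : Subsingleton (((Scheme.Modules.pushforward i).obj (F.X n)).presheaf.stalk y) := subsingleton_stalk_push i _ hy
  exact @ModuleCat.isZero_of_subsingleton _ _
    ((TorStalk41.SO g y).obj ((Scheme.Modules.pushforward i).obj (F.X n))) this

theorem hasTorAmplitude_push_iff (F : CochainComplex X.Modules ℤ) {a b : ℤ} :
    DerSch.HasTorAmplitude g a b (((Scheme.Modules.pushforward i).mapHomologicalComplex (ComplexShape.up ℤ)).obj F) ↔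
      DerSch.HasTorAmplitude (i ≫ g) a b F := by
  refine ⟨fun h x => (torAmpAt_push_iff i g F x).1 (h _), fun h y => ?_⟩
  by_cases hy : y ∈ Set.range i.base
  · obtain ⟨x, rfl⟩ := hy
    exact (torAmpAt_push_iff i g F x).2 (h x)
  · exact torAmpAt_push_off i g F hy

theorem flatAmp_push_of_torAmp (d : ℕ)
    (hd : ∀ y : Y, ∃ (n : ℕ) (V : Y.Opens), n ≤ d ∧ y ∈ V ∧ SmoothOfRelativeDimension n (V.ι ≫ g))
    (F : CochainComplex X.Modules ℤ) {a b : ℤ} (hF : DerSch.HasTorAmplitude (i ≫ g) a b F) :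
    DCoh.HasFlatAmplitudeIn (a - d) b
      (DCoh.toD Y (((Scheme.Modules.pushforward i).mapHomologicalComplex (ComplexShape.up ℤ)).obj F)) :=
  flatAmp_of_smooth g _ d hd ((hasTorAmplitude_push_iff i g F).2 hF)

theorem torAmp_of_flatAmp_push [Smooth g] (F : CochainComplex X.Modules ℤ) {a b : ℤ}
    (hF : DCoh.HasFlatAmplitudeIn a b
      (DCoh.toD Y (((Scheme.Modules.pushforward i).mapHomologicalComplex (ComplexShape.up ℤ)).obj F))) :
    DerSch.HasTorAmplitude (i ≫ g) a b F :=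
  (hasTorAmplitude_push_iff i g F).1 (TorStalk41.hasTorAmplitude_of_flatAmp g (fun y => Flat.stalkMap g y) hF)

/-- A zero object has every perfect amplitude. -/
theorem perfAmp_of_isZero {Z : Scheme.{u}} {m n : ℤ} {K : DCoh.D Z} (hK : IsZero K) :
    KSix.HasPerfectAmplitudeIn m n K := by
  rw [PerfAmp41.isPerfAmp_iff]
  intro z
  obtain ⟨E, hE0⟩ : ∃ E : CochainComplex ((⊤ : Z.Opens) : Scheme.{u}).Modules ℤ, IsZero E :=
    ⟨_, Limits.isZero_zero _⟩
  have hE : ∀ j, IsZero (E.X j) := fun j =>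
    (HomologicalComplex.eval _ (ComplexShape.up ℤ) j).map_isZero hE0
  exact ⟨⊤, trivial, E, fun j _ => hE j, fun j => DCX42.isFinLocFree_of_isZero (hE j),
    ⟨(Functor.map_isZero _ hK).iso (DerivedCategory.Q.map_isZero hE0)⟩⟩

theorem perfAmp_push_of_perfAmpRel [Smooth g] (d : ℕ)
    (hd : ∀ y : Y, ∃ (n : ℕ) (V : Y.Opens), n ≤ d ∧ y ∈ V ∧ SmoothOfRelativeDimension n (V.ι ≫ g))
    (F : CochainComplex X.Modules ℤ) {a b : ℤ} (hF : DerSch.HasPerfAmplitudeRel (i ≫ g) a b F) :
    KSix.HasPerfectAmplitudeIn (a - d) b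
      (DCoh.toD Y (((Scheme.Modules.pushforward i).mapHomologicalComplex (ComplexShape.up ℤ)).obj F)) := by
  have hfl := flatAmp_push_of_torAmp i g d hd F hF.2
  by_cases hab : a - d ≤ b
  · exact PerfAmp41.perfAmp_of_pc_flatAmp hab
      (DCX42.isPC_of_iso (pushQ i F) ((rel_closed_smooth_iff i g).1 (hF.1 _))) hfl
  · obtain ⟨E, hE, -, ⟨e⟩⟩ := hfl
    refine perfAmp_of_isZero (IsZero.of_iso ?_ e.symm)
    exact DerivedCategory.Q.map_isZero ((IsZero.iff_id_eq_zero E).2 (HomologicalComplex.hom_ext _ _ fun j =>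
      (hE j (by omega)).eq_of_src _ _))

theorem locTor_push_of_locTorAmp [Smooth g] (F : CochainComplex X.Modules ℤ)
    (hF : DerSch.LocFiniteTorAmplitude (i ≫ g) F) :
    DCoh.LocHasFiniteTorDim (DCoh.toD Y (((Scheme.Modules.pushforward i).mapHomologicalComplex (ComplexShape.up ℤ)).obj F)) := by
  intro y
  obtain ⟨n, Vn, hyn, hn⟩ := exists_relDim g y
  obtain ⟨T, a, b, hyT, hT⟩ : ∃ (T : Y.Opens) (a b : ℤ), y ∈ T ∧ ∀ y' ∈ T, DerSch.HasTorAmplitudeAt g a b
      (((Scheme.Modules.pushforward i).mapHomologicalComplex (ComplexShape.up ℤ)).obj F) y' := by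
    by_cases hy : y ∈ Set.range i.base
    · obtain ⟨x, rfl⟩ := hy
      obtain ⟨V, a, b, hxV, hV⟩ := hF x
      obtain ⟨T, hT, hTV⟩ := i.isClosedEmbedding.isInducing.isOpen_iff.1 V.2
      refine ⟨⟨T, hT⟩, a, b, (Set.ext_iff.1 hTV x).2 hxV, fun y' hy' => ?_⟩
      by_cases hy'' : y' ∈ Set.range i.base
      · obtain ⟨x', rfl⟩ := hy''
        exact (torAmpAt_push_iff i g F x').2 (hV x' ((Set.ext_iff.1 hTV x').1 hy'))
      · exact torAmpAt_push_off i g F hy''
    · exact ⟨⟨(Set.range i.base)ᶜ, i.isClosedEmbedding.isClosed_range.isOpen_compl⟩, 0, 0, hy,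
        fun y' hy' => torAmpAt_push_off i g F hy'⟩
  refine ⟨T ⊓ Vn, a - n, b, ⟨hyT, hyn⟩, fun F' ⟨e⟩ => ?_⟩
  let G := ((Scheme.Modules.pushforward i).mapHomologicalComplex (ComplexShape.up ℤ)).obj F
  let W := T ⊓ Vn
  haveI : SmoothOfRelativeDimension n (W.ι ≫ g) := by
    rw [← Scheme.homOfLE_ι Y (inf_le_right : W ≤ Vn), Category.assoc]
    exact IsZariskiLocalAtSource.comp hn _
  haveI : SmoothOfRelativeDimension n ((⊤ : (W : Scheme.{u}).Opens).ι ≫ W.ι ≫ g) :=
    IsZariskiLocalAtSource.comp ‹_› _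
  have hflat := TorStalk41.flatAmp_of_hasTorAmplitude_id (X := (W : Scheme.{u})) (a := a - n) (b := b)
    (F := (DCoh.restrictCx W).obj G) fun w => torAmpAt_id_of_smooth (W.ι ≫ g) w n ⊤ trivial _
      ((torAmpAt_restrict_iff W.ι g G w).2 (hT _ w.2.1))
  obtain ⟨E, hE, hEf, ⟨e'⟩⟩ := hflat
  exact ⟨E, hE, hEf, ⟨e' ≪≫ (DCX42.resQ W.ι G).symm ≪≫ (DCX42.resD W.ι).mapIso e.symm ≪≫ DCX42.resQ W.ι F'⟩⟩

theorem locTorAmp_of_locTor_push [Smooth g] (F : CochainComplex X.Modules ℤ)
    (hF : DCoh.LocHasFiniteTorDim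
      (DCoh.toD Y (((Scheme.Modules.pushforward i).mapHomologicalComplex (ComplexShape.up ℤ)).obj F))) :
    DerSch.LocFiniteTorAmplitude (i ≫ g) F := by
  intro x
  obtain ⟨V, a, b, hxV, hV⟩ := hF (i.base x)
  refine ⟨i ⁻¹ᵁ V, a, b, hxV, fun x' hx' => (torAmpAt_push_iff i g F x').1 ?_⟩
  exact (torAmpAt_restrict_iff V.ι g _ ⟨i.base x', hx'⟩).1
    (TorStalk41.hasTorAmplitude_of_flatAmp (V.ι ≫ g) (fun y => Flat.stalkMap (V.ι ≫ g) y)
      (hV _ ⟨Iso.refl _⟩) ⟨i.base x', hx'⟩)

theorem locTor_push_iff [Smooth g] (F : CochainComplex X.Modules ℤ) :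
    DerSch.LocFiniteTorAmplitude (i ≫ g) F ↔
      DCoh.LocHasFiniteTorDim (DCoh.toD Y (((Scheme.Modules.pushforward i).mapHomologicalComplex (ComplexShape.up ℤ)).obj F)) :=
  ⟨locTor_push_of_locTorAmp i g F, locTorAmp_of_locTor_push i g F⟩

theorem perfectRel_push_iff [Smooth g] (F : CochainComplex X.Modules ℤ) :
    DerSch.IsPerfectRel (i ≫ g) F ↔
      DCoh.IsPerfect (DCoh.toD Y (((Scheme.Modules.pushforward i).mapHomologicalComplex (ComplexShape.up ℤ)).obj F)) := by
  rw [PerfAmp41.isPerfect_iff_pc_locTor]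
  exact and_congr (forall_congr' fun m => (rel_closed_smooth_iff i g).trans
    ⟨DCX42.isPC_of_iso (pushQ i F), DCX42.isPC_of_iso (pushQ i F).symm⟩) (locTor_push_iff i g F)

end Groth.Agent.RelPCSch41
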