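import Groth.Agent.RelPCSch41.BCRel
import Groth.Agent.RelPCSch41.PerfSmooth
import Groth.Agent.PerfFib24.RelFlatBC
import Groth.Agent.PerfFib24.RelPerfSat

/-!
Base change of relative pseudo-coherence between schemes flat over a base.
-/

set_option autoImplicit false
set_option backward.isDefEq.respectTransparency.types false
set_option linter.style.haveILetI false
set_option linter.unusedSectionVars false
set_option maxHeartbeats 1000000

noncomputable section

universe u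

open CategoryTheory Limits AlgebraicGeometry
open Groth.Agent.DCX42
attribute [local instance] HasDerivedCategory.standard

namespace Groth.Agent.RelPCSch41

/-- Polynomials over a ring map form a pushout. -/
theorem isPushout_mvPolynomial {A A' : Type u} [CommRing A] [CommRing A'] (c : A →+* A') (n : ℕ) :
    IsPushout (CommRingCat.ofHom (MvPolynomial.C (σ := Fin n) (R := A))) (CommRingCat.ofHom c)
      (CommRingCat.ofHom (MvPolynomial.map (σ := Fin n) c))
      (CommRingCat.ofHom (MvPolynomial.C (σ := Fin n) (R := A'))) := by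
  refine IsPushout.of_isColimit (c := PushoutCocone.mk _ _ ?_) (PushoutCocone.IsColimit.mk _
    (fun s => CommRingCat.ofHom (MvPolynomial.eval₂Hom s.inr.hom fun i => s.inl.hom (MvPolynomial.X i)))
    (fun s => ?_) (fun s => ?_) fun s m h₁ h₂ => ?_)
  · ext r
    simp
  · refine CommRingCat.hom_ext (MvPolynomial.ringHom_ext (fun r => ?_) fun i => ?_)
    · simpa using (congr($(s.condition) r)).symm
    · simp
  · ext r
    simp
  · refine CommRingCat.hom_ext (MvPolynomial.ringHom_ext (fun r => ?_) fun i => ?_)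
    · simpa using congr($h₂ r)
    · have := congr($h₁ (MvPolynomial.X i))
      simpa using this

variable {X Y S X' Y' S' : Scheme.{u}}

/-- Flatness over the base of a direct image along a closed immersion. -/
theorem isFlatOver_push (i : X ⟶ Y) [IsClosedImmersion i] (g : Y ⟶ S) {M : X.Modules}
    (h : FlatMod.IsFlatOver (i ≫ g) M) : FlatMod.IsFlatOver g ((Scheme.Modules.pushforward i).obj M) := by
  intro y
  by_cases hy : y ∈ Set.range i.base
  · obtain ⟨x, rfl⟩ := hy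
    have key : ∀ {R : CommRingCat.{u}} (φ ψ : R ⟶ X.presheaf.stalk x), φ = ψ →
        Module.Flat R ((ModuleCat.restrictScalars φ.hom).obj ((DerSch.stalkFunctor X x).obj M)) →
          Module.Flat R ((ModuleCat.restrictScalars ψ.hom).obj ((DerSch.stalkFunctor X x).obj M)) := by
      intro R φ ψ e hh
      subst e
      exact hh
    have h1 : Module.Flat (S.presheaf.stalk (g.base (i.base x))) ((SO' i g x).obj M) :=
      key _ _ (Scheme.Hom.stalkMap_comp i g x) (h x)
    letI := FlatMod.moduleStalkOver g ((Scheme.Modules.pushforward i).obj M) (i.base x)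
    change Module.Flat (S.presheaf.stalk (g.base (i.base x)))
      ((DerSch.stalkOver g (i.base x)).obj ((Scheme.Modules.pushforward i).obj M))
    exact Module.Flat.of_linearEquiv (stalkPushApp i g x M).toLinearEquiv
  · haveI : Subsingleton (((Scheme.Modules.pushforward i).obj M).presheaf.stalk y) := subsingleton_stalk_push i M hy
    letI := FlatMod.moduleStalkOver g ((Scheme.Modules.pushforward i).obj M) y
    change Module.Flat (S.presheaf.stalk (g.base y)) (((Scheme.Modules.pushforward i).obj M).presheaf.stalk y)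
    infer_instance

/-- Goodness after a base change of a chart, once the inverse image on the chart is derived. -/
theorem good_pullback_of_square {f : X ⟶ Y} {f' : X' ⟶ Y'} {g' : X' ⟶ X} {g : Y' ⟶ Y} {m : ℤ}
    {C : CochainComplex X.Modules ℤ} {U : X.Opens} {V : Y.Opens} {U' : X'.Opens} {V' : Y'.Opens}
    (hU : IsAffineOpen U) (hU' : IsAffineOpen U') (hUV : U ≤ f ⁻¹ᵁ V) (hUV' : U' ≤ f' ⁻¹ᵁ V')
    (hVV : V' ≤ g ⁻¹ᵁ V) (hUU : U' ≤ g' ⁻¹ᵁ U) {n : ℕ}
    {φ : MvPolynomial (Fin n) Γ(Y, V) →+* Γ(X, U)} (hφ : DerSch.IsChart f U V hUV φ)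
    {φ' : MvPolynomial (Fin n) Γ(Y', V') →+* Γ(X', U')} (hφ' : DerSch.IsChart f' U' V' hUV' φ')
    (hcomp : φ'.comp (MvPolynomial.map (g.appLE V V' hVV).hom) = (g'.appLE U U' hUU).hom.comp φ)
    (hker : RingHom.ker φ' = (RingHom.ker φ).map (MvPolynomial.map (g.appLE V V' hVV).hom))
    [IsClosedImmersion (imm U φ)]
    (hL : ∀ [DCoh.HasLpull (Spec.map (CommRingCat.ofHom (MvPolynomial.map (σ := Fin n) (g.appLE V V' hVV).hom)))],
      Nonempty ((DCoh.Lpull (Spec.map (CommRingCat.ofHom (MvPolynomial.map (σ := Fin n) (g.appLE V V' hVV).hom)))).obj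
          (DerivedCategory.Q.obj (((Scheme.Modules.pushforward (imm U φ)).mapHomologicalComplex (ComplexShape.up ℤ)).obj
            ((resCx U.ι).obj C))) ≅
        DerivedCategory.Q.obj (((Scheme.Modules.pullback (Spec.map (CommRingCat.ofHom
          (MvPolynomial.map (σ := Fin n) (g.appLE V V' hVV).hom)))).mapHomologicalComplex (ComplexShape.up ℤ)).obj
            (((Scheme.Modules.pushforward (imm U φ)).mapHomologicalComplex (ComplexShape.up ℤ)).obj
              ((resCx U.ι).obj C)))))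
    (hC : Good f m (DerivedCategory.Q.obj C) U V) :
    Good f' m (DerivedCategory.Q.obj (((Scheme.Modules.pullback g').mapHomologicalComplex (ComplexShape.up ℤ)).obj C))
      U' V' := by
  haveI := isClosedImmersion_imm hU' hφ'.1
  rw [good_iff_pc hU' hUV' hφ']
  let ρ := MvPolynomial.map (σ := Fin n) (g.appLE V V' hVV).hom
  let s := imm U φ
  let s' := imm U' φ'
  let πP := Spec.map (CommRingCat.ofHom ρ)
  let π' := g'.resLE U U' hUU
  have w : s' ≫ πP = π' ≫ s := by
    simp only [s, s', π', πP, imm, Category.assoc]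
    rw [← Spec.map_comp, ← CommRingCat.ofHom_comp, hcomp, ← Category.assoc (g'.resLE U U' hUU),
      ← Scheme.Opens.toSpecΓ_SpecMap_appLE, Category.assoc, ← Spec.map_comp]
    rfl
  have hk : s'.ker.ideal ⟨⊤, isAffineOpen_top _⟩ =
      (s.ker.ideal ⟨⊤, isAffineOpen_top _⟩).map πP.appTop.hom := by
    rw [ker_imm_top, ker_imm_top, Ideal.map_map, ← CommRingCat.hom_comp, appTop_specMap, CommRingCat.hom_comp,
      ← Ideal.map_map, hker]
    rfl
  let CU := (resCx U.ι).obj C
  have h0 : DCoh.IsPseudoCoherentD m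
      (DerivedCategory.Q.obj (((Scheme.Modules.pushforward s).mapHomologicalComplex (ComplexShape.up ℤ)).obj CU)) :=
    isPC_of_iso ((pushD s).mapIso (resQ U.ι C) ≪≫ pushQ s CU) ((good_iff_pc hU hUV hφ).1 hC)
  haveI := DCK91.hasLpull πP
  obtain ⟨eL⟩ := @hL (DCK91.hasLpull πP)
  have h1 := isPC_of_iso eL (DCX42.isPC_Lpull πP h0)
  let η : Scheme.Modules.restrictFunctor U.ι ⋙ Scheme.Modules.pushforward s ⋙ Scheme.Modules.pullback πP ≅
      (Scheme.Modules.pullback g' ⋙ Scheme.Modules.restrictFunctor U'.ι) ⋙ Scheme.Modules.pushforward s' :=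
    Functor.isoWhiskerLeft _ (closedBC s s' πP π' w hk) ≪≫ (Functor.associator _ _ _).symm ≪≫
      Functor.isoWhiskerRight (Functor.isoWhiskerRight (Scheme.Modules.restrictFunctorIsoPullback U.ι) _ ≪≫
        Scheme.Modules.pullbackComp π' U.ι ≪≫ Scheme.Modules.pullbackCongr (g'.resLE_comp_ι hUU) ≪≫
        (Scheme.Modules.pullbackComp U'.ι g').symm ≪≫
        Functor.isoWhiskerLeft _ (Scheme.Modules.restrictFunctorIsoPullback U'.ι).symm) _
  let P' := ((Scheme.Modules.pullback g').mapHomologicalComplex (ComplexShape.up ℤ)).obj C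
  exact isPC_of_iso (DerivedCategory.Q.mapIso ((NatIso.mapHomologicalComplex η (ComplexShape.up ℤ)).app C) ≪≫
    (pushQ s' ((resCx U'.ι).obj P')).symm ≪≫ (pushD s').mapIso (resQ U'.ι P').symm) h1

/-- The derived inverse image of a bounded above relatively flat complex. -/
theorem nonempty_lpull_relFlat {f : X ⟶ S} [Flat f] {f' : X' ⟶ S'} {g' : X' ⟶ X} {g : S' ⟶ S}
    (hc : IsPullback g' f' f g) [DCoh.HasLpull g'] {b : ℤ} (C : CochainComplex X.Modules ℤ)
    (hCb : ∀ i, b < i → IsZero (C.X i)) (hCf : ∀ i, FlatMod.IsFlatOver f (C.X i)) :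
    Nonempty ((DCoh.Lpull g').obj (DerivedCategory.Q.obj C) ≅
      DerivedCategory.Q.obj (((Scheme.Modules.pullback g').mapHomologicalComplex (ComplexShape.up ℤ)).obj C)) := by
  haveI : CochainComplex.IsStrictlyLE (C := X.Modules) C b :=
    (CochainComplex.isStrictlyLE_iff (C := X.Modules) C b).2 hCb
  have hex : ∃ (P : CochainComplex X.Modules ℤ) (p : P ⟶ C), (∀ i, b < i → IsZero (P.X i)) ∧
      (∀ i, FlatMod.IsFlat (P.X i)) ∧ QuasiIso p := by
    obtain ⟨P, p, hPd, hPfl, hp⟩ := DCK91.exists_flat_res_le (O := X.sheaf) C b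
      (inferInstanceAs (CochainComplex.IsLE (C := X.Modules) C b))
    exact ⟨P, p, hPd, fun i => DCK91.flatMod_of_isFlat _ (hPfl i), hp⟩
  obtain ⟨P, p, hPd, hPf, hp⟩ := hex
  obtain ⟨hk, -⟩ := DCK91.kff_of_le (X := X) P b hPd hPf
  haveI : QuasiIso (((Scheme.Modules.pullback g').mapHomologicalComplex (ComplexShape.up ℤ)).map p) :=
    PerfFib24.quasiIso_pullback_relFlat hc b hPd hCb (fun i => PerfFib24.isFlatOver_of_isFlat _ (hPf i)) hCf p
  haveI : IsIso (DerivedCategory.Q.map (C := CochainComplex X.Modules ℤ) p) :=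
    (DerivedCategory.isIso_Q_map_iff_quasiIso X.Modules p).2 hp
  obtain ⟨l⟩ := DCK91.nonempty_lpullIso g' P hk
  exact ⟨(DCoh.Lpull g').mapIso (asIso (DerivedCategory.Q.map (C := CochainComplex X.Modules ℤ) p)).symm ≪≫ l ≪≫
    asIso (DerivedCategory.Q.map (((Scheme.Modules.pullback g').mapHomologicalComplex (ComplexShape.up ℤ)).map p))⟩

/-- Base change of relative pseudo-coherence between schemes flat over a base. -/
theorem rel_baseChange_relFlat {f : X ⟶ Y} {f' : X' ⟶ Y'} {g' : X' ⟶ X} {g : Y' ⟶ Y} {q : Y ⟶ S} {q' : Y' ⟶ S'}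
    {g₀ : S' ⟶ S} [LocallyOfFiniteType f] [LocallyOfFiniteType f'] [Flat q] (hc : IsPullback g' f' f g)
    (hY : IsPullback g q' q g₀) {m b : ℤ} (C : CochainComplex X.Modules ℤ)
    (hCb : ∀ i, b < i → IsZero (C.X i)) (hCf : ∀ i, FlatMod.IsFlatOver (f ≫ q) (C.X i))
    (hC : DerSch.IsPseudoCoherentRel f m (DerivedCategory.Q.obj C)) :
    DerSch.IsPseudoCoherentRel f' m
      (DerivedCategory.Q.obj (((Scheme.Modules.pullback g').mapHomologicalComplex (ComplexShape.up ℤ)).obj C)) := by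
  refine rel_of_good fun x' => ?_
  have e₁ : g (f' x') = f (g' x') := by rw [← Scheme.Hom.comp_apply, ← hc.w, Scheme.Hom.comp_apply]
  have e₂ : g₀ (q' (f' x')) = q (f (g' x')) := by
    rw [← e₁, ← Scheme.Hom.comp_apply, ← hY.w, Scheme.Hom.comp_apply]
  obtain ⟨_, ⟨S₀, hS, rfl⟩, hxS, -⟩ :=
    S.isBasis_affineOpens.exists_subset_of_mem_open (Set.mem_univ (q (f (g' x')))) isOpen_univ
  obtain ⟨_, ⟨V, hV, rfl⟩, hxV, eV⟩ :=
    Y.isBasis_affineOpens.exists_subset_of_mem_open (show f (g' x') ∈ q ⁻¹ᵁ S₀ from hxS) (q ⁻¹ᵁ S₀).isOpen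
  obtain ⟨_, ⟨W, hW, rfl⟩, hxW, eW⟩ := S'.isBasis_affineOpens.exists_subset_of_mem_open
    (show q' (f' x') ∈ g₀ ⁻¹ᵁ S₀ from show g₀ (q' (f' x')) ∈ S₀ from e₂ ▸ hxS) (g₀ ⁻¹ᵁ S₀).isOpen
  obtain ⟨_, ⟨U, hU, rfl⟩, hxU, hUV⟩ :=
    X.isBasis_affineOpens.exists_subset_of_mem_open (show g' x' ∈ f ⁻¹ᵁ V from hxV) (f ⁻¹ᵁ V).isOpen
  let V' : Y'.Opens := g ⁻¹ᵁ V ⊓ q' ⁻¹ᵁ W
  have hV' : IsAffineOpen V' := by
    have : IsAffine _ := hS
    have : IsAffine _ := hV
    have : IsAffine _ := hW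
    exact .of_isIso (Scheme.Hom.isPullback_resLE hY eW eV (UY := V') rfl).isoPullback.hom
  haveI := isIso_pushoutSection_of_isAffineOpen hY eW eV (rfl : g ⁻¹ᵁ V ⊓ q' ⁻¹ᵁ W = V') hS hW hV
  have hpY := (isIso_pushoutSection_iff hY eW eV (rfl : g ⁻¹ᵁ V ⊓ q' ⁻¹ᵁ W = V')).1 inferInstance
  have hVV : V' ≤ g ⁻¹ᵁ V := inf_le_left
  let U' : X'.Opens := g' ⁻¹ᵁ U ⊓ f' ⁻¹ᵁ V'
  have hU' : IsAffineOpen U' := by
    have : IsAffine _ := hV
    have : IsAffine _ := hV'
    have : IsAffine _ := hU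
    exact .of_isIso (Scheme.Hom.isPullback_resLE hc hVV hUV (UY := U') rfl).isoPullback.hom
  haveI := isIso_pushoutSection_of_isAffineOpen hc hVV hUV (rfl : g' ⁻¹ᵁ U ⊓ f' ⁻¹ᵁ V' = U') hV hV' hU
  have hpX := (isIso_pushoutSection_iff hc hVV hUV (rfl : g' ⁻¹ᵁ U ⊓ f' ⁻¹ᵁ V' = U')).1 inferInstance
  have hx' : x' ∈ U' := ⟨hxU, show g (f' x') ∈ V from e₁ ▸ hxV, hxW⟩
  have hUV' : U' ≤ f' ⁻¹ᵁ V' := inf_le_right
  have hUU : U' ≤ g' ⁻¹ᵁ U := inf_le_left
  refine ⟨U', V', hx', hU', hV', ?_⟩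
  obtain ⟨n, φ, hφ⟩ := exists_chart_of_ft (f := f) hU hV hUV
  obtain ⟨φ', hφ's, hφ'C, hcomp, hker⟩ := exists_bc_presentation hpX φ hφ.1 hφ.2
  haveI := isClosedImmersion_imm hU hφ.1
  refine good_pullback_of_square hU hU' hUV hUV' hVV hUU hφ ⟨hφ's, hφ'C⟩ hcomp hker ?_ (good_of_rel hC hU hV hUV)
  intro _
  let a := q.appLE S₀ V eV
  let p₂ := a ≫ CommRingCat.ofHom (MvPolynomial.C (σ := Fin n) (R := Γ(Y, V)))
  let r := Spec.map p₂ ≫ hS.fromSpec
  have hsq : IsPullback (Spec.map (CommRingCat.ofHom (MvPolynomial.map (σ := Fin n) (g.appLE V V' hVV).hom)))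
      (Spec.map (q'.appLE W V' inf_le_right ≫ CommRingCat.ofHom (MvPolynomial.C (σ := Fin n) (R := Γ(Y', V')))))
      r (Spec.map (g₀.appLE S₀ W eW) ≫ hS.fromSpec) := by
    have h₁ := hpY.paste_horiz (isPushout_mvPolynomial (g.appLE V V' hVV).hom n)
    have h₂ : IsPullback (Spec.map (g₀.appLE S₀ W eW)) (𝟙 _) hS.fromSpec
        (Spec.map (g₀.appLE S₀ W eW) ≫ hS.fromSpec) := IsPullback.of_vert_isIso_mono ⟨by simp⟩
    simpa only [Category.comp_id] using (isPullback_SpecMap_of_isPushout _ _ _ _ h₁).paste_vert h₂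
  haveI : Flat r := by
    haveI : Flat (Spec.map p₂) := by
      rw [HasRingHomProperty.Spec_iff (P := @Flat)]
      exact RingHom.Flat.comp (Flat.flat_appLE q hS hV eV)
        (RingHom.flat_algebraMap_iff.2 (inferInstance : Module.Flat Γ(Y, V) (MvPolynomial (Fin n) Γ(Y, V))))
    infer_instance
  have hsr : imm U φ ≫ r = Scheme.Opens.ι U ≫ f ≫ q := by
    simp only [r, p₂, a, imm, Category.assoc]
    rw [← Spec.map_comp_assoc, Category.assoc, ← CommRingCat.ofHom_comp, hφ.2, CommRingCat.ofHom_hom,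
      f.appLE_comp_appLE q, IsAffineOpen.SpecMap_appLE_fromSpec (f ≫ q) hS hU, ← Category.assoc,
      hU.toSpecΓ_fromSpec]
  refine nonempty_lpull_relFlat hsq (b := b) _ (fun i hi => (Scheme.Modules.pushforward (imm U φ)).map_isZero
    ((Scheme.Modules.restrictFunctor (Scheme.Opens.ι U)).map_isZero (hCb i hi)))
    fun i => isFlatOver_push (imm U φ) r ?_
  rw [hsr]
  exact PerfFib24.isFlatOver_restrict (f ≫ q) (Scheme.Opens.ι U) (hCf i)

/-- Base change of relative pseudo-coherence between schemes flat over a base, with the derived inverse image. -/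
theorem rel_baseChange_torIndep {f : X ⟶ Y} {f' : X' ⟶ Y'} {g' : X' ⟶ X} {g : Y' ⟶ Y} {q : Y ⟶ S} {q' : Y' ⟶ S'}
    {g₀ : S' ⟶ S} [LocallyOfFiniteType f] [LocallyOfFiniteType f'] [Flat q] [Flat (f ≫ q)]
    (hc : IsPullback g' f' f g) (hY : IsPullback g q' q g₀) {m b : ℤ} {K : DCoh.D X} (hb : K.IsLE b)
    (hK : DerSch.IsPseudoCoherentRel f m K) [DCoh.HasLpull g'] :
    DerSch.IsPseudoCoherentRel f' m ((DCoh.Lpull g').obj K) := by
  obtain ⟨G, hG, ⟨e⟩⟩ := DerivedCategory.exists_iso_Q_obj_of_isLE K b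
  obtain ⟨P, p, hPd, hPfl, hp⟩ := DCK91.exists_flat_res_le (O := X.sheaf) G b
    (inferInstanceAs (CochainComplex.IsLE (C := X.Modules) G b))
  haveI : IsIso (DerivedCategory.Q.map (C := CochainComplex X.Modules ℤ) p) :=
    (DerivedCategory.isIso_Q_map_iff_quasiIso X.Modules p).2 hp
  have hPf : ∀ i, FlatMod.IsFlat ((P : CochainComplex X.Modules ℤ).X i) := fun i => DCK91.flatMod_of_isFlat _ (hPfl i)
  obtain ⟨hk, -⟩ := DCK91.kff_of_le (X := X) P b hPd hPf
  let e' : K ≅ DerivedCategory.Q.obj (P : CochainComplex X.Modules ℤ) :=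
    e ≪≫ (asIso (DerivedCategory.Q.map (C := CochainComplex X.Modules ℤ) p)).symm
  obtain ⟨l⟩ := DCK91.nonempty_lpullIso g' P hk
  exact rel_congr ((DCoh.Lpull g').mapIso e' ≪≫ l).symm
    (rel_baseChange_relFlat hc hY P hPd (fun i => PerfFib24.isFlatOver_of_isFlat _ (hPf i)) (rel_congr e' hK))

end Groth.Agent.RelPCSch41
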