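import Groth.Agent.RelPCSch41.Spec
import Groth.Agent.RelPCSch41.Square
import Groth.Prelude.Def_DerSch2
import Mathlib.AlgebraicGeometry.Morphisms.FiniteType

/-!
Relative pseudo-coherence does not depend on the chart.
-/

set_option autoImplicit false
set_option backward.isDefEq.respectTransparency.types false
set_option linter.style.haveILetI false
set_option linter.unusedSectionVars false

noncomputable section

universe u

open CategoryTheory Limits AlgebraicGeometry TopologicalSpace DerivedCategory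
open Groth.Agent.DCX42
attribute [local instance] HasDerivedCategory.standard

namespace Groth.Agent.RelPCSch41

variable {X Y : Scheme.{u}}

/-- The morphism from an open to the spectrum of a ring mapping to its sections. -/
abbrev imm (U : X.Opens) {P : Type u} [CommRing P] (ψ : P →+* Γ(X, U)) :
    (U : Scheme.{u}) ⟶ Spec (CommRingCat.of P) :=
  U.toSpecΓ ≫ Spec.map (CommRingCat.ofHom ψ)

theorem isClosedImmersion_imm {U : X.Opens} (hU : IsAffineOpen U) {P : Type u} [CommRing P]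
    {ψ : P →+* Γ(X, U)} (hψ : Function.Surjective ψ) : IsClosedImmersion (imm U ψ) := by
  haveI : IsIso U.toSpecΓ := hU.isoSpec.isIso_hom
  haveI : IsClosedImmersion (Spec.map (CommRingCat.ofHom ψ)) :=
    IsClosedImmersion.spec_of_surjective (CommRingCat.ofHom ψ) hψ
  infer_instance

/-- Pseudo-coherence on an open after direct image to an affine scheme. -/
def PCat (m : ℤ) (K : DCoh.D X) (U : X.Opens) {P : Type u} [CommRing P] (ψ : P →+* Γ(X, U)) : Prop :=
  ∃ _ : IsClosedImmersion (imm U ψ), DCoh.IsPseudoCoherentD m ((pushD (imm U ψ)).obj ((resD U.ι).obj K))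

theorem pcat_iff_pc {m : ℤ} {K : DCoh.D X} {U : X.Opens} {P : Type u} [CommRing P] {ψ : P →+* Γ(X, U)}
    [IsClosedImmersion (imm U ψ)] :
    PCat m K U ψ ↔ DCoh.IsPseudoCoherentD m ((pushD (imm U ψ)).obj ((resD U.ι).obj K)) :=
  ⟨fun ⟨_, h⟩ => h, fun h => ⟨‹_›, h⟩⟩

theorem pcat_congr {m : ℤ} {K L : DCoh.D X} (e : K ≅ L) {U : X.Opens} {P : Type u} [CommRing P]
    {ψ : P →+* Γ(X, U)} (h : PCat m K U ψ) : PCat m L U ψ := by
  obtain ⟨_, h⟩ := h
  exact ⟨‹_›, isPC_of_iso ((pushD _).mapIso ((resD U.ι).mapIso e)) h⟩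

theorem chartPC_iff {m : ℤ} {K : DCoh.D X} {U : X.Opens} {V : Y.Opens} (hU : IsAffineOpen U) {n : ℕ}
    {φ : MvPolynomial (Fin n) Γ(Y, V) →+* Γ(X, U)} (hφ : Function.Surjective φ) :
    DerSch.ChartPC m K U V φ ↔ PCat m K U φ := by
  haveI := isClosedImmersion_imm hU hφ
  rw [pcat_iff_pc]
  constructor
  · intro h
    exact isPC_of_iso ((pushQ (imm U φ) ((resCx U.ι).obj (Q.objPreimage K))).symm ≪≫
      (pushD (imm U φ)).mapIso ((resQ U.ι _).symm ≪≫ (resD U.ι).mapIso (rep K))) (h (Q.objPreimage K) ⟨rep K⟩)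
  · rintro h G ⟨e⟩
    exact isPC_of_iso ((pushD (imm U φ)).mapIso ((resD U.ι).mapIso e.symm ≪≫ resQ U.ι G) ≪≫
      pushQ (imm U φ) ((resCx U.ι).obj G)) h

/-- Composition with a surjection whose direct image of the structure sheaf is pseudo-coherent. -/
theorem pcat_comp_iff {m : ℤ} {K : DCoh.D X} {U : X.Opens} (hU : IsAffineOpen U) {A T P : Type u} [CommRing A]
    [CommRing T] [CommRing P] [Algebra A T] [Algebra A P] [Module.Flat A T] [Algebra.FinitePresentation A T]
    [Module.Flat A P] [Algebra.FinitePresentation A P] {ψ : P →+* Γ(X, U)} (hψ : Function.Surjective ψ)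
    (q : T →ₐ[A] P) (hq : Function.Surjective q) :
    PCat m K U (ψ.comp q.toRingHom) ↔ PCat m K U ψ := by
  haveI := isClosedImmersion_imm hU hψ
  haveI := isClosedImmersion_imm hU (ψ := ψ.comp q.toRingHom) (hψ.comp hq)
  haveI : IsClosedImmersion (Spec.map (CommRingCat.ofHom q.toRingHom)) :=
    IsClosedImmersion.spec_of_surjective (CommRingCat.ofHom q.toRingHom) hq
  rw [pcat_iff_pc, pcat_iff_pc]
  have hc : imm U ψ ≫ Spec.map (CommRingCat.ofHom q.toRingHom) = imm U (ψ.comp q.toRingHom) := by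
    rw [imm, imm, Category.assoc, ← Spec.map_comp, ← CommRingCat.ofHom_comp]
  let e := (pushDComp (imm U ψ) (Spec.map (CommRingCat.ofHom q.toRingHom)) ≪≫ pushDCongr hc).app ((resD U.ι).obj K)
  rw [← isPC_pushD_iff (hasPCPush_of_surjective q hq) m ((pushD (imm U ψ)).obj ((resD U.ι).obj K))]
  exact ⟨isPC_of_iso e.symm, isPC_of_iso e⟩

/-- Independence of the flat finitely presented algebra surjecting onto the sections. -/
theorem pcat_indep {R : Type u} [CommRing R] {m : ℤ} {K : DCoh.D X} {U : X.Opens} (hU : IsAffineOpen U)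
    (P₁ P₂ : Type u) [CommRing P₁] [CommRing P₂] [Algebra R P₁] [Algebra R P₂]
    [Module.Flat R P₁] [Algebra.FinitePresentation R P₁] [Module.Flat R P₂] [Algebra.FinitePresentation R P₂]
    (ψ₁ : P₁ →+* Γ(X, U)) (h₁ : Function.Surjective ψ₁) (ψ₂ : P₂ →+* Γ(X, U)) (h₂ : Function.Surjective ψ₂)
    (hc : ψ₁.comp (algebraMap R P₁) = ψ₂.comp (algebraMap R P₂)) : PCat m K U ψ₁ ↔ PCat m K U ψ₂ := by
  obtain ⟨k₁, ρ₁, hρ₁⟩ := FlatMor67.PCH.exists_surj R P₁
  obtain ⟨k₂, ρ₂, hρ₂⟩ := FlatMor67.PCH.exists_surj R P₂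
  choose g₁ hg₁ using fun j : Fin k₂ => h₁ (ψ₂ (ρ₂ (MvPolynomial.X j)))
  choose g₂ hg₂ using fun i : Fin k₁ => h₂ (ψ₁ (ρ₁ (MvPolynomial.X i)))
  let T := MvPolynomial (Fin (k₁ + k₂)) R
  let q₁ : T →ₐ[R] P₁ := MvPolynomial.aeval (Fin.append (fun i => ρ₁ (MvPolynomial.X i)) g₁)
  let q₂ : T →ₐ[R] P₂ := MvPolynomial.aeval (Fin.append g₂ (fun j => ρ₂ (MvPolynomial.X j)))
  have hq₁ : Function.Surjective q₁ := by
    intro p
    obtain ⟨x, rfl⟩ := hρ₁ p
    refine ⟨MvPolynomial.rename (Fin.castAdd k₂) x, ?_⟩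
    have : q₁.comp (MvPolynomial.rename (Fin.castAdd k₂)) = ρ₁ := MvPolynomial.algHom_ext fun i => by
      show MvPolynomial.aeval _ (MvPolynomial.rename (Fin.castAdd k₂) (MvPolynomial.X i)) = _
      rw [MvPolynomial.rename_X, MvPolynomial.aeval_X, Fin.append_left]
    exact DFunLike.congr_fun this x
  have hq₂ : Function.Surjective q₂ := by
    intro p
    obtain ⟨x, rfl⟩ := hρ₂ p
    refine ⟨MvPolynomial.rename (Fin.natAdd k₁) x, ?_⟩
    have : q₂.comp (MvPolynomial.rename (Fin.natAdd k₁)) = ρ₂ := MvPolynomial.algHom_ext fun i => by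
      show MvPolynomial.aeval _ (MvPolynomial.rename (Fin.natAdd k₁) (MvPolynomial.X i)) = _
      rw [MvPolynomial.rename_X, MvPolynomial.aeval_X, Fin.append_right]
    exact DFunLike.congr_fun this x
  have hχ : ψ₁.comp q₁.toRingHom = ψ₂.comp q₂.toRingHom := by
    refine MvPolynomial.ringHom_ext (fun r => ?_) fun i => ?_
    · change ψ₁ (q₁ (MvPolynomial.C r)) = ψ₂ (q₂ (MvPolynomial.C r))
      rw [← MvPolynomial.algebraMap_eq, q₁.commutes, q₂.commutes]
      exact RingHom.congr_fun hc r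
    · refine Fin.addCases (fun i => ?_) (fun j => ?_) i
      · change ψ₁ (MvPolynomial.aeval _ (MvPolynomial.X _)) = ψ₂ (MvPolynomial.aeval _ (MvPolynomial.X _))
        rw [MvPolynomial.aeval_X, MvPolynomial.aeval_X, Fin.append_left, Fin.append_left, hg₂]
      · change ψ₁ (MvPolynomial.aeval _ (MvPolynomial.X _)) = ψ₂ (MvPolynomial.aeval _ (MvPolynomial.X _))
        rw [MvPolynomial.aeval_X, MvPolynomial.aeval_X, Fin.append_right, Fin.append_right, hg₁]
  rw [← pcat_comp_iff (A := R) hU h₁ q₁ hq₁, ← pcat_comp_iff (A := R) hU h₂ q₂ hq₂, hχ]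

theorem exists_away_lift {U : X.Opens} (hU : IsAffineOpen U) {P : Type u} [CommRing P] {ψ : P →+* Γ(X, U)}
    (hψ : Function.Surjective ψ) (G : P) :
    ∃ ψ' : Localization.Away G →+* Γ(X, X.basicOpen (ψ G)), Function.Surjective ψ' ∧
      ψ'.comp (algebraMap P (Localization.Away G)) =
        (X.presheaf.map (homOfLE (X.basicOpen_le (ψ G))).op).hom.comp ψ := by
  haveI := hU.isLocalization_basicOpen (ψ G)
  set ρ : Γ(X, U) →+* Γ(X, X.basicOpen (ψ G)) := (X.presheaf.map (homOfLE (X.basicOpen_le (ψ G))).op).hom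
    with hρ
  have hu : IsUnit (ρ.comp ψ G) := IsLocalization.Away.algebraMap_isUnit (S := Γ(X, X.basicOpen (ψ G))) (ψ G)
  refine ⟨IsLocalization.Away.lift G hu, ?_, IsLocalization.Away.lift_comp G hu⟩
  intro z
  obtain ⟨k, a, ha⟩ := IsLocalization.Away.surj (ψ G) z
  obtain ⟨A, rfl⟩ := hψ a
  obtain ⟨v, hv⟩ := IsUnit.pow k (IsLocalization.Away.algebraMap_isUnit (S := Localization.Away G) G)
  refine ⟨algebraMap P _ A * ↑v⁻¹, ?_⟩
  rw [map_mul, IsLocalization.Away.lift_eq, RingHom.comp_apply, show ρ (ψ A) = z * ρ (ψ G) ^ k from ha.symm,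
    show ρ (ψ G) ^ k = IsLocalization.Away.lift G hu (↑v : Localization.Away G) by
      rw [hv, map_pow, IsLocalization.Away.lift_eq, RingHom.comp_apply],
    mul_assoc, ← map_mul, Units.mul_inv, map_one, mul_one]

/-- Passing to a basic open of the spectrum. -/
theorem pcat_away {m : ℤ} {K : DCoh.D X} {U : X.Opens} (hU : IsAffineOpen U) {P P' : Type u} [CommRing P]
    [CommRing P'] [Algebra P P'] {ψ : P →+* Γ(X, U)} (G : P) [IsLocalization.Away G P']
    {U' : X.Opens} (hU' : U' = X.basicOpen (ψ G)) (hle : U' ≤ U) {ψ' : P' →+* Γ(X, U')}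
    (hcomp : ψ'.comp (algebraMap P P') = (X.presheaf.map (homOfLE hle).op).hom.comp ψ)
    [IsClosedImmersion (imm U ψ)] [IsClosedImmersion (imm U' ψ')] :
    (PCat m K U ψ → PCat m K U' ψ') ∧
      (PCat m K U' ψ' → DCoh.IsPseudoCoherentD m
        ((resD (Scheme.Opens.ι (X := Spec (CommRingCat.of P)) (PrimeSpectrum.basicOpen G))).obj
          ((pushD (imm U ψ)).obj ((resD U.ι).obj K)))) := by
  let b : Spec (CommRingCat.of P') ⟶ Spec (CommRingCat.of P) := Spec.map (CommRingCat.ofHom (algebraMap P P'))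
  haveI : IsOpenImmersion b := IsOpenImmersion.of_isLocalization G
  let a := X.homOfLE hle
  have hc : imm U' ψ' ≫ b = a ≫ imm U ψ := by
    simp only [a, b, imm, Category.assoc, ← Spec.map_comp, ← CommRingCat.ofHom_comp, hcomp]
    rw [CommRingCat.ofHom_comp, Spec.map_comp, CommRingCat.ofHom_hom,
      Scheme.Opens.toSpecΓ_SpecMap_presheaf_map_assoc U' U hle]
  have hb : b.opensRange = (PrimeSpectrum.basicOpen G : (Spec (CommRingCat.of P)).Opens) :=
    Opens.ext (PrimeSpectrum.localization_away_comap_range P' G)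
  have hr : a.opensRange = (imm U ψ) ⁻¹ᵁ b.opensRange := by
    rw [hb, imm, Scheme.Hom.comp_preimage, SpecMap_preimage_basicOpen, Scheme.Opens.toSpecΓ_preimage_basicOpen,
      Scheme.opensRange_homOfLE, hU']
    rfl
  let e := (sqD (imm U ψ) (imm U' ψ') a b hc hr).app ((resD U.ι).obj K) ≪≫
    (pushD (imm U' ψ')).mapIso ((resDComp a U.ι).app K ≪≫ (resDCongr (X.homOfLE_ι hle)).app K)
  rw [pcat_iff_pc, pcat_iff_pc]
  refine ⟨fun h => isPC_of_iso e (isPC_resD b h), fun h => ?_⟩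
  have key : ∀ O : (Spec (CommRingCat.of P)).Opens, b.opensRange = O →
      DCoh.IsPseudoCoherentD m ((resD O.ι).obj ((pushD (imm U ψ)).obj ((resD U.ι).obj K))) := by
    rintro O rfl
    exact isPC_opensRange b (isPC_of_iso e.symm h)
  exact key _ hb

end Groth.Agent.RelPCSch41
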