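import Groth.Agent.RelPCSch41.BaseChange
import Mathlib.AlgebraicGeometry.Morphisms.LocalIso
import Mathlib.AlgebraicGeometry.Morphisms.Descent
import Mathlib.RingTheory.RingHom.FaithfullyFlat

/-!
Descent of `n`-pseudo-coherence along flat surjective quasi-compact morphisms.
-/

set_option autoImplicit false
set_option backward.isDefEq.respectTransparency.types false
set_option linter.style.haveILetI false
set_option linter.unusedSectionVars false
set_option maxHeartbeats 400000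

noncomputable section

universe u

open CategoryTheory Limits AlgebraicGeometry TopologicalSpace DerivedCategory Opposite
open Groth.Agent.DCX42
attribute [local instance] HasDerivedCategory.standard MvPolynomial.algebraMvPolynomial

namespace Groth.Agent.RelPCSch41

variable {X Y Y' : Scheme.{u}}

/-- An affine flat cover of an affine open. -/
theorem exists_affine_flat_cover (h : Y' ⟶ Y) [Flat h] [Surjective h] [QuasiCompact h] {V : Y.Opens}
    (hV : IsAffineOpen V) :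
    ∃ (Z : Scheme.{u}) (q : Z ⟶ Y'), IsAffine Z ∧ Flat q ∧ Set.range (q ≫ h) = (V : Set Y) := by
  haveI : IsAffine (V : Scheme.{u}) := hV
  haveI : CompactSpace (h ⁻¹ᵁ V : Scheme.{u}) :=
    isCompact_iff_compactSpace.1 (h.isCompact_preimage hV.isCompact)
  obtain ⟨Z, p, hsurj, hp, hZ⟩ :=
    (h ⁻¹ᵁ V : Scheme.{u}).exists_hom_isAffine_of_isZariskiLocalAtSource @IsLocalIso
  haveI : Flat p := IsLocalIso.le_of_isZariskiLocalAtSource @Flat _ _ p hp
  refine ⟨Z, p ≫ (h ⁻¹ᵁ V).ι, hZ, inferInstance, Set.ext fun y => ⟨?_, fun hy => ?_⟩⟩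
  · rintro ⟨z, rfl⟩
    exact (p z).2
  · obtain ⟨y', rfl⟩ := h.surjective y
    obtain ⟨z, hz⟩ := hsurj.surj ⟨y', hy⟩
    refine ⟨z, ?_⟩
    simp only [Scheme.Hom.comp_apply]
    rw [hz]
    rfl

theorem faithfullyFlat_appLE_top {Z : Scheme.{u}} [IsAffine Z] (q : Z ⟶ Y) [Flat q] {V : Y.Opens}
    (hV : IsAffineOpen V) (hq : Set.range q = (V : Set Y)) :
    (q.appLE V ⊤ (fun z _ => show q z ∈ (V : Set Y) from hq ▸ ⟨z, rfl⟩)).hom.FaithfullyFlat := by
  rw [RingHom.FaithfullyFlat.iff_flat_and_comap_surjective]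
  refine ⟨q.flat_appLE hV (isAffineOpen_top Z) _, fun p => ?_⟩
  have hp : hV.fromSpec p ∈ Set.range q := by
    rw [hq]
    exact hV.range_fromSpec ▸ ⟨p, rfl⟩
  obtain ⟨z, hz⟩ := hp
  obtain ⟨r, rfl⟩ : z ∈ Set.range (isAffineOpen_top Z).fromSpec := by
    rw [(isAffineOpen_top Z).range_fromSpec]; trivial
  refine ⟨r, ?_⟩
  apply hV.fromSpec.isOpenEmbedding.injective
  rw [← hz]
  exact congr($((hV.SpecMap_appLE_fromSpec q (isAffineOpen_top Z) _)).base r)

theorem npc_descends {f : X ⟶ Y} [LocallyOfFiniteType f] (h : Y' ⟶ Y) [Flat h] [Surjective h] [QuasiCompact h]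
    (m : ℤ) (hf : DerSch.IsNPseudoCoherent (pullback.snd f h) m) : DerSch.IsNPseudoCoherent f m := by
  refine rel_iff.2 fun U V hU hV hUV => ?_
  obtain ⟨Z, q, hZ, hq, hrange⟩ := exists_affine_flat_cover h hV
  let f'' := pullback.snd (pullback.snd f h) q
  let g'' := pullback.fst (pullback.snd f h) q ≫ pullback.fst f h
  have hc : IsPullback g'' f'' f (q ≫ h) :=
    (IsPullback.of_hasPullback (pullback.snd f h) q).paste_horiz (IsPullback.of_hasPullback f h)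
  haveI : LocallyOfFiniteType f'' := inferInstance
  have hn : DerSch.IsNPseudoCoherent f'' m :=
    npc_baseChange f'' (pullback.fst (pullback.snd f h) q) q (IsPullback.of_hasPullback (pullback.snd f h) q) m hf
  have hVZ : (⊤ : Z.Opens) ≤ (q ≫ h) ⁻¹ᵁ V := fun z _ => show (q ≫ h) z ∈ (V : Set Y) from hrange ▸ ⟨z, rfl⟩
  have hff := faithfullyFlat_appLE_top (q ≫ h) hV hrange
  let U' := g'' ⁻¹ᵁ U ⊓ f'' ⁻¹ᵁ ⊤
  have hU' : IsAffineOpen U' := by
    have : IsAffine _ := hV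
    have : IsAffine _ := isAffineOpen_top Z
    have : IsAffine _ := hU
    exact .of_isIso (Scheme.Hom.isPullback_resLE hc hVZ hUV (rfl : g'' ⁻¹ᵁ U ⊓ f'' ⁻¹ᵁ ⊤ = _)).isoPullback.hom
  haveI := isIso_pushoutSection_of_isAffineOpen hc hVZ hUV (rfl : g'' ⁻¹ᵁ U ⊓ f'' ⁻¹ᵁ ⊤ = _) hV (isAffineOpen_top Z) hU
  have hp := (isIso_pushoutSection_iff hc hVZ hUV (rfl : g'' ⁻¹ᵁ U ⊓ f'' ⁻¹ᵁ ⊤ = _)).1 inferInstance
  obtain ⟨_, _, _⟩ := FlatMor67.PCS.alg_pushout hp
  have hUZ : U' ≤ f'' ⁻¹ᵁ ⊤ := inf_le_right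
  letI := (f.appLE V U hUV).hom.toAlgebra
  letI := ((q ≫ h).appLE V ⊤ hVZ).hom.toAlgebra
  letI := (g''.appLE U U' inf_le_left).hom.toAlgebra
  letI := (f''.appLE ⊤ U' hUZ).hom.toAlgebra
  letI : Algebra Γ(Y, V) Γ(pullback (pullback.snd f h) q, U') :=
    ((g''.appLE U U' inf_le_left).hom.comp (f.appLE V U hUV).hom).toAlgebra
  haveI : Module.FaithfullyFlat Γ(Y, V) Γ(Z, ⊤) := RingHom.faithfullyFlat_algebraMap_iff.mp hff
  haveI : Algebra.FiniteType Γ(Y, V) Γ(X, U) := f.finiteType_appLE hV hU hUV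
  obtain ⟨n, φ, hφ⟩ := FlatMor67.PCH.exists_surj Γ(Y, V) Γ(X, U)
  obtain ⟨φ', hφ', ⟨e⟩⟩ :=
    FlatMor67.PCH.bc_square Γ(Z, ⊤) Γ(pullback (pullback.snd f h) q, U') n φ hφ
  have h1 := (good_unit_iff hU' hUZ m φ' hφ').1 (good_of_rel hn hU' (isAffineOpen_top Z) hUZ)
  refine (good_unit_iff hU hUV m φ hφ).2 ?_
  letI := φ.toRingHom.toAlgebra
  letI := φ'.toRingHom.toAlgebra
  haveI := FlatMor67.PCH.faithfullyFlat_mvPolynomial (A := Γ(Y, V)) Γ(Z, ⊤) n
  obtain ⟨e'⟩ := DR39.rep_inD_baseChange (A := MvPolynomial (Fin n) Γ(Y, V))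
    (B := MvPolynomial (Fin n) Γ(Z, ⊤)) Γ(X, U)
  exact DR39.pc_reflect (DR39.extA _ (MvPolynomial (Fin n) Γ(Z, ⊤))) (DR39.pc_extendScalars_FF _)
    (DR39.finite_of_faithfullyFlat _) (DR39.isZero_of_faithfullyFlat _)
    ((h1.of_iso (DR39.inDIso e.symm)).of_iso e'.symm)

end Groth.Agent.RelPCSch41
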