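import Groth.Agent.RelPCSch41.BCRel
import Groth.Agent.RelPCSch41.Descent
import Groth.Agent.DCX42.QCohPull
import Groth.Agent.QCqs72.Basic
import Groth.Agent.DCK91.LpullComp

/-!
Descent of relative pseudo-coherence for objects with quasi-coherent cohomology.
-/

set_option autoImplicit false
set_option backward.isDefEq.respectTransparency.types false
set_option linter.style.haveILetI false
set_option linter.unusedSectionVars false
set_option maxHeartbeats 1000000

noncomputable section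

universe u

open CategoryTheory Limits AlgebraicGeometry
open Groth.Agent.DCX42
attribute [local instance] HasDerivedCategory.standard

namespace Groth.Agent.RelPCSch41

/-- Quasi-coherent cohomology is kept by direct image along a closed immersion. -/
theorem isQCohD_pushD {W Z : Scheme.{u}} (s : W ⟶ Z) [IsClosedImmersion s] {K : DCoh.D W}
    (hK : DCoh.IsQCohD K) : DCoh.IsQCohD ((pushD s).obj K) := fun i =>
  haveI : (DCoh.HD K i).IsQuasicoherent := hK i
  QC70.isQuasicoherent_of_iso (pushHD s K i).symm (QCqs72.isQuasicoherent_pushforward (M := DCoh.HD K i) s)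

/-- Descent of pseudo-coherence along a faithfully flat map of spectra. -/
theorem isPC_descends_spec {A B : CommRingCat.{u}} (φ : A ⟶ B) (hff : φ.hom.FaithfullyFlat)
    [DCoh.HasLpull (Spec.map φ)] {K : DCoh.D (Spec A)} (hq : DCoh.IsQCohD K) {m : ℤ}
    (h : DCoh.IsPseudoCoherentD m ((DCoh.Lpull (Spec.map φ)).obj K)) : DCoh.IsPseudoCoherentD m K := by
  letI := φ.hom.toAlgebra
  haveI : Module.FaithfullyFlat A B := hff
  haveI : PreservesFiniteLimits (tilde.functor A) := (Groth.Agent.S9498.tilde_exact A).1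
  haveI : PreservesFiniteLimits (tilde.functor B) := (Groth.Agent.S9498.tilde_exact B).1
  obtain ⟨M, ⟨e⟩⟩ := ((tildeD_fullyFaithful_essImage A).2.2 K).1 hq
  haveI := hasLBaseChange φ.hom
  obtain ⟨η⟩ := LBaseChange_comp_tildeD A B φ
  refine isPC_of_iso e ((isPC_tildeD_iff m M).2 ?_)
  have h' : DR39.PC m ((DRing.LBaseChange φ.hom).obj M) :=
    (isPC_tildeD_iff m _).1 (isPC_of_iso ((DCoh.Lpull (Spec.map φ)).mapIso e.symm ≪≫ (η.app M).symm) h)
  let M₀ : DRing.Cx (A : Type u) := DerivedCategory.Q.objPreimage M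
  haveI := DR39.SF.isKProjective_res M₀
  haveI : IsIso (DerivedCategory.Q.map (DR39.SF.aug M₀)) :=
    (DerivedCategory.isIso_Q_map_iff_quasiIso _ _).2 (DR39.SF.quasiIso_aug M₀)
  let eM : M ≅ (DerivedCategory.Q.obj (DR39.SF.res M₀) : Dual.D (A : Type u)) :=
    (DerivedCategory.Q.objObjPreimageIso M).symm ≪≫ (asIso (DerivedCategory.Q.map (DR39.SF.aug M₀))).symm
  exact DR39.pc_reflect (DR39.extA (A : Type u) (B : Type u)) (DR39.pc_extendScalars_FF _)
    (DR39.finite_of_faithfullyFlat _) (DR39.isZero_of_faithfullyFlat _)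
    (h'.of_iso ((DRing.LBaseChange φ.hom).mapIso eM ≪≫
      DR39.LBaseChangeIso φ.hom _ DR39.isKFlat_of_isKProjective ≪≫
      (DR39.DFQ (DR39.extA (A : Type u) (B : Type u)) (DR39.SF.res M₀)).symm ≪≫
      (DR39.DF (DR39.extA (A : Type u) (B : Type u))).mapIso eM.symm))

/-- Polynomials over a faithfully flat ring map. -/
theorem faithfullyFlat_map {A A' : Type u} [CommRing A] [CommRing A'] (c : A →+* A') (hc : c.FaithfullyFlat)
    (n : ℕ) : (MvPolynomial.map (σ := Fin n) c).FaithfullyFlat := by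
  letI := c.toAlgebra
  haveI : Module.FaithfullyFlat A A' := hc
  haveI h := FlatMor67.PCH.faithfullyFlat_mvPolynomial (A := A) A' n
  exact h

variable {X Y Y' : Scheme.{u}}

/-- Relative pseudo-coherence descends along flat surjective quasi-compact base change. -/
theorem rel_descends {f : X ⟶ Y} [LocallyOfFiniteType f] (h : Y' ⟶ Y) [Flat h] [Surjective h] [QuasiCompact h]
    [DCoh.HasLpull (pullback.fst f h)] {m : ℤ} {K : DCoh.D X} (hq : DCoh.IsQCohD K)
    (hK : DerSch.IsPseudoCoherentRel (pullback.snd f h) m ((DCoh.Lpull (pullback.fst f h)).obj K)) :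
    DerSch.IsPseudoCoherentRel f m K := by
  refine rel_congr (rep K) (rel_iff.2 fun U V hU hV hUV => ?_)
  obtain ⟨Z, q, hZ, hq', hrange⟩ := exists_affine_flat_cover h hV
  let f'' := pullback.snd (pullback.snd f h) q
  let p := pullback.fst (pullback.snd f h) q
  let g'' := p ≫ pullback.fst f h
  have hc : IsPullback g'' f'' f (q ≫ h) :=
    (IsPullback.of_hasPullback (pullback.snd f h) q).paste_horiz (IsPullback.of_hasPullback f h)
  haveI : Flat p := inferInstance
  haveI : Flat g'' := inferInstance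
  haveI := DCK91.hasLpull p
  haveI := DCK91.hasLpull g''
  let C := DerivedCategory.Q.objPreimage K
  obtain ⟨el⟩ := nonempty_lpull_flat g'' C
  obtain ⟨ec⟩ := DCK91.Lpull_comp p (pullback.fst f h)
  have hn : DerSch.IsPseudoCoherentRel f'' m
      (DerivedCategory.Q.obj (((Scheme.Modules.pullback g'').mapHomologicalComplex (ComplexShape.up ℤ)).obj C)) :=
    rel_congr (ec.app K ≪≫ (DCoh.Lpull g'').mapIso (rep K).symm ≪≫ el)
      (rel_baseChange_Lpull (IsPullback.of_hasPullback (pullback.snd f h) q) hK)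
  have hVZ : (⊤ : Z.Opens) ≤ (q ≫ h) ⁻¹ᵁ V := fun z _ => show (q ≫ h) z ∈ (V : Set Y) from hrange ▸ ⟨z, rfl⟩
  have hff := faithfullyFlat_appLE_top (q ≫ h) hV hrange
  let U' := g'' ⁻¹ᵁ U ⊓ f'' ⁻¹ᵁ ⊤
  have hU' : IsAffineOpen U' := by
    have : IsAffine _ := hV
    have : IsAffine _ := isAffineOpen_top Z
    have : IsAffine _ := hU
    exact .of_isIso (Scheme.Hom.isPullback_resLE hc hVZ hUV (rfl : g'' ⁻¹ᵁ U ⊓ f'' ⁻¹ᵁ ⊤ = _)).isoPullback.hom
  haveI := isIso_pushoutSection_of_isAffineOpen hc hVZ hUV (rfl : g'' ⁻¹ᵁ U ⊓ f'' ⁻¹ᵁ ⊤ = _) hV (isAffineOpen_top Z) hU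
  have hp := (isIso_pushoutSection_iff hc hVZ hUV (rfl : g'' ⁻¹ᵁ U ⊓ f'' ⁻¹ᵁ ⊤ = _)).1 inferInstance
  have hUU : U' ≤ g'' ⁻¹ᵁ U := inf_le_left
  have hUZ : U' ≤ f'' ⁻¹ᵁ ⊤ := inf_le_right
  obtain ⟨n, φ, hφ⟩ := exists_chart_of_ft (f := f) hU hV hUV
  obtain ⟨φ', hφ's, hφ'C, hcomp, hker⟩ := exists_bc_presentation hp φ hφ.1 hφ.2
  haveI := isClosedImmersion_imm hU hφ.1
  haveI := isClosedImmersion_imm hU' hφ's
  let ρ := MvPolynomial.map (σ := Fin n) ((q ≫ h).appLE V ⊤ hVZ).hom
  let s := imm U φ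
  let s' := imm U' φ'
  let πP := Spec.map (CommRingCat.ofHom ρ)
  let π' := g''.resLE U U' hUU
  have hρ : ρ.FaithfullyFlat := faithfullyFlat_map _ hff n
  haveI : Flat πP := by
    rw [HasRingHomProperty.Spec_iff (P := @Flat)]
    exact hρ.flat
  have w : s' ≫ πP = π' ≫ s := by
    simp only [s, s', π', πP, imm, Category.assoc]
    rw [← Spec.map_comp, ← CommRingCat.ofHom_comp, hcomp, ← Category.assoc (g''.resLE U U' hUU),
      ← Scheme.Opens.toSpecΓ_SpecMap_appLE, Category.assoc, ← Spec.map_comp]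
    rfl
  have hk : s'.ker.ideal ⟨⊤, isAffineOpen_top _⟩ =
      (s.ker.ideal ⟨⊤, isAffineOpen_top _⟩).map πP.appTop.hom := by
    rw [ker_imm_top, ker_imm_top, Ideal.map_map, ← CommRingCat.hom_comp, appTop_specMap, CommRingCat.hom_comp,
      ← Ideal.map_map, hker]
    rfl
  let CU := (resCx U.ι).obj C
  rw [good_iff_pc hU hUV hφ]
  refine isPC_of_iso ((pushD s).mapIso (resQ U.ι C) ≪≫ pushQ s CU).symm ?_
  haveI := DCK91.hasLpull πP
  obtain ⟨eL⟩ := nonempty_lpull_flat πP (((Scheme.Modules.pushforward s).mapHomologicalComplex (ComplexShape.up ℤ)).obj CU)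
  refine isPC_descends_spec (CommRingCat.ofHom ρ) hρ
    (isQCohD_of_iso ((pushD s).mapIso (resQ U.ι C) ≪≫ pushQ s CU)
      (isQCohD_pushD s (isQCohD_resD (isQCohD_of_iso (rep K).symm hq) U.ι))) (isPC_of_iso eL.symm ?_)
  let η : Scheme.Modules.restrictFunctor U.ι ⋙ Scheme.Modules.pushforward s ⋙ Scheme.Modules.pullback πP ≅
      (Scheme.Modules.pullback g'' ⋙ Scheme.Modules.restrictFunctor U'.ι) ⋙ Scheme.Modules.pushforward s' :=
    Functor.isoWhiskerLeft _ (closedBC s s' πP π' w hk) ≪≫ (Functor.associator _ _ _).symm ≪≫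
      Functor.isoWhiskerRight (Functor.isoWhiskerRight (Scheme.Modules.restrictFunctorIsoPullback U.ι) _ ≪≫
        Scheme.Modules.pullbackComp π' U.ι ≪≫ Scheme.Modules.pullbackCongr (g''.resLE_comp_ι hUU) ≪≫
        (Scheme.Modules.pullbackComp U'.ι g'').symm ≪≫
        Functor.isoWhiskerLeft _ (Scheme.Modules.restrictFunctorIsoPullback U'.ι).symm) _
  let P' := ((Scheme.Modules.pullback g'').mapHomologicalComplex (ComplexShape.up ℤ)).obj C
  exact isPC_of_iso ((pushD s').mapIso (resQ U'.ι P') ≪≫ pushQ s' ((resCx U'.ι).obj P') ≪≫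
      (DerivedCategory.Q.mapIso ((NatIso.mapHomologicalComplex η (ComplexShape.up ℤ)).app C)).symm)
    ((good_iff_pc hU' hUZ ⟨hφ's, hφ'C⟩).1 (good_of_rel hn hU' (isAffineOpen_top Z) hUZ))

end Groth.Agent.RelPCSch41
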