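import Groth.Agent.RelPCSch41.BCTor
import Groth.Agent.DCK91.LpullComp
import Groth.Agent.PerfFib24.Tensor
import Groth.Agent.RelPCSch41.FlatPerf
import Groth.Agent.Omega57.PullFree
import Groth.Agent.TorStalk41.ExternApply
import Groth.Agent.TorStalk41.ExternBounded

/-!
External products and relative pseudo-coherence.
-/

set_option autoImplicit false
set_option backward.isDefEq.respectTransparency.types false
set_option linter.style.haveILetI false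
set_option linter.unusedSectionVars false
set_option maxHeartbeats 1000000

noncomputable section

universe u

open CategoryTheory Limits AlgebraicGeometry
open Groth.Agent.DCX42
attribute [local instance] HasDerivedCategory.standard

namespace Groth.Agent.RelPCSch41

/-- Flat resolutions of objects bounded above. -/
theorem exists_flat_rep {X : Scheme.{u}} {b : ℤ} {K : DCoh.D X} (hb : K.IsLE b) :
    ∃ P : CochainComplex X.Modules ℤ, (∀ i, b < i → IsZero (P.X i)) ∧ (∀ i, FlatMod.IsFlat (P.X i)) ∧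
      DCoh.IsKFlat P ∧ Nonempty (K ≅ DerivedCategory.Q.obj P) := by
  obtain ⟨G, hG, ⟨e⟩⟩ := DerivedCategory.exists_iso_Q_obj_of_isLE K b
  obtain ⟨P, p, hPd, hPfl, hp⟩ := DCK91.exists_flat_res_le (O := X.sheaf) G b
    (inferInstanceAs (CochainComplex.IsLE (C := X.Modules) G b))
  haveI : IsIso (DerivedCategory.Q.map (C := CochainComplex X.Modules ℤ) p) :=
    (DerivedCategory.isIso_Q_map_iff_quasiIso X.Modules p).2 hp
  have hPf : ∀ i, FlatMod.IsFlat ((P : CochainComplex X.Modules ℤ).X i) := fun i => DCK91.flatMod_of_isFlat _ (hPfl i)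
  exact ⟨P, hPd, hPf, (DCK91.kff_of_le (X := X) P b hPd hPf).1,
    ⟨e ≪≫ (asIso (DerivedCategory.Q.map (C := CochainComplex X.Modules ℤ) p)).symm⟩⟩

/-- Inverse image of the structure sheaf in degree zero. -/
def pullUnitCxIso {X Y : Scheme.{u}} (f : X ⟶ Y) :
    ((Scheme.Modules.pullback f).mapHomologicalComplex (ComplexShape.up ℤ)).obj (DerSch.unitCx Y) ≅ DerSch.unitCx X :=
  (HomologicalComplex.singleMapHomologicalComplex (Scheme.Modules.pullback f) (ComplexShape.up ℤ) 0).app _ ≪≫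
    (HomologicalComplex.single X.Modules (ComplexShape.up ℤ) 0).mapIso
      (haveI := Omega57.final_opensMap f
       haveI : (SheafOfModules.pushforward.{u} f.toRingCatSheafHom).IsRightAdjoint :=
         (Scheme.Modules.pullbackPushforwardAdjunction f).isRightAdjoint
       @asIso _ _ _ _ (SheafOfModules.pullbackObjUnitToUnit.{u} f.toRingCatSheafHom)
         (SheafOfModules.instIsIsoPullbackObjUnitToUnitOfFinal _))

variable {S X₁ Y₁ X₂ Y₂ X Y : Scheme.{u}} {f₁ : X₁ ⟶ Y₁} {q₁ : Y₁ ⟶ S} {f₂ : X₂ ⟶ Y₂} {q₂ : Y₂ ⟶ S}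
  {pX₁ : X ⟶ X₁} {pX₂ : X ⟶ X₂} {pY₁ : Y ⟶ Y₁} {pY₂ : Y ⟶ Y₂} {f : X ⟶ Y}

/-- The factorization of a product of morphisms through a mixed product. -/
theorem exists_prod_factor [Flat (f₂ ≫ q₂)] [LocallyOfFiniteType f₁] [LocallyOfFiniteType f₂]
    (hX : IsPullback pX₁ pX₂ (f₁ ≫ q₁) (f₂ ≫ q₂)) (hY : IsPullback pY₁ pY₂ q₁ q₂)
    (hf₁ : f ≫ pY₁ = pX₁ ≫ f₁) (hf₂ : f ≫ pY₂ = pX₂ ≫ f₂) :
    ∃ (Z : Scheme.{u}) (u : X ⟶ Z) (v : Z ⟶ Y) (r₁ : Z ⟶ Y₁) (r₂ : Z ⟶ X₂), u ≫ v = f ∧ Flat r₁ ∧ Flat pX₁ ∧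
      LocallyOfFiniteType u ∧ LocallyOfFiniteType v ∧ u ≫ r₂ = pX₂ ∧
      IsPullback pX₁ u f₁ r₁ ∧ IsPullback r₂ v f₂ pY₂ := by
  let Z := pullback q₁ (f₂ ≫ q₂)
  let u : X ⟶ Z := pullback.lift (pX₁ ≫ f₁) pX₂ (by rw [Category.assoc, hX.w])
  let v : Z ⟶ Y := hY.lift (pullback.fst _ _) (pullback.snd _ _ ≫ f₂) (by rw [Category.assoc, pullback.condition])
  have hu₂ : u ≫ pullback.snd q₁ (f₂ ≫ q₂) = pX₂ := pullback.lift_snd _ _ _
  have hv₁ : v ≫ pY₁ = pullback.fst q₁ (f₂ ≫ q₂) := hY.lift_fst _ _ _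
  have h₁ : IsPullback pX₁ u f₁ (pullback.fst q₁ (f₂ ≫ q₂)) :=
    IsPullback.of_bot (by rw [hu₂]; exact hX) (pullback.lift_fst _ _ _).symm (IsPullback.of_hasPullback _ _)
  have h₂ : IsPullback (pullback.snd q₁ (f₂ ≫ q₂)) v f₂ pY₂ :=
    IsPullback.of_bot (by rw [hv₁]; exact (IsPullback.of_hasPullback _ _).flip) (hY.lift_snd _ _ _).symm hY.flip
  refine ⟨Z, u, v, pullback.fst _ _, pullback.snd _ _, ?_, inferInstance,
    MorphismProperty.of_isPullback (P := @Flat) hX.flip inferInstance,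
    MorphismProperty.of_isPullback (P := @LocallyOfFiniteType) h₁ inferInstance,
    MorphismProperty.of_isPullback (P := @LocallyOfFiniteType) h₂ inferInstance, hu₂, h₁, h₂⟩
  refine hY.hom_ext ?_ ?_
  · rw [Category.assoc, hv₁, hf₁]
    exact pullback.lift_fst _ _ _
  · rw [Category.assoc, hY.lift_snd, ← Category.assoc, hu₂, hf₂]

/-- Products of pseudo-coherent morphisms. -/
theorem npc_prod [Flat q₂] [Flat (f₂ ≫ q₂)] [LocallyOfFiniteType f₁] [LocallyOfFiniteType f₂]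
    (hX : IsPullback pX₁ pX₂ (f₁ ≫ q₁) (f₂ ≫ q₂)) (hY : IsPullback pY₁ pY₂ q₁ q₂)
    (hf₁ : f ≫ pY₁ = pX₁ ≫ f₁) (hf₂ : f ≫ pY₂ = pX₂ ≫ f₂) (m : ℤ)
    (h₁ : DerSch.IsNPseudoCoherent f₁ m) (h₂ : DerSch.IsNPseudoCoherent f₂ m) : DerSch.IsNPseudoCoherent f m := by
  obtain ⟨Z, u, v, r₁, r₂, rfl, _, _, _, _, -, hu, hv⟩ := exists_prod_factor hX hY hf₁ hf₂
  refine rel_comp (c := m) (b := 0) (isLE_unit X) ?_ (by omega) (npc_baseChange u pX₁ r₁ hu m h₁)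
  exact rel_congr (DerivedCategory.Q.mapIso (pullUnitCxIso r₂))
    (rel_baseChange_relFlat hv hY.flip (b := 0) (DerSch.unitCx X₂)
      (fun i hi => HomologicalComplex.isZero_single_obj_X _ 0 _ i (by omega))
      (flatOver_single _ (flatOver_unit_iff.2 inferInstance))
      h₂)

/-- External tensor products of relatively pseudo-coherent flat complexes. -/
theorem rel_extern_flat [Flat q₂] [Flat (f₂ ≫ q₂)] [LocallyOfFiniteType f₁] [LocallyOfFiniteType f₂]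
    (hX : IsPullback pX₁ pX₂ (f₁ ≫ q₁) (f₂ ≫ q₂)) (hY : IsPullback pY₁ pY₂ q₁ q₂)
    (hf₁ : f ≫ pY₁ = pX₁ ≫ f₁) (hf₂ : f ≫ pY₂ = pX₂ ≫ f₂) {a₁ b₁ a₂ b₂ m : ℤ}
    {P₁ : CochainComplex X₁.Modules ℤ} (hd₁ : ∀ i, b₁ < i → IsZero (P₁.X i))
    (hP₁ : DerSch.IsPseudoCoherentRel f₁ a₁ (DerivedCategory.Q.obj P₁))
    {P₂ : CochainComplex X₂.Modules ℤ} (hd₂ : ∀ i, b₂ < i → IsZero (P₂.X i)) (hfl₂ : ∀ i, FlatMod.IsFlat (P₂.X i))
    (hP₂ : DerSch.IsPseudoCoherentRel f₂ a₂ (DerivedCategory.Q.obj P₂)) (hm : a₁ + b₂ ≤ m) (hm' : a₂ + b₁ ≤ m) :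
    DerSch.IsPseudoCoherentRel f m (DerivedCategory.Q.obj ((DCoh.tensorCx.obj
      (((Scheme.Modules.pullback pX₁).mapHomologicalComplex (ComplexShape.up ℤ)).obj P₁)).obj
      (((Scheme.Modules.pullback pX₂).mapHomologicalComplex (ComplexShape.up ℤ)).obj P₂))) := by
  obtain ⟨Z, u, v, r₁, r₂, rfl, _, _, _, _, hur, hu, hv⟩ := exists_prod_factor hX hY hf₁ hf₂
  let E := ((Scheme.Modules.pullback pX₁).mapHomologicalComplex (ComplexShape.up ℤ)).obj P₁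
  let M := ((Scheme.Modules.pullback r₂).mapHomologicalComplex (ComplexShape.up ℤ)).obj P₂
  have hE : DerSch.IsPseudoCoherentRel u a₁ (DerivedCategory.Q.obj E) := rel_baseChange hu P₁ hP₁
  have hEb : (DerivedCategory.Q.obj E).IsLE b₁ := by
    haveI : CochainComplex.IsStrictlyLE E b₁ := (CochainComplex.isStrictlyLE_iff E b₁).2
      fun i hi => (Scheme.Modules.pullback pX₁).map_isZero (hd₁ i hi)
    exact (DerivedCategory.isLE_Q_obj_iff _ _).2 inferInstance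
  have hM : DerSch.IsPseudoCoherentRel v a₂ (DerivedCategory.Q.obj M) :=
    rel_baseChange_relFlat hv hY.flip P₂ hd₂ (fun i => PerfFib24.isFlatOver_of_isFlat _ (hfl₂ i)) hP₂
  have h := rel_comp_tensor (d := b₂) hE hEb (fun i hi => (Scheme.Modules.pullback r₂).map_isZero (hd₂ i hi))
    (fun i => DCK91.isFlat_pullback r₂ _ (hfl₂ i)) hM hm (by omega : a₂ + b₁ ≤ m)
  let η : Scheme.Modules.pullback r₂ ⋙ Scheme.Modules.pullback u ≅ Scheme.Modules.pullback pX₂ :=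
    Scheme.Modules.pullbackComp u r₂ ≪≫ Scheme.Modules.pullbackCongr hur
  exact rel_congr (DerivedCategory.Q.mapIso (((DCoh.tensorCx (X := X)).obj E).mapIso
    ((NatIso.mapHomologicalComplex η (ComplexShape.up ℤ)).app P₂))) h

/-- Changing the representative of a factor of a derived tensor product. -/
theorem nonempty_ltensor_kflat {K A P : CochainComplex X.Modules ℤ} [DCoh.HasLTensorCx K] (hA : DCoh.IsKFlat A)
    (e : DerivedCategory.Q.obj K ≅ DerivedCategory.Q.obj P) :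
    Nonempty ((DCoh.LTensorCx K).obj (DerivedCategory.Q.obj A) ≅
      DerivedCategory.Q.obj ((DCoh.tensorCx.obj A).obj P)) := by
  haveI := PerfFib24.hasLTensorCx A hA
  obtain ⟨t⟩ := TorStalk41.nonempty_ltensorIso K A hA
  obtain ⟨u₁⟩ := DCK91.nonempty_ltcIso A hA K
  obtain ⟨u₂⟩ := DCK91.nonempty_ltcIso A hA P
  exact ⟨t ≪≫ DerivedCategory.Q.mapIso (Mod48.tcSymm (O := X.sheaf) A K) ≪≫ u₁.symm ≪≫
    (DCoh.LTensorCx A).mapIso e ≪≫ u₂ ≪≫ DerivedCategory.Q.mapIso (Mod48.tcSymm (O := X.sheaf) P A)⟩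

/-- External derived tensor products, the second factor flat over the base. -/
theorem rel_extern [Flat q₂] [Flat (f₂ ≫ q₂)] [LocallyOfFiniteType f₁] [LocallyOfFiniteType f₂]
    (hX : IsPullback pX₁ pX₂ (f₁ ≫ q₁) (f₂ ≫ q₂)) (hY : IsPullback pY₁ pY₂ q₁ q₂)
    (hf₁ : f ≫ pY₁ = pX₁ ≫ f₁) (hf₂ : f ≫ pY₂ = pX₂ ≫ f₂) {a₁ b₁ a₂ b₂ m : ℤ}
    {E₁ : DCoh.D X₁} (hb₁ : E₁.IsLE b₁) (h₁ : DerSch.IsPseudoCoherentRel f₁ a₁ E₁)
    {E₂ : DCoh.D X₂} (hb₂ : E₂.IsLE b₂) (h₂ : DerSch.IsPseudoCoherentRel f₂ a₂ E₂) (hm : a₁ + b₂ ≤ m)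
    (hm' : a₂ + b₁ ≤ m) [DCoh.HasLpull pX₁] [DCoh.HasLpull pX₂] (K₂ : CochainComplex X.Modules ℤ)
    [DCoh.HasLTensorCx K₂] (eK : DCoh.toD X K₂ ≅ (DCoh.Lpull pX₂).obj E₂) :
    DerSch.IsPseudoCoherentRel f m ((DCoh.LTensorCx K₂).obj ((DCoh.Lpull pX₁).obj E₁)) ∧
      ((DCoh.LTensorCx K₂).obj ((DCoh.Lpull pX₁).obj E₁)).IsLE (b₁ + b₂) := by
  obtain ⟨P₁, hd₁, hfl₁, hk₁, ⟨e₁⟩⟩ := exists_flat_rep hb₁
  obtain ⟨P₂, hd₂, hfl₂, hk₂, ⟨e₂⟩⟩ := exists_flat_rep hb₂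
  obtain ⟨l₁⟩ := DCK91.nonempty_lpullIso pX₁ P₁ hk₁
  obtain ⟨l₂⟩ := DCK91.nonempty_lpullIso pX₂ P₂ hk₂
  obtain ⟨t⟩ := nonempty_ltensor_kflat (K := K₂) (DCK91.isKFlat_pullback pX₁ P₁ hk₁)
    (eK ≪≫ (DCoh.Lpull pX₂).mapIso e₂ ≪≫ l₂)
  let e := (DCoh.LTensorCx K₂).mapIso ((DCoh.Lpull pX₁).mapIso e₁ ≪≫ l₁) ≪≫ t
  refine ⟨rel_congr e.symm (rel_extern_flat hX hY hf₁ hf₂ hd₁ (rel_congr e₁ h₁) hd₂ hfl₂ (rel_congr e₂ h₂) hm hm'), ?_⟩
  haveI : DerivedCategory.TStructure.t.IsLE (DerivedCategory.Q.obj ((DCoh.tensorCx.obj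
      (((Scheme.Modules.pullback pX₁).mapHomologicalComplex (ComplexShape.up ℤ)).obj P₁)).obj
      (((Scheme.Modules.pullback pX₂).mapHomologicalComplex (ComplexShape.up ℤ)).obj P₂))) (b₁ + b₂) :=
    isLE_tF (M := ((Scheme.Modules.pullback pX₂).mapHomologicalComplex (ComplexShape.up ℤ)).obj P₂) (d := b₂)
    (fun i hi => (Scheme.Modules.pullback pX₂).map_isZero (hd₂ i hi))
    (fun i => DCK91.isFlat_pullback pX₂ _ (hfl₂ i))
    (C := ((Scheme.Modules.pullback pX₁).mapHomologicalComplex (ComplexShape.up ℤ)).obj P₁) (e := b₁) (by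
      haveI : DerivedCategory.TStructure.t.IsLE ((DCoh.Lpull pX₁).obj E₁) b₁ := isLE_Lpull pX₁ hb₁
      exact DerivedCategory.TStructure.t.isLE_of_iso ((DCoh.Lpull pX₁).mapIso e₁ ≪≫ l₁) b₁)
  exact DerivedCategory.TStructure.t.isLE_of_iso e.symm _

/-- External derived tensor products, the first factor flat over the base. -/
theorem rel_extern' [Flat q₁] [Flat (f₁ ≫ q₁)] [LocallyOfFiniteType f₁] [LocallyOfFiniteType f₂]
    (hX : IsPullback pX₁ pX₂ (f₁ ≫ q₁) (f₂ ≫ q₂)) (hY : IsPullback pY₁ pY₂ q₁ q₂)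
    (hf₁ : f ≫ pY₁ = pX₁ ≫ f₁) (hf₂ : f ≫ pY₂ = pX₂ ≫ f₂) {a₁ b₁ a₂ b₂ m : ℤ}
    {E₁ : DCoh.D X₁} (hb₁ : E₁.IsLE b₁) (h₁ : DerSch.IsPseudoCoherentRel f₁ a₁ E₁)
    {E₂ : DCoh.D X₂} (hb₂ : E₂.IsLE b₂) (h₂ : DerSch.IsPseudoCoherentRel f₂ a₂ E₂) (hm : a₁ + b₂ ≤ m)
    (hm' : a₂ + b₁ ≤ m) [DCoh.HasLpull pX₁] [DCoh.HasLpull pX₂] (K₂ : CochainComplex X.Modules ℤ)
    [DCoh.HasLTensorCx K₂] (eK : DCoh.toD X K₂ ≅ (DCoh.Lpull pX₂).obj E₂) :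
    DerSch.IsPseudoCoherentRel f m ((DCoh.LTensorCx K₂).obj ((DCoh.Lpull pX₁).obj E₁)) := by
  obtain ⟨P₁, hd₁, hfl₁, hk₁, ⟨e₁⟩⟩ := exists_flat_rep hb₁
  obtain ⟨P₂, hd₂, hfl₂, hk₂, ⟨e₂⟩⟩ := exists_flat_rep hb₂
  obtain ⟨l₁⟩ := DCK91.nonempty_lpullIso pX₁ P₁ hk₁
  obtain ⟨l₂⟩ := DCK91.nonempty_lpullIso pX₂ P₂ hk₂
  obtain ⟨t⟩ := nonempty_ltensor_kflat (K := K₂) (DCK91.isKFlat_pullback pX₁ P₁ hk₁)
    (eK ≪≫ (DCoh.Lpull pX₂).mapIso e₂ ≪≫ l₂)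
  let e := (DCoh.LTensorCx K₂).mapIso ((DCoh.Lpull pX₁).mapIso e₁ ≪≫ l₁) ≪≫ t
  exact rel_congr (e ≪≫ DerivedCategory.Q.mapIso (Mod48.tcSymm (O := X.sheaf) _ _)).symm
    (rel_extern_flat hX.flip hY.flip hf₂ hf₁ hd₂ (rel_congr e₂ h₂) hd₁ hfl₁ (rel_congr e₁ h₁) hm' hm)

end Groth.Agent.RelPCSch41
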