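import Groth.Agent.DR39.Patch
import Groth.Agent.DR39.PC2
import Groth.Agent.DR39.BC

/-!
Flatness of the lowest term after a surjective base change from the tor amplitude of the derived base change.
-/

set_option autoImplicit false
set_option backward.isDefEq.respectTransparency.types false
set_option linter.style.haveILetI false
set_option linter.unusedSectionVars false

noncomputable section

universe u

open CategoryTheory Limits Pretriangulated
open scoped TensorProduct
attribute [local instance] HasDerivedCategory.standard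

namespace Groth.Agent.RelPCSch41

open Groth.Agent.DR39

variable {A B : Type u} [CommRing A] [CommRing B] (φ : A →+* B) [DRing.HasLBaseChange φ]

/-- The derived base change of an object of given tor amplitude has the same tor amplitude. -/
theorem ta_LBaseChange {X : Dual.D A} {a b : ℤ} (h : TA a b X) : TA a b ((DRing.LBaseChange φ).obj X) := by
  obtain ⟨E, hEv, hE, ⟨e⟩⟩ := h
  refine TA.of_iso ?_ ((LBaseChangeIso φ E
    (isKFlat_of_flat b (fun i hi => hEv i (Or.inr hi)) hE)).symm ≪≫ (DRing.LBaseChange φ).mapIso e)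
  exact ⟨extCx φ E, fun i hi => (ModuleCat.extendScalars φ).map_isZero (hEv i hi),
    fun i => flat_extendScalars φ (hE i), ⟨Iso.refl _⟩⟩

/-- The cokernel of a free resolution in top degree. -/
theorem exists_top_quot {M : ModuleCat.{u} A} (F : DRing.Cx A) {a : ℤ} (hFv : DRing.VanishesAbove F a)
    (e : F.homology a ≅ M) :
    ∃ q : F.X a →ₗ[A] M, Function.Surjective q ∧ Function.Exact (F.d (a - 1) a).hom q := by
  have hz : ∀ x : F.X a, x ∈ LinearMap.ker (F.d a (a + 1)).hom := fun x => by
    haveI := ModuleCat.subsingleton_of_isZero (hFv (a + 1) (by omega))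
    exact Subsingleton.elim (α := F.X (a + 1)) _ _
  let ι : F.X a →ₗ[A] Zd F a := LinearMap.codRestrict _ LinearMap.id hz
  refine ⟨e.toLinearEquiv.toLinearMap ∘ₗ hcls F a ∘ₗ ι, ?_, fun x => ?_⟩
  · refine e.toLinearEquiv.surjective.comp ((hcls_surjective F a).comp fun z => ⟨z.1, rfl⟩)
  · exact (LinearEquiv.map_eq_zero_iff _).trans (hcls_eq_zero_iff F a (ι x))

/-- Flatness of the quotient of the top of a resolution after base change. -/
theorem flat_ext_of_ta {M : ModuleCat.{u} A} (F : DRing.Cx A) {a b : ℤ} (hFv : DRing.VanishesAbove F a)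
    (hF : DRing.TermwiseFlat F) (e : F.homology a ≅ M) (h : TA a b ((QA B).obj (extCx φ F))) :
    Module.Flat B ((ModuleCat.extendScalars.{u, u, u} φ).obj M) := by
  have hv : DRing.VanishesAbove (extCx φ F) a := fun i hi => (ModuleCat.extendScalars φ).map_isZero (hFv i hi)
  have hfl : DRing.TermwiseFlat (extCx φ F) := fun i => flat_extendScalars φ (hF i)
  haveI : Module.Flat B ((extCx φ F).X a) := hfl a
  have hcok := flat_coker (extCx φ F) a fun N => exT_of_lowEx
    (h.lowEx (isKFlat_of_flat a hv hfl) (Iso.refl _)) N (by omega)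
  obtain ⟨q, hq, hex⟩ := exists_top_quot F hFv e
  letI := φ.toAlgebra
  let Q : (extCx φ F).X a →ₗ[B] (ModuleCat.extendScalars.{u, u, u} φ).obj M := q.baseChange B
  have hQ : Function.Surjective Q := LinearMap.lTensor_surjective B hq
  have hker : LinearMap.ker Q = LinearMap.range ((extCx φ F).d (a - 1) a).hom := by
    ext z
    exact (lTensor_exact B hex hq) z
  exact Module.Flat.of_linearEquiv
    ((Submodule.quotEquivOfEq _ _ hker.symm).trans (LinearMap.quotKerEquivOfSurjective Q hQ)).symm

/-- The lowest term becomes flat. -/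
theorem flat_ext_lowest (E : DRing.Cx A) {a b : ℤ} (hv : DRing.VanishesOutside E a b)
    (hfl : ∀ i, a < i → Module.Flat A (E.X i))
    (h : TA a b ((DRing.LBaseChange φ).obj ((QA A).obj E))) :
    Module.Flat B ((ModuleCat.extendScalars.{u, u, u} φ).obj (E.X a)) := by
  haveI := cutι_isIso_of_vanishesOutside E a b hv
  let T := DerivedCategory.triangleOfSES (shortExact_cutSeq E a)
  have hT : T ∈ distinguishedTriangles := DerivedCategory.triangleOfSES_distinguished _
  have h₁ : TA (a + 1) (b + 1) T.obj₁ := by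
    refine ⟨cutGE E (a + 1), fun i hi => ?_, fun i => ?_, ⟨Iso.refl _⟩⟩
    · rcases hi with hi | hi
      · exact isZero_cutGE E hi
      · exact isZero_cutGE_of_isZero E (hv i (Or.inr (by omega)))
    · by_cases hi : a + 1 ≤ i
      · haveI := hfl i (by omega)
        exact Module.Flat.of_linearEquiv (LinearEquiv.ofBijective ((cutι E (a + 1)).f i).hom (cutι_bijective E hi))
      · haveI := ModuleCat.subsingleton_of_isZero (isZero_cutGE E (show i < a + 1 by omega))
        infer_instance
  have hE : Acyc (b + 1) T.obj₂ := fun i hi =>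
    (isZero_HF_Q_iff (cutGE E a) i).2 ((HomologicalComplex.exactAt_iff_isZero_homology _ i).1
      (ShortComplex.exact_of_isZero_X₂ _ (isZero_cutGE_of_isZero E (hv i (Or.inr (by omega))))))
  obtain ⟨F₁, hF₁v, hF₁, ⟨e₁⟩⟩ := rep_free_of_acyc h₁.acyc
  obtain ⟨P, hPv, hP, ⟨e₂⟩⟩ := rep_free_of_acyc hE
  haveI := isKProjective_of_bddAbove F₁ (b + 1) ((vanishesAbove_iff F₁ _).2 hF₁v) fun i => proj_of_FR (hF₁ i)
  obtain ⟨f, hf⟩ := Q_map_surjective F₁ P (e₁.hom ≫ T.mor₁ ≫ e₂.inv)
  let iso := isoTriangleOfIso₁₂ _ T (DerivedCategory.mappingCone_triangle_distinguished f) hT e₁ e₂ (by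
    change (QA A).map f ≫ e₂.hom = e₁.hom ≫ T.mor₁
    erw [hf]
    simp)
  let eC : (QA A).obj (CochainComplex.mappingCone f) ≅ T.obj₃ := Triangle.π₃.mapIso iso
  let G := ModuleCat.extendScalars.{u, u, u} φ
  have hF₁fl : ∀ i, Module.Flat A (F₁.X i) := fun i => flat_of_FR (hF₁ i)
  have hPfl : ∀ i, Module.Flat A (P.X i) := fun i => flat_of_FR (hP i)
  have hk₁ : DRing.IsKFlat A F₁ := isKFlat_of_rep (fun _ => flat_of_FR) hF₁v hF₁
  have hkP : DRing.IsKFlat A P := isKFlat_of_rep (fun _ => flat_of_FR) hPv hP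
  have hCv : DRing.VanishesAbove (CochainComplex.mappingCone f) b := fun i hi =>
    IsZero.of_iso ((biprod_isZero_iff _ _).2 ⟨hF₁v _ fun h => absurd (Set.mem_Iic.1 h) (by omega),
      hPv _ fun h => absurd (Set.mem_Iic.1 h) (by omega)⟩)
      (HomologicalComplex.homotopyCofiber.XIsoBiprod f i (i + 1) rfl)
  have hkC : DRing.IsKFlat A (CochainComplex.mappingCone f) := isKFlat_of_flat b hCv fun i =>
    isModClass_FL.of_iso ((ModuleCat.biprodIsoProd _ _).symm ≪≫
      (HomologicalComplex.homotopyCofiber.XIsoBiprod f i (i + 1) rfl).symm)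
      (isModClass_FL.prod _ _ (hF₁fl (i + 1)) (hPfl i))
  have hT' := DerivedCategory.mappingCone_triangle_distinguished ((G.mapHomologicalComplex (ComplexShape.up ℤ)).map f)
  have hTA : TA a b ((QA B).obj (extCx φ (CochainComplex.mappingCone f))) := by
    refine TA.of_iso (TA.obj₃ hT' ?_ ?_) ((QA B).mapIso (CochainComplex.mappingCone.mapHomologicalComplexIso f G).symm)
    · exact TA.of_iso (ta_LBaseChange φ (TA.of_iso h₁ e₁.symm)) (LBaseChangeIso φ F₁ hk₁)
    · exact TA.of_iso h (((DRing.LBaseChange φ).mapIso (((QA A).mapIso (asIso (cutι E a))).symm ≪≫ e₂.symm)) ≪≫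
        LBaseChangeIso φ P hkP)
  let S := (HomologicalComplex.single (ModuleCat.{u} A) (ComplexShape.up ℤ) a).obj (E.X a)
  have hS : Acyc (a + 1) ((QA A).obj S) := fun i hi => (isZero_HF_Q_iff S i).2
    ((HomologicalComplex.exactAt_iff_isZero_homology _ i).1
      (ShortComplex.exact_of_isZero_X₂ _ (HomologicalComplex.isZero_single_obj_X (ComplexShape.up ℤ) a (E.X a) i (by omega))))
  obtain ⟨F, hFv, hF, ⟨e₃⟩⟩ := rep_free_of_acyc hS
  refine flat_ext_of_ta φ F (b := b) ((vanishesAbove_iff F a).2 hFv) (fun i => flat_of_FR (hF i))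
    ((HQIso F a).symm ≪≫ (HF A a).mapIso e₃ ≪≫ HQIso S a ≪≫
      (HomologicalComplex.homologyFunctorSingleIso _ (ComplexShape.up ℤ) a).app (E.X a)) ?_
  refine TA.of_iso hTA ((LBaseChangeIso φ _ hkC).symm ≪≫ (DRing.LBaseChange φ).mapIso (eC ≪≫ e₃.symm) ≪≫
    LBaseChangeIso φ F (isKFlat_of_rep (fun _ => flat_of_FR) hFv hF))

end Groth.Agent.RelPCSch41
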