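import Groth.Agent.RelPCSch41.PerfSmooth
import Groth.Agent.RelPCSch41.FlatPerf
import Groth.Agent.RelPCSch41.PerfComp
import Groth.Agent.PerfAmp41.Main
import Groth.Agent.PerfFib24.RelFib
import Groth.Agent.Open62.FlatLocus

/-!
The local criterion of relative perfect amplitude.
-/

set_option autoImplicit false
set_option backward.isDefEq.respectTransparency.types false
set_option linter.style.haveILetI false
set_option linter.unusedSectionVars false
set_option maxHeartbeats 1000000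

noncomputable section

universe u

open CategoryTheory Limits AlgebraicGeometry
open Groth.Agent.DCX42
attribute [local instance] HasDerivedCategory.standard

namespace Groth.Agent.RelPCSch41

section Algebra

open Groth.Agent.DR39

variable {A : Type u} [CommRing A]

/-- A module placed in the lowest degree of a tor amplitude interval is flat. -/
theorem flat_of_ta_single {M : ModuleCat.{u} A} {a b : ℤ}
    (h : TA a b ((DerivedCategory.singleFunctor (ModuleCat.{u} A) a).obj M)) : Module.Flat A M := by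
  have h' : TA 0 (b - a) (Dual.inD A M) := by simpa using (ta_single_iff M a a b).1 h
  have hb : Acyc (0 + 1) (Dual.inD A M) := by
    rw [acyc_iff_isLE]
    haveI : DerivedCategory.TStructure.t.IsLE (Dual.inD A M) 0 :=
      inferInstanceAs (DerivedCategory.TStructure.t.IsLE ((DerivedCategory.singleFunctor (ModuleCat.{u} A) 0).obj M) 0)
    exact DerivedCategory.TStructure.t.isLE_of_le _ 0 _ (by omega)
  obtain ⟨F, hFv, hF, ⟨e⟩⟩ := rep_free_of_acyc hb
  have hk : DRing.IsKFlat A F := isKFlat_of_rep (fun M => flat_of_FR) hFv hF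
  exact flat_of_ta_zero M ((ta_iff 0 0 F hk e).2 ⟨hb, h'.lowEx hk e⟩)

/-- The lowest term of a complex with flat higher terms, of tor amplitude bounded by it, is flat. -/
theorem flat_of_ta_terms (E : DRing.Cx A) {a b : ℤ} (hv : DRing.VanishesOutside E a b)
    (hfl : ∀ i, a < i → Module.Flat A (E.X i)) (h : TA a b ((QA A).obj E)) : Module.Flat A (E.X a) := by
  haveI := cutι_isIso_of_vanishesOutside E a b hv
  have h₁ : TA (a + 1) (b + 1) ((QA A).obj (cutGE E (a + 1))) := by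
    refine ⟨cutGE E (a + 1), fun i hi => ?_, fun i => ?_, ⟨Iso.refl _⟩⟩
    · rcases hi with hi | hi
      · exact isZero_cutGE E hi
      · exact isZero_cutGE_of_isZero E (hv i (Or.inr (by omega)))
    · by_cases hi : a + 1 ≤ i
      · haveI := hfl i (by omega)
        exact Module.Flat.of_linearEquiv (LinearEquiv.ofBijective ((cutι E (a + 1)).f i).hom (cutι_bijective E hi))
      · haveI := ModuleCat.subsingleton_of_isZero (isZero_cutGE E (show i < a + 1 by omega))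
        infer_instance
  exact flat_of_ta_single (b := b) (TA.obj₃ (DerivedCategory.triangleOfSES_distinguished (shortExact_cutSeq E a)) h₁
    (TA.of_iso h ((QA A).mapIso (asIso (cutι E a))).symm))

end Algebra

variable {X Y : Scheme.{u}}

/-- Flatness over the base at a point of the lowest term. -/
theorem isFlatOverAt_of_ta (g : X ⟶ Y) (M : CochainComplex X.Modules ℤ) {a b : ℤ}
    (hv : DCoh.VanishesOutside M a b) (x : X) (hfl : ∀ i, a < i → FlatMod.IsFlatOverAt g (M.X i) x)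
    (h : DerSch.HasTorAmplitudeAt g a b M x) : FlatMod.IsFlatOverAt g (M.X a) x :=
  (flat_stalkOver_iff (f := g) (M.X a) x).1 (flat_of_ta_terms ((DerSch.stalkCxOver g x).obj M)
    (fun i hi => (DerSch.stalkOver g x).map_isZero (hv i hi))
    (fun i hi => (flat_stalkOver_iff (f := g) (M.X i) x).2 (hfl i hi)) h)

/-- Relative perfect amplitude restricts to open subschemes. -/
theorem perfAmpRel_restrict {T U : Scheme.{u}} (j : U ⟶ T) [IsOpenImmersion j] {h : T ⟶ Y} {a b : ℤ}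
    {G : CochainComplex T.Modules ℤ} (hG : DerSch.HasPerfAmplitudeRel h a b G) :
    DerSch.HasPerfAmplitudeRel (j ≫ h) a b ((resCx j).obj G) :=
  ⟨fun m => rel_congr (resQ j G) (rel_resD j (hG.1 m)), fun u => (torAmpAt_restrict_iff j h G u).2 (hG.2 (j u))⟩

/-- Cohomology vanishes below a tor amplitude. -/
theorem isZero_HD_of_hasTorAmplitude {f : X ⟶ Y} {a b : ℤ} {F : CochainComplex X.Modules ℤ}
    (h : DerSch.HasTorAmplitude f a b F) {i : ℤ} (hi : i < a) : IsZero (DCoh.HD (DCoh.toD X F) i) := by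
  refine IsZero.of_iso ?_ ((DerivedCategory.homologyFunctorFactors X.Modules i).app F)
  refine DCK91.isZero_of_stalks fun x => DR39.isZero_of_isZero_restrict (f.stalkMap x).hom _ ?_
  refine IsZero.of_iso ?_ ((F.sc i).mapHomologyIso (TorStalk41.SO f x)).symm
  exact (DR39.isZero_HF_Q_iff ((TorStalk41.SOc f x).obj F) i).1 (DR39.TA.isZero_low (h x) i hi)

/-- A pseudo-coherent approximation with tor amplitude at a point gives a flat model nearby, locally free above the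
lowest degree. -/
theorem exists_flat_model' {P : Scheme.{u}} (g : P ⟶ Y) [Flat g] [LocallyOfFinitePresentation g] {a b : ℤ}
    (hab : a ≤ b) (G : CochainComplex P.Modules ℤ) (hpc : DCoh.IsPseudoCoherentD (a - 1) (DCoh.toD P G))
    (hz : ∀ i, i < a ∨ b < i → IsZero (DCoh.HD (DCoh.toD P G) i)) (p : P)
    (htor : DerSch.HasTorAmplitudeAt g a b G p) :
    ∃ (W : P.Opens) (M : CochainComplex (W : Scheme.{u}).Modules ℤ), p ∈ W ∧ DCoh.VanishesOutside M a b ∧
      (∀ i, FlatMod.IsFlatOver (W.ι ≫ g) (M.X i)) ∧ (∀ i, CohB1.IsFP (M.X i)) ∧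
      (∀ i, a < i → FlatMod.IsFinLocFree (M.X i)) ∧
      Nonempty (DCoh.toD (W : Scheme.{u}) ((resCx W.ι).obj G) ≅ DCoh.toD (W : Scheme.{u}) M) := by
  rw [isPC_iff] at hpc
  obtain ⟨V, hx, E, α, hE, hα⟩ := hpc p
  have hzV : ∀ i, i < a ∨ b < i → IsZero ((DerivedCategory.homologyFunctor _ i).obj ((resD V.ι).obj (DCoh.toD P G))) :=
    fun i hi => ((Scheme.Modules.restrictFunctor V.ι).map_isZero (hz i hi)).of_iso
      ((Mod48.homologyMapDerivedIso (Scheme.Modules.restrictFunctor V.ι) i).app _)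
  have hex : ∀ i, b < i → E.ExactAt i := fun i hi => exactAt_of_pcMap hα (by omega) (hzV i (Or.inr hi))
  obtain ⟨T, j, hj, hpT, hcyc⟩ := PerfAmp41.exists_cycles_free hE b hex ⟨p, hx⟩
  obtain ⟨t, ht⟩ := hpT
  let E₁ := (resCx j).obj E
  haveI : CochainComplex.IsLE E₁ b := (CochainComplex.isLE_iff _ _).2 fun i hi => exactAt_resCx j (hex i hi)
  let E₂ := E₁.truncLE b
  have hE₂ : DCoh.IsStrictlyPerfect E₂ := PerfAmp41.isStrictlyPerfect_truncLE (isStrictlyPerfect_restrict hE j) b hcyc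
  let α₂ : DerivedCategory.Q.obj E₂ ⟶ (resD j).obj ((resD V.ι).obj (DCoh.toD P G)) :=
    DerivedCategory.Q.map (E₁.ιTruncLE b) ≫ (resQ j E).inv ≫ (resD j).map α
  have hα₂ : PCMap (a - 1) α₂ :=
    (PCMap.of_isIso _ _).comp ((PCMap.of_isIso _ _).comp (hα.map _))
  have hGE : ((resD j).obj ((resD V.ι).obj (DCoh.toD P G))).IsGE a :=
    (DerivedCategory.isGE_iff _ _).2 fun i hi => ((Scheme.Modules.restrictFunctor j).map_isZero
      (hzV i (Or.inl hi))).of_iso ((Mod48.homologyMapDerivedIso (Scheme.Modules.restrictFunctor j) i).app _)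
  obtain ⟨eM⟩ := PerfFib24.nonempty_truncGE_iso α₂ a hGE fun i hi => hα₂.1 i (by omega)
  let M := E₂.truncGE a
  let jV := j ≫ V.ι
  let eG : DCoh.toD T ((resCx jV).obj G) ≅ DCoh.toD T M :=
    (resQ jV G).symm ≪≫ ((resDComp j V.ι).app _).symm ≪≫ eM.symm
  have hMv : DCoh.VanishesOutside M a b := fun i hi => by
    rcases hi with hi | hi
    · exact CochainComplex.isZero_of_isStrictlyGE (E₂.truncGE a) a i hi
    · exact CochainComplex.isZero_of_isStrictlyLE (E₂.truncGE a) b i hi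
  have hMf : ∀ i, a < i → FlatMod.IsFlatOver (jV ≫ g) (M.X i) := fun i hi =>
    PerfFib24.isFlatOver_of_isFlat _ (isFlat_of_isFinLocFree
      (DCX42.isFinLocFree_of_iso (CochainComplex.truncGEXIso E₂ a i hi).symm (hE₂.2 i)))
  have hMp : ∀ i, CohB1.IsFP (M.X i) := fun i => by
    rcases lt_trichotomy i a with hlt | heq | hgt
    · exact Props58.LocFree.isFP_of_isFinLocFree
        (DCX42.isFinLocFree_of_isZero (CochainComplex.isZero_of_isStrictlyGE (E₂.truncGE a) a i hlt))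
    · subst heq
      exact isFP_of_iso (CochainComplex.truncGEXIsoOpcycles E₂ i ≪≫
        (PerfAmp41.cokerOp E₂ (i - 1) i (by omega)).symm).symm
        (LimTop61.isFP_cokernel _ (Props58.LocFree.isFP_of_isFinLocFree (hE₂.2 _))
          (Props58.LocFree.isFP_of_isFinLocFree (hE₂.2 _)))
    · exact Props58.LocFree.isFP_of_isFinLocFree
        (DCX42.isFinLocFree_of_iso (CochainComplex.truncGEXIso E₂ a i hgt).symm (hE₂.2 i))
  have hjp : jV t = p := by
    show V.ι (j t) = p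
    rw [ht]
    rfl
  have htM : DerSch.HasTorAmplitudeAt (jV ≫ g) a b M t :=
    TorStalk41.hasTorAmplitudeAt_congr (jV ≫ g) t eG ((torAmpAt_restrict_iff jV g G t).2 (hjp.symm ▸ htor))
  have ha : FlatMod.IsFlatOverAt (jV ≫ g) (M.X a) t :=
    isFlatOverAt_of_ta (jV ≫ g) M hMv t (fun i hi => hMf i hi t) htM
  let W₀ : T.Opens := ⟨{x : T | FlatMod.IsFlatOverAt (jV ≫ g) (M.X a) x},
    Open62.isOpen_flatLocus (f := jV ≫ g) (M.X a) (have := hMp a; inferInstance) (hMp a)⟩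
  obtain ⟨e, _, he⟩ := exists_opens_iso (W₀.ι ≫ jV)
  let W := (W₀.ι ≫ jV).opensRange
  refine ⟨W, (resCx e).obj ((resCx W₀.ι).obj M), ⟨⟨t, ha⟩, hjp⟩,
    fun i hi => (Scheme.Modules.restrictFunctor e).map_isZero ((Scheme.Modules.restrictFunctor W₀.ι).map_isZero (hMv i hi)),
    fun i => ?_, fun i => isFP_restrict (isFP_restrict (hMp i) W₀.ι) e,
    fun i hi => isFinLocFree_restrict (isFinLocFree_restrict
      (DCX42.isFinLocFree_of_iso (CochainComplex.truncGEXIso E₂ a i hi).symm (hE₂.2 i)) W₀.ι) e, ⟨?_⟩⟩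
  · have h₀ : FlatMod.IsFlatOver (W₀.ι ≫ jV ≫ g) ((Scheme.Modules.restrictFunctor W₀.ι).obj (M.X i)) := by
      rcases lt_trichotomy i a with hlt | heq | hgt
      · intro w
        rw [← flat_stalkOver_iff]
        haveI := ModuleCat.subsingleton_of_isZero ((DerSch.stalkOver (W₀.ι ≫ jV ≫ g) w).map_isZero
          ((Scheme.Modules.restrictFunctor W₀.ι).map_isZero (hMv i (Or.inl hlt))))
        infer_instance
      · subst heq
        exact fun w => PerfFib24.isFlatOverAt_restrict (jV ≫ g) W₀.ι (M.X i) w w.2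
      · exact PerfFib24.isFlatOver_restrict (jV ≫ g) W₀.ι (hMf i hgt)
    have h₁ := PerfFib24.isFlatOver_restrict _ e h₀
    rwa [← Category.assoc W₀.ι jV g, ← Category.assoc e (W₀.ι ≫ jV) g, he] at h₁
  · exact (resQ W.ι G).symm ≪≫ (resDCongr he.symm).app _ ≪≫ ((resDComp e (W₀.ι ≫ jV)).app _).symm ≪≫
      (resD e).mapIso (((resDComp W₀.ι jV).app _).symm ≪≫ (resD W₀.ι).mapIso (resQ jV G ≪≫ eG) ≪≫ resQ W₀.ι M) ≪≫
      resQ e _

/-- A pseudo-coherent approximation with tor amplitude at a point gives a flat model nearby. -/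
theorem exists_flat_model {P : Scheme.{u}} (g : P ⟶ Y) [Flat g] [LocallyOfFinitePresentation g] {a b : ℤ}
    (hab : a ≤ b) (G : CochainComplex P.Modules ℤ) (hpc : DCoh.IsPseudoCoherentD (a - 1) (DCoh.toD P G))
    (hz : ∀ i, i < a ∨ b < i → IsZero (DCoh.HD (DCoh.toD P G) i)) (p : P)
    (htor : DerSch.HasTorAmplitudeAt g a b G p) :
    ∃ (W : P.Opens) (M : CochainComplex (W : Scheme.{u}).Modules ℤ), p ∈ W ∧ DCoh.VanishesOutside M a b ∧
      (∀ i, FlatMod.IsFlatOver (W.ι ≫ g) (M.X i)) ∧ (∀ i, CohB1.IsFP (M.X i)) ∧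
      Nonempty (DCoh.toD (W : Scheme.{u}) ((resCx W.ι).obj G) ≅ DCoh.toD (W : Scheme.{u}) M) := by
  obtain ⟨W, M, h₁, h₂, h₃, h₄, -, h₅⟩ := exists_flat_model' g hab G hpc hz p htor
  exact ⟨W, M, h₁, h₂, h₃, h₄, h₅⟩

/-- Objects without cohomology have every relative perfect amplitude. -/
theorem perfAmpRel_of_isZero {f : X ⟶ Y} [LocallyOfFiniteType f] {F : CochainComplex X.Modules ℤ} (a b : ℤ)
    (h : ∀ i, IsZero (DCoh.HD (DCoh.toD X F) i)) : DerSch.HasPerfAmplitudeRel f a b F := by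
  refine ⟨fun m => rel_of_isLE ((DerivedCategory.isLE_iff _ _).2 fun i _ => h i), fun x => ?_⟩
  refine DR39.ta_of_isZero a b (DR39.isZero_of_forall fun i => (DR39.isZero_HF_Q_iff _ i).2 ?_)
  exact ((TorStalk41.SO f x).map_isZero ((h i).of_iso
    ((DerivedCategory.homologyFunctorFactors X.Modules i).app F).symm)).of_iso
      ((F.sc i).mapHomologyIso (TorStalk41.SO f x))

/-- A model of the direct image with flat finitely presented terms gives relative perfect amplitude. -/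
theorem perfAmp_of_push_model {P : Scheme.{u}} (f : X ⟶ Y) (U₀ : X.Opens) (s : (U₀ : Scheme.{u}) ⟶ P)
    [IsClosedImmersion s] (g : P ⟶ Y) [Smooth g] (hsg : s ≫ g = U₀.ι ≫ f) (F : CochainComplex X.Modules ℤ)
    {a b : ℤ} {x : X} (hxU : x ∈ U₀) (W : P.Opens) (hpW : s ⟨x, hxU⟩ ∈ W)
    (M : CochainComplex (W : Scheme.{u}).Modules ℤ) (hMv : DCoh.VanishesOutside M a b)
    (hMf : ∀ i, FlatMod.IsFlatOver (W.ι ≫ g) (M.X i)) (hMp : ∀ i, CohB1.IsFP (M.X i))
    (eM : DCoh.toD (W : Scheme.{u}) ((resCx W.ι).obj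
      (((Scheme.Modules.pushforward s).mapHomologicalComplex (ComplexShape.up ℤ)).obj ((resCx U₀.ι).obj F))) ≅
        DCoh.toD (W : Scheme.{u}) M) :
    ∃ U : X.Opens, x ∈ U ∧ DerSch.HasPerfAmplitudeRel (U.ι ≫ f) a b ((resCx U.ι).obj F) := by
  let F₀ := (resCx U₀.ι).obj F
  let G := ((Scheme.Modules.pushforward s).mapHomologicalComplex (ComplexShape.up ℤ)).obj F₀
  haveI : IsClosedImmersion (s ∣_ W) := inferInstance
  let F₁ := (resCx (s ⁻¹ᵁ W).ι).obj F₀
  let G₁ := ((Scheme.Modules.pushforward (s ∣_ W)).mapHomologicalComplex (ComplexShape.up ℤ)).obj F₁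
  let e₁ : DCoh.toD (W : Scheme.{u}) G₁ ≅ DCoh.toD (W : Scheme.{u}) M :=
    (pushQ (s ∣_ W) F₁).symm ≪≫ (pushD (s ∣_ W)).mapIso (resQ (s ⁻¹ᵁ W).ι F₀).symm ≪≫
      ((pushDRestr s W).app _).symm ≪≫ (resD W.ι).mapIso (pushQ s F₀) ≪≫ resQ W.ι G ≪≫ eM
  have hM : ∀ m, DCoh.IsPseudoCoherentD m (DCoh.toD (W : Scheme.{u}) M) := fun m =>
    (rel_flat_lfp_iff (W.ι ≫ g)).1 (relAll_of_flat_terms M b (fun i hi => hMv i (Or.inr hi)) hMf
      (fun i => (rel_flat_lfp_iff (W.ι ≫ g)).2 (isPC_of_iso (singleIso (M.X i)).symm (isPC_single_of_isFP _ (hMp i)))) m)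
  have hP : DerSch.HasPerfAmplitudeRel ((s ∣_ W) ≫ W.ι ≫ g) a b F₁ :=
    ⟨fun m => (rel_closed_smooth_iff (s ∣_ W) (W.ι ≫ g)).2 (isPC_of_iso (pushQ (s ∣_ W) F₁ ≪≫ e₁).symm (hM m)),
      hasTorAmplitude_of_push (s ∣_ W) (W.ι ≫ g) F₁
        (TorStalk41.hasTorAmplitude_congr (W.ι ≫ g) e₁.symm (hasTorAmplitude_of_flat_terms M a b hMv hMf))⟩
  obtain ⟨e, _, he⟩ := exists_opens_iso ((s ⁻¹ᵁ W).ι ≫ U₀.ι)
  refine ⟨((s ⁻¹ᵁ W).ι ≫ U₀.ι).opensRange, ⟨⟨⟨x, hxU⟩, hpW⟩, rfl⟩, ?_⟩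
  have h2 := perfAmpRel_restrict e hP
  have hmap : e ≫ (s ∣_ W) ≫ W.ι ≫ g = ((s ⁻¹ᵁ W).ι ≫ U₀.ι).opensRange.ι ≫ f := by
    rw [morphismRestrict_ι_assoc, hsg, ← Category.assoc (s ⁻¹ᵁ W).ι, ← Category.assoc, he]
  rw [hmap] at h2
  refine ⟨fun m => rel_congr ?_ (h2.1 m), fun u => TorStalk41.hasTorAmplitudeAt_congr _ u ?_ (h2.2 u)⟩
  all_goals exact (resQ e F₁).symm ≪≫ (resD e).mapIso ((resQ (s ⁻¹ᵁ W).ι F₀).symm ≪≫
      (resD (s ⁻¹ᵁ W).ι).mapIso (resQ U₀.ι F).symm ≪≫ (resDComp (s ⁻¹ᵁ W).ι U₀.ι).app _) ≪≫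
    (resDComp e ((s ⁻¹ᵁ W).ι ≫ U₀.ι)).app _ ≪≫ (resDCongr he).app _ ≪≫ resQ _ F


/-- Relative perfect amplitude spreads from a point. -/
theorem exists_perfAmp_nhd (f : X ⟶ Y) [LocallyOfFiniteType f] (F : CochainComplex X.Modules ℤ) {a b : ℤ}
    (hpc : DerSch.IsPseudoCoherentRel f (a - 1) (DCoh.toD X F))
    (hz : ∀ i, i < a ∨ b < i → IsZero (DCoh.HD (DCoh.toD X F) i)) (x : X)
    (htor : DerSch.HasTorAmplitudeAt f a b F x) :
    ∃ U : X.Opens, x ∈ U ∧ DerSch.HasPerfAmplitudeRel (U.ι ≫ f) a b ((resCx U.ι).obj F) := by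
  by_cases hab : b < a
  · refine ⟨⊤, trivial, perfAmpRel_of_isZero a b fun i => ?_⟩
    exact ((Scheme.Modules.restrictFunctor (⊤ : X.Opens).ι).map_isZero (hz i (by omega))).of_iso
      ((DerivedCategory.homologyFunctor _ i).mapIso (resQ (⊤ : X.Opens).ι F).symm ≪≫
        (Mod48.homologyMapDerivedIso (Scheme.Modules.restrictFunctor (⊤ : X.Opens).ι) i).app _)
  obtain ⟨U₀, V, hxU, hU, hV, hle⟩ := exists_affine_pair f x
  obtain ⟨n, φ, hφ⟩ := exists_chart_of_ft (f := f) hU hV hle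
  let s := imm U₀ φ
  haveI : IsClosedImmersion s := isClosedImmersion_imm hU hφ.1
  let g := Spec.map (CommRingCat.ofHom (MvPolynomial.C (σ := Fin n) (R := Γ(Y, V)))) ≫ hV.fromSpec
  haveI : Smooth (Spec.map (CommRingCat.ofHom (MvPolynomial.C (σ := Fin n) (R := Γ(Y, V))))) := by
    rw [HasRingHomProperty.Spec_iff (P := @Smooth)]
    exact RingHom.smooth_algebraMap.2 (⟨inferInstance, inferInstance⟩ : Algebra.Smooth Γ(Y, V) (MvPolynomial (Fin n) Γ(Y, V)))
  haveI : Smooth g := inferInstance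
  have hsg : s ≫ g = U₀.ι ≫ f := by
    simp only [s, g, imm, Category.assoc]
    rw [← Spec.map_comp_assoc, ← CommRingCat.ofHom_comp, hφ.2, CommRingCat.ofHom_hom,
      hV.SpecMap_appLE_fromSpec f hU, ← Category.assoc, hU.toSpecΓ_fromSpec]
  let F₀ := (resCx U₀.ι).obj F
  let G := ((Scheme.Modules.pushforward s).mapHomologicalComplex (ComplexShape.up ℤ)).obj F₀
  let eG : DCoh.toD _ G ≅ (pushD s).obj ((resD U₀.ι).obj (DCoh.toD X F)) :=
    ((pushD s).mapIso (resQ U₀.ι F) ≪≫ pushQ s F₀).symm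
  have hG : DCoh.IsPseudoCoherentD (a - 1) (DCoh.toD _ G) :=
    isPC_of_iso eG.symm ((good_iff_pc hU hle hφ).1 (good_of_rel hpc hU hV hle))
  have hzG : ∀ i, i < a ∨ b < i → IsZero (DCoh.HD (DCoh.toD _ G) i) := fun i hi =>
    ((Scheme.Modules.pushforward s).map_isZero (((Scheme.Modules.restrictFunctor U₀.ι).map_isZero (hz i hi)).of_iso
      ((Mod48.homologyMapDerivedIso (Scheme.Modules.restrictFunctor U₀.ι) i).app _))).of_iso
        ((DerivedCategory.homologyFunctor _ i).mapIso eG ≪≫ pushHD s _ i)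
  have htG : DerSch.HasTorAmplitudeAt g a b G (s ⟨x, hxU⟩) := by
    refine (torAmpAt_push_iff s g F₀ ⟨x, hxU⟩).2 ?_
    rw [hsg]
    exact (torAmpAt_restrict_iff U₀.ι f F ⟨x, hxU⟩).2 htor
  obtain ⟨W, M, hpW, hMv, hMf, hMp, ⟨eM⟩⟩ := exists_flat_model g (not_lt.1 hab) G hG hzG _ htG
  exact perfAmp_of_push_model f U₀ s g hsg F hxU W hpW M hMv hMf hMp eM

/-- Relative perfect amplitude on an open of an open. -/
theorem exists_nhd_of_restrict (f : X ⟶ Y) (F : CochainComplex X.Modules ℤ) (U : X.Opens)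
    (U' : (U : Scheme.{u}).Opens) {a b : ℤ} {x : X} (hx : x ∈ U) (hx' : ⟨x, hx⟩ ∈ U')
    (hp : DerSch.HasPerfAmplitudeRel (U'.ι ≫ U.ι ≫ f) a b ((resCx U'.ι).obj ((resCx U.ι).obj F))) :
    ∃ W : X.Opens, x ∈ W ∧ DerSch.HasPerfAmplitudeRel (W.ι ≫ f) a b ((resCx W.ι).obj F) := by
  obtain ⟨e, _, he⟩ := exists_opens_iso (U'.ι ≫ U.ι)
  refine ⟨(U'.ι ≫ U.ι).opensRange, ⟨⟨⟨x, hx⟩, hx'⟩, rfl⟩, ?_⟩
  have h2 := perfAmpRel_restrict e hp
  rw [← Category.assoc U'.ι, ← Category.assoc e, he] at h2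
  refine ⟨fun m => rel_congr ?_ (h2.1 m), fun u => TorStalk41.hasTorAmplitudeAt_congr _ u ?_ (h2.2 u)⟩
  all_goals exact (resQ e _).symm ≪≫
      (resD e).mapIso ((resQ U'.ι _).symm ≪≫ (resD U'.ι).mapIso (resQ U.ι F).symm ≪≫ (resDComp U'.ι U.ι).app _) ≪≫
    (resDComp e (U'.ι ≫ U.ι)).app _ ≪≫ (resDCongr he).app _ ≪≫ resQ _ F

end Groth.Agent.RelPCSch41
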