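import Groth.Agent.RelPCSch41.FibreAlg
import Groth.Agent.RelPCSch41.LocalCrit
import Groth.Agent.LimTop61.AmpleStage
import Groth.Agent.DR39.Existence
import Groth.Agent.S1483

/-!
The criterion of relative perfection by fibres.
-/

set_option autoImplicit false
set_option backward.isDefEq.respectTransparency.types false
set_option linter.style.haveILetI false
set_option linter.unusedSectionVars false
set_option maxHeartbeats 1000000

noncomputable section

universe u

open CategoryTheory Limits AlgebraicGeometry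
open scoped TensorProduct
open Groth.Agent.DCX42
attribute [local instance] HasDerivedCategory.standard

namespace Groth.Agent.RelPCSch41

open Groth.Agent.DR39 in
/-- The derived fibre over the base of the stalk complex has tor amplitude in the interval. -/
def FibTA {X Y S : Scheme.{u}} (f : X ⟶ Y) (g : Y ⟶ S) (a b : ℤ) (F : CochainComplex X.Modules ℤ) (x : X) : Prop :=
  haveI := DR39.hasLBaseChange (Ideal.Quotient.mk (Ideal.map (g.stalkMap (f.base x)).hom
    (IsLocalRing.maximalIdeal (S.presheaf.stalk (g.base (f.base x))))))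
  DRing.HasTorAmplitudeIn
    ((Y.presheaf.stalk (f.base x)) ⧸ Ideal.map (g.stalkMap (f.base x)).hom
      (IsLocalRing.maximalIdeal (S.presheaf.stalk (g.base (f.base x))))) a b
    ((DRing.LBaseChange (Ideal.Quotient.mk (Ideal.map (g.stalkMap (f.base x)).hom
      (IsLocalRing.maximalIdeal (S.presheaf.stalk (g.base (f.base x))))))).obj
      (DRing.toD ((DerSch.stalkCxOver f x).obj F)))

variable {X Y S : Scheme.{u}} {g : Y ⟶ S} {a b : ℤ}

open Groth.Agent.DR39

lemma FibTA.congr_hom {f f' : X ⟶ Y} (h : f = f') {F : CochainComplex X.Modules ℤ} {x : X}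
    (hF : FibTA f g a b F x) : FibTA f' g a b F x := by
  subst h; exact hF

lemma FibTA.congr_iso (f : X ⟶ Y) {F F' : CochainComplex X.Modules ℤ} (e : DCoh.toD X F ≅ DCoh.toD X F') {x : X}
    (hF : FibTA f g a b F x) : FibTA f g a b F' x := by
  obtain ⟨e'⟩ := TorStalk41.nonempty_stalk_iso f x e
  unfold FibTA at hF ⊢
  haveI := DR39.hasLBaseChange (Ideal.Quotient.mk (Ideal.map (g.stalkMap (f.base x)).hom
    (IsLocalRing.maximalIdeal (S.presheaf.stalk (g.base (f.base x))))))
  exact TA.of_iso hF ((DRing.LBaseChange _).mapIso e')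

lemma nonempty_stalkRes_congr {R : CommRingCat.{u}} {x : X} {φ ψ : R ⟶ X.presheaf.stalk x} (h : φ = ψ)
    (F : CochainComplex X.Modules ℤ) :
    Nonempty (((DerSch.stalkFunctor X x ⋙ ModuleCat.restrictScalars φ.hom).mapHomologicalComplex (ComplexShape.up ℤ)).obj F ≅
      ((DerSch.stalkFunctor X x ⋙ ModuleCat.restrictScalars ψ.hom).mapHomologicalComplex (ComplexShape.up ℤ)).obj F) := by
  subst h; exact ⟨Iso.refl _⟩

lemma fibTA_push {P : Scheme.{u}} (i : X ⟶ P) [IsClosedImmersion i] (π : P ⟶ Y) {F : CochainComplex X.Modules ℤ}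
    {x : X} (hF : FibTA (i ≫ π) g a b F x) :
    FibTA π g a b (((Scheme.Modules.pushforward i).mapHomologicalComplex (ComplexShape.up ℤ)).obj F) (i.base x) := by
  haveI : (DerSch.stalkOver π (i.base x)).Additive := inferInstanceAs (TorStalk41.SO π (i.base x)).Additive
  obtain ⟨c⟩ := nonempty_stalkRes_congr (Scheme.Hom.stalkMap_comp i π x).symm F
  let e := (QA (Y.presheaf.stalk (π.base (i.base x)))).mapIso
    ((Functor.mapHomologicalComplexCompIso (stalkPushIso i π x) (ComplexShape.up ℤ)).app F ≪≫ c)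
  unfold FibTA at hF ⊢
  haveI := DR39.hasLBaseChange (Ideal.Quotient.mk (Ideal.map (g.stalkMap (π.base (i.base x))).hom
    (IsLocalRing.maximalIdeal (S.presheaf.stalk (g.base (π.base (i.base x)))))))
  haveI := DR39.hasLBaseChange (Ideal.Quotient.mk (Ideal.map (g.stalkMap ((i ≫ π).base x)).hom
    (IsLocalRing.maximalIdeal (S.presheaf.stalk (g.base ((i ≫ π).base x))))))
  exact TA.of_iso hF ((DRing.LBaseChange _).mapIso e.symm)

lemma fibTA_restrict_iff {U : Scheme.{u}} (j : U ⟶ X) [IsOpenImmersion j] (f : X ⟶ Y)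
    (G : CochainComplex X.Modules ℤ) (u : U) :
    FibTA (j ≫ f) g a b ((resCx j).obj G) u ↔ FibTA f g a b G (j.base u) := by
  let σ := (QExact41.sigma j u).toRingHom
  let G' := (resCx j).obj G
  haveI : (Scheme.Modules.restrictFunctor j ⋙ DCK91.SP u ⋙ ModuleCat.restrictScalars.{u} σ).Additive :=
    inferInstanceAs (Scheme.Modules.restrictFunctor j ⋙ (DCK91.SP u ⋙ ModuleCat.restrictScalars.{u} σ)).Additive
  let e1 : (DCK91.SPc (j.base u)).obj G ≅ DR39.resCx σ ((DCK91.SPc u).obj G') :=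
    (NatIso.mapHomologicalComplex (QExact41.stalkRestrictIso j u) (ComplexShape.up ℤ)).app G
  have hχ : σ.comp (f.stalkMap (j.base u)).hom = ((j ≫ f).stalkMap u).hom := by
    rw [Scheme.Hom.stalkMap_comp]
    rfl
  obtain ⟨e2⟩ := resCx_comp (f.stalkMap (j.base u)).hom σ ((j ≫ f).stalkMap u).hom hχ ((DCK91.SPc u).obj G')
  let e : DRing.toD ((DerSch.stalkCxOver f (j.base u)).obj G) ≅ DRing.toD ((DerSch.stalkCxOver (j ≫ f) u).obj G') :=
    (QA _).mapIso ((DRing.restrictCx (f.stalkMap (j.base u)).hom).mapIso e1 ≪≫ e2)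
  unfold FibTA
  haveI := DR39.hasLBaseChange (Ideal.Quotient.mk (Ideal.map (g.stalkMap (f.base (j.base u))).hom
    (IsLocalRing.maximalIdeal (S.presheaf.stalk (g.base (f.base (j.base u)))))))
  haveI := DR39.hasLBaseChange (Ideal.Quotient.mk (Ideal.map (g.stalkMap ((j ≫ f).base u)).hom
    (IsLocalRing.maximalIdeal (S.presheaf.stalk (g.base ((j ≫ f).base u))))))
  exact ⟨fun h => TA.of_iso h ((DRing.LBaseChange _).mapIso e.symm),
    fun h => TA.of_iso h ((DRing.LBaseChange _).mapIso e)⟩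

/-- A flat morphism of finite presentation has perfect dimension zero. -/
theorem hasPerfDimLE_zero_of_flat (g : Y ⟶ S) [Flat g] [LocallyOfFinitePresentation g] : DerSch.HasPerfDimLE g 0 := by
  haveI := LimTop61.isFP_structureModule' Y
  have h := (perfAmp_zero_iff (f := g) (Coh.structureModule Y)).2 ⟨flatOver_unit_iff.2 inferInstance,
    (rel_flat_lfp_iff g).2 (isPC_of_iso (singleIso _).symm (isPC_single_of_isFP _ inferInstance))⟩
  change DerSch.HasPerfAmplitudeRel g (-((0 : ℕ) : ℤ)) 0 _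
  simpa using h

/-- Relative perfection and the fibre condition give perfection relative to the source of a flat morphism. -/
theorem exists_perfAmp_of_fibre (f : X ⟶ Y) [LocallyOfFiniteType f] [Flat g] [LocallyOfFinitePresentation g]
    (F : CochainComplex X.Modules ℤ) (hF : DerSch.HasPerfAmplitudeRel (f ≫ g) a b F) (x : X) (hfib : FibTA f g a b F x) :
    ∃ U : X.Opens, x ∈ U ∧ DerSch.HasPerfAmplitudeRel (U.ι ≫ f) a b ((resCx U.ι).obj F) := by
  have hz : ∀ i, i < a ∨ b < i → IsZero (DCoh.HD (DCoh.toD X F) i) := by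
    rintro i (hi | hi)
    · exact isZero_HD_of_hasTorAmplitude hF.2 hi
    · haveI := isLE_of_hasTorAmplitude hF.2
      exact DerivedCategory.isZero_of_isLE _ b i hi
  by_cases hab : b < a
  · refine ⟨⊤, trivial, perfAmpRel_of_isZero a b fun i => ?_⟩
    exact ((Scheme.Modules.restrictFunctor (⊤ : X.Opens).ι).map_isZero (hz i (by omega))).of_iso
      ((DerivedCategory.homologyFunctor _ i).mapIso (resQ (⊤ : X.Opens).ι F).symm ≪≫
        (Mod48.homologyMapDerivedIso (Scheme.Modules.restrictFunctor (⊤ : X.Opens).ι) i).app _)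
  obtain ⟨U₀, V, hxU, hU, hV, hle⟩ := exists_affine_pair f x
  obtain ⟨n, φ, hφ⟩ := exists_chart_of_ft (f := f) hU hV hle
  let s := imm U₀ φ
  haveI : IsClosedImmersion s := isClosedImmersion_imm hU hφ.1
  let π := Spec.map (CommRingCat.ofHom (MvPolynomial.C (σ := Fin n) (R := Γ(Y, V)))) ≫ hV.fromSpec
  haveI : Smooth (Spec.map (CommRingCat.ofHom (MvPolynomial.C (σ := Fin n) (R := Γ(Y, V))))) := by
    rw [HasRingHomProperty.Spec_iff (P := @Smooth)]
    exact RingHom.smooth_algebraMap.2 (⟨inferInstance, inferInstance⟩ : Algebra.Smooth Γ(Y, V) (MvPolynomial (Fin n) Γ(Y, V)))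
  haveI : Smooth π := inferInstance
  have hsπ : s ≫ π = U₀.ι ≫ f := by
    simp only [s, π, imm, Category.assoc]
    rw [← Spec.map_comp_assoc, ← CommRingCat.ofHom_comp, hφ.2, CommRingCat.ofHom_hom,
      hV.SpecMap_appLE_fromSpec f hU, ← Category.assoc, hU.toSpecΓ_fromSpec]
  let q := π ≫ g
  have hsq : s ≫ q = U₀.ι ≫ f ≫ g := by
    rw [← Category.assoc, hsπ, Category.assoc]
  let F₀ := (DCX42.resCx U₀.ι).obj F
  let G := ((Scheme.Modules.pushforward s).mapHomologicalComplex (ComplexShape.up ℤ)).obj F₀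
  let eG : DCoh.toD _ G ≅ (pushD s).obj ((resD U₀.ι).obj (DCoh.toD X F)) :=
    ((pushD s).mapIso (resQ U₀.ι F) ≪≫ pushQ s F₀).symm
  haveI : LocallyOfFiniteType (s ≫ q) := inferInstance
  have hG : DCoh.IsPseudoCoherentD (a - 1) (DCoh.toD _ G) := by
    refine isPC_of_iso eG.symm ((rel_closed_flat_iff s q fun V' U' hV' hU' hle' => ⟨?_, ?_⟩).1 ?_)
    · exact HasRingHomProperty.appLE @Flat q inferInstance ⟨V', hV'⟩ ⟨U', hU'⟩ hle'
    · exact HasRingHomProperty.appLE @LocallyOfFinitePresentation q inferInstance ⟨V', hV'⟩ ⟨U', hU'⟩ hle'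
    · rw [hsq]
      exact rel_resD U₀.ι (hF.1 (a - 1))
  have hzG : ∀ i, i < a ∨ b < i → IsZero (DCoh.HD (DCoh.toD _ G) i) := fun i hi =>
    ((Scheme.Modules.pushforward s).map_isZero (((Scheme.Modules.restrictFunctor U₀.ι).map_isZero (hz i hi)).of_iso
      ((Mod48.homologyMapDerivedIso (Scheme.Modules.restrictFunctor U₀.ι) i).app _))).of_iso
        ((DerivedCategory.homologyFunctor _ i).mapIso eG ≪≫ pushHD s _ i)
  let p := s ⟨x, hxU⟩
  have htG : DerSch.HasTorAmplitudeAt q a b G p := by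
    refine (torAmpAt_push_iff s q F₀ ⟨x, hxU⟩).2 ?_
    rw [hsq]
    exact (torAmpAt_restrict_iff U₀.ι (f ≫ g) F ⟨x, hxU⟩).2 (hF.2 x)
  obtain ⟨W, M, hpW, hMv, hMf, hMp, hMl, ⟨eM⟩⟩ := exists_flat_model' q (not_lt.1 hab) G hG hzG p htG
  let t : (W : Scheme.{u}) := ⟨p, hpW⟩
  let π' := W.ι ≫ π
  have hfM : FibTA π' g a b M t :=
    FibTA.congr_iso π' eM ((fibTA_restrict_iff W.ι π G t).2
      (fibTA_push s π (FibTA.congr_hom hsπ.symm ((fibTA_restrict_iff U₀.ι f F ⟨x, hxU⟩).2 hfib))))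
  have hhigh : ∀ i, a < i → FlatMod.IsFlatOver π' (M.X i) := fun i hi =>
    PerfFib24.isFlatOver_of_isFlat _ (isFlat_of_isFinLocFree (hMl i hi))
  have hlow : FlatMod.IsFlatOverAt π' (M.X a) t := by
    haveI := DR39.hasLBaseChange (Ideal.Quotient.mk (Ideal.map (g.stalkMap (π'.base t)).hom
      (IsLocalRing.maximalIdeal (S.presheaf.stalk (g.base (π'.base t))))))
    have hflat := flat_ext_lowest (Ideal.Quotient.mk (Ideal.map (g.stalkMap (π'.base t)).hom
      (IsLocalRing.maximalIdeal (S.presheaf.stalk (g.base (π'.base t))))))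
      ((DerSch.stalkCxOver π' t).obj M) (b := b)
      (fun i hi => (DerSch.stalkOver π' t).map_isZero (hMv i hi))
      (fun i hi => (flat_stalkOver_iff (f := π') (M.X i) t).2 (hhigh i hi t)) hfM
    rcases subsingleton_or_nontrivial ((M.X a).presheaf.stalk t) with hs | hnt
    · unfold FlatMod.IsFlatOverAt
      infer_instance
    haveI := hMp a
    have hq : Coh.IsQCoh (M.X a) := isQCoh_of_isFP (hMp a)
    haveI : LocallyOfFinitePresentation (π' ≫ g) := inferInstance
    refine ((Groth.Agent.S1483.result π' g (M.X a) hq (hMp a) t hnt).1 ⟨?_, ?_⟩).2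
    · have := hMf a t
      rwa [show π' ≫ g = W.ι ≫ q from Category.assoc _ _ _]
    · letI := FlatMod.moduleStalkOver π' (M.X a) t
      let J := Ideal.map (g.stalkMap (π'.base t)).hom (IsLocalRing.maximalIdeal (S.presheaf.stalk (g.base (π'.base t))))
      haveI : Module.Flat (Y.presheaf.stalk (π'.base t) ⧸ J)
          ((Y.presheaf.stalk (π'.base t) ⧸ J) ⊗[Y.presheaf.stalk (π'.base t)] (M.X a).presheaf.stalk t) := hflat
      exact Module.Flat.of_linearEquiv (LinearEquiv.extendScalarsOfSurjective Ideal.Quotient.mk_surjective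
        (TensorProduct.quotTensorEquivQuotSMul ((M.X a).presheaf.stalk t) J)).symm
  haveI : (M.X a).IsQuasicoherent := (have := hMp a; inferInstance)
  let W₀ : (W : Scheme.{u}).Opens := ⟨{w | FlatMod.IsFlatOverAt π' (M.X a) w},
    Open62.isOpen_flatLocus (f := π') (M.X a) inferInstance (hMp a)⟩
  obtain ⟨e, _, he⟩ := exists_opens_iso (W₀.ι ≫ W.ι)
  let W' := (W₀.ι ≫ W.ι).opensRange
  refine perfAmp_of_push_model f U₀ s π hsπ F hxU W' ⟨⟨t, hlow⟩, rfl⟩
    ((DCX42.resCx e).obj ((DCX42.resCx W₀.ι).obj M))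
    (fun i hi => (Scheme.Modules.restrictFunctor e).map_isZero ((Scheme.Modules.restrictFunctor W₀.ι).map_isZero (hMv i hi)))
    (fun i => ?_) (fun i => isFP_restrict (isFP_restrict (hMp i) W₀.ι) e) ?_
  · have h₀ : FlatMod.IsFlatOver (W₀.ι ≫ W.ι ≫ π) ((Scheme.Modules.restrictFunctor W₀.ι).obj (M.X i)) := by
      rcases lt_trichotomy i a with hlt | heq | hgt
      · intro w
        rw [← flat_stalkOver_iff]
        haveI := ModuleCat.subsingleton_of_isZero ((DerSch.stalkOver (W₀.ι ≫ W.ι ≫ π) w).map_isZero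
          ((Scheme.Modules.restrictFunctor W₀.ι).map_isZero (hMv i (Or.inl hlt))))
        infer_instance
      · subst heq
        exact fun w => PerfFib24.isFlatOverAt_restrict π' W₀.ι (M.X i) w w.2
      · exact PerfFib24.isFlatOver_restrict π' W₀.ι (hhigh i hgt)
    have h₁ := PerfFib24.isFlatOver_restrict _ e h₀
    rwa [← Category.assoc W₀.ι W.ι π, ← Category.assoc e (W₀.ι ≫ W.ι), he] at h₁
  · exact (resQ W'.ι G).symm ≪≫ (resDCongr he.symm).app _ ≪≫ ((resDComp e (W₀.ι ≫ W.ι)).app _).symm ≪≫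
      (resD e).mapIso (((resDComp W₀.ι W.ι).app _).symm ≪≫ (resD W₀.ι).mapIso (resQ W.ι G ≪≫ eM) ≪≫ resQ W₀.ι M) ≪≫
      resQ e _

/-- Perfection relative to the source gives the fibre condition. -/
theorem fibTA_of_torAmp (f : X ⟶ Y) (F : CochainComplex X.Modules ℤ) (x : X)
    (h : DerSch.HasTorAmplitudeAt f a b F x) : FibTA f g a b F x := by
  unfold FibTA
  haveI := DR39.hasLBaseChange (Ideal.Quotient.mk (Ideal.map (g.stalkMap (f.base x)).hom
    (IsLocalRing.maximalIdeal (S.presheaf.stalk (g.base (f.base x))))))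
  exact ta_LBaseChange _ h

/-- The criterion. -/
theorem perfAmp_nhd_iff (f : X ⟶ Y) [LocallyOfFiniteType f] [Flat g] [LocallyOfFinitePresentation g]
    (h : X ⟶ S) (w : f ≫ g = h) (F : CochainComplex X.Modules ℤ) (x : X) :
    ((∃ U : X.Opens, x ∈ U ∧ DerSch.HasPerfAmplitudeRel (U.ι ≫ h) a b ((DCX42.resCx U.ι).obj F)) ∧
      FibTA f g a b F x) ↔
    ∃ U : X.Opens, x ∈ U ∧ DerSch.HasPerfAmplitudeRel (U.ι ≫ f) a b ((DCX42.resCx U.ι).obj F) := by
  subst w
  constructor
  · rintro ⟨⟨U, hxU, hU⟩, hfib⟩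
    have hU' : DerSch.HasPerfAmplitudeRel ((U.ι ≫ f) ≫ g) a b ((DCX42.resCx U.ι).obj F) := by
      rwa [Category.assoc]
    obtain ⟨U', hx', hp⟩ := exists_perfAmp_of_fibre (U.ι ≫ f) _ hU' ⟨x, hxU⟩
      ((fibTA_restrict_iff U.ι f F ⟨x, hxU⟩).2 hfib)
    exact exists_nhd_of_restrict f F U U' hxU hx' hp
  · rintro ⟨U, hxU, hU⟩
    refine ⟨⟨U, hxU, ?_⟩, (fibTA_restrict_iff U.ι f F ⟨x, hxU⟩).1 (fibTA_of_torAmp _ _ _ (hU.2 ⟨x, hxU⟩))⟩
    have := perfAmpRel_comp (U.ι ≫ f) g 0 (hasPerfDimLE_zero_of_flat g) hU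
    simpa using this

end Groth.Agent.RelPCSch41
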