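import Groth.Agent.RelPCSch41.NPC
import Groth.Agent.RelPCSch41.Dev
import Groth.Agent.FlatMor67.PCModule
import Groth.Agent.FlatMor68.FlatSections

/-!
Flat relatively finitely presented modules are relatively pseudo-coherent.
-/

set_option autoImplicit false
set_option backward.isDefEq.respectTransparency.types false
set_option linter.style.haveILetI false
set_option linter.unusedSectionVars false
set_option maxHeartbeats 400000

noncomputable section

universe u

open CategoryTheory Limits AlgebraicGeometry TopologicalSpace DerivedCategory Opposite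
open Groth.Agent.DCX42
attribute [local instance] HasDerivedCategory.standard

namespace Groth.Agent.RelPCSch41

variable {X Y : Scheme.{u}} {f : X ⟶ Y}

/-- A module in degree zero, two ways. -/
def singleIso (M : X.Modules) :
    DCoh.toD X ((HomologicalComplex.single _ (ComplexShape.up ℤ) 0).obj M) ≅ DCoh.inD X M :=
  ((singleFunctorIsoCompQ X.Modules 0).app M).symm

open MvPolynomial in
theorem pc_secMod_of_flat {U : X.Opens} {A : Type u} [CommRing A] {n : ℕ} (φ : MvPolynomial (Fin n) A →+* Γ(X, U))
    (M : X.Modules) (hfp : DR39.PC (-1) (Dual.inD (MvPolynomial (Fin n) A) (secMod U φ M)))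
    (hfl : @Module.Flat A (M.val.obj (op U) :) _ _
      (@Module.compHom Γ(X, U) A (M.val.obj (op U) :) _ _ _ _ (φ.comp C)))
    (m : ℤ) : DR39.PC m (Dual.inD (MvPolynomial (Fin n) A) (secMod U φ M)) := by
  letI : Module A (secMod U φ M) :=
    @Module.compHom Γ(X, U) A (M.val.obj (op U) :) _ _ _ _ (φ.comp C)
  haveI : IsScalarTower A (MvPolynomial (Fin n) A) (secMod U φ M) := IsScalarTower.of_algebraMap_smul fun r s => rfl
  haveI : Module.FinitePresentation (MvPolynomial (Fin n) A) (secMod U φ M) :=
    (DR39.pcModule_negOne_iff _).1 hfp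
  haveI : Module.Flat A (secMod U φ M) := hfl
  exact DR39.pc_of_pc' (FlatMor67.PCM.pc'_of_flat_fp A (MvPolynomial (Fin n) A) (secMod U φ M)) m

theorem relAll_of_flat [LocallyOfFiniteType f] (M : X.Modules) (hfl : FlatMod.IsFlatOver f M)
    (h : DerSch.IsPseudoCoherentRel f (-1) (DCoh.inD X M)) (m : ℤ) :
    DerSch.IsPseudoCoherentRel f m (DCoh.inD X M) := by
  haveI : M.IsQuasicoherent := isQCoh_of_rel M h
  refine (rel_inD_iff M m).2 fun U V hU hV hle n φ hφ => pc_secMod_of_flat φ M ((rel_inD_iff M (-1)).1 h U V hU hV hle n φ hφ) ?_ m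
  rw [hφ.2]
  exact FlatMor68.FlatSections.flat_sections f hle hU hV (QC70.isLocAt_of_isQuasicoherent M hU) fun x _ => hfl x

theorem relAll_of_flat_terms [LocallyOfFiniteType f] (E : CochainComplex X.Modules ℤ) (b : ℤ)
    (hb : ∀ i : ℤ, b < i → IsZero (E.X i)) (hfl : ∀ i : ℤ, FlatMod.IsFlatOver f (E.X i))
    (hfp : ∀ i : ℤ, DerSch.IsPseudoCoherentRel f (-1)
      (DCoh.toD X ((HomologicalComplex.single _ (ComplexShape.up ℤ) 0).obj (E.X i)))) :
    DerSch.IsPseudoCoherentRelAll f (DCoh.toD X E) := fun m =>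
  (pcLike_rel f).of_terms m E b hb fun i _ =>
    relAll_of_flat (E.X i) (hfl i) (rel_congr (singleIso (E.X i)) (hfp i)) (m - i)

end Groth.Agent.RelPCSch41
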