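import Groth.Agent.DCX42.Trunc
import Mathlib.Algebra.Homology.HomotopyCategory.DegreewiseSplit

/-!
Dévissage along terms after an exact functor of complexes.
-/

set_option autoImplicit false
set_option backward.isDefEq.respectTransparency false
set_option linter.style.haveILetI false
set_option linter.unusedSectionVars false
set_option maxHeartbeats 400000

noncomputable section

universe w w' v v' u u'

open CategoryTheory Limits Pretriangulated
open Groth.Agent.DCX42

namespace Groth.Agent.RelPCSch41

variable {A : Type u} [Category.{v} A] [Abelian A] [HasDerivedCategory.{w} A]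
  {B : Type u'} [Category.{v'} B] [Abelian B] [HasDerivedCategory.{w'} B]
  (T : CochainComplex A ℤ ⥤ CochainComplex B ℤ) [T.Additive]
  (hT : ∀ ⦃S : ShortComplex (CochainComplex A ℤ)⦄, S.ShortExact → (S.map T).ShortExact)
  (P : DerivedCategory B → Prop)
  (hP0 : ∀ K, IsZero K → P K)
  (hP2 : ∀ T ∈ (distinguishedTriangles : Set (Triangle (DerivedCategory B))), P T.obj₁ → P T.obj₃ → P T.obj₂)
  (F : A → Prop) (hFiso : ∀ ⦃X Y : A⦄, (X ≅ Y) → F X → F Y) (hF0 : ∀ X, IsZero X → F X)

include hT hP0 hP2 hFiso hF0 in
/-- Dévissage along the terms. -/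
theorem genTerms {b₀ : ℤ} (hs : ∀ i, i ≤ b₀ → ∀ X, F X →
      P (DerivedCategory.Q.obj (T.obj ((HomologicalComplex.single A (ComplexShape.up ℤ) i).obj X)))) :
    ∀ (n : ℕ) (G : CochainComplex A ℤ) (lo b : ℤ), b - lo < n → b ≤ b₀ → (∀ i, F (G.X i)) →
      (∀ i, i < lo ∨ b < i → IsZero (G.X i)) → P (DerivedCategory.Q.obj (T.obj G))
  | 0, G, lo, b, hlb, _, _, hG => by
    refine hP0 _ (Functor.map_isZero _ (T.map_isZero ?_))
    exact (IsZero.iff_id_eq_zero _).2 (HomologicalComplex.hom_ext _ _ fun i =>
      (hG i (by omega)).eq_of_src _ _)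
  | n + 1, G, lo, b, hlb, hb₀, hfree, hG => by
    let ι : (HomologicalComplex.single A (ComplexShape.up ℤ) b).obj (G.X b) ⟶ G :=
      HomologicalComplex.mkHomFromSingle (𝟙 _)
        (fun j (hj : b + 1 = j) => (hG j (Or.inr (by omega))).eq_of_tgt _ _)
    have hι : ι.f b = (HomologicalComplex.singleObjXSelf (ComplexShape.up ℤ) b (G.X b)).hom :=
      (HomologicalComplex.mkHomFromSingle_f _ _).trans (Category.comp_id _)
    have : ∀ i, Mono (ι.f i) := fun i => by
      by_cases hi : i = b
      · subst hi; rw [hι]; infer_instance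
      · exact ⟨fun g h _ => (HomologicalComplex.isZero_single_obj_X _ b (G.X b) i hi).eq_of_tgt _ _⟩
    have : Mono ι := HomologicalComplex.mono_of_mono_f ι this
    let S' := ShortComplex.mk ι (cokernel.π ι) (cokernel.condition ι)
    have hS : S'.ShortExact := ShortComplex.ShortExact.mk (ShortComplex.exact_cokernel ι)
    have hSi : ∀ i, (S'.map (HomologicalComplex.eval A (ComplexShape.up ℤ) i)).ShortExact :=
      fun i => hS.map_of_exact _
    have hb0 : IsZero ((cokernel ι).X b) := by
      have := (hSi b).epi_g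
      have h0 : (cokernel.π ι).f b = 0 := by
        have h0 := congr_arg (fun t : _ ⟶ cokernel ι => t.f b) (cokernel.condition ι)
        simp only [HomologicalComplex.comp_f, HomologicalComplex.zero_f, hι] at h0
        exact (cancel_epi _).1 (h0.trans comp_zero.symm)
      exact IsZero.of_epi_eq_zero ((cokernel.π ι).f b) h0
    have hiso : ∀ i, i ≠ b → IsIso ((cokernel.π ι).f i) := fun i hi => by
      have := (hSi i).epi_g
      have : Mono ((cokernel.π ι).f i) := (hSi i).exact.mono_g
        ((HomologicalComplex.isZero_single_obj_X (ComplexShape.up ℤ) b (G.X b) i hi).eq_of_src _ _)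
      exact isIso_of_mono_of_epi _
    have h₃ : ∀ i, i < lo ∨ b - 1 < i → IsZero ((cokernel ι).X i) := by
      intro i hi
      by_cases hib : i = b
      · subst hib
        exact hb0
      · have := hiso i hib
        exact IsZero.of_epi ((cokernel.π ι).f i) (hG i (by omega))
    have hfree₃ : ∀ i, F ((cokernel ι).X i) := fun i => by
      by_cases hib : i = b
      · subst hib
        exact hF0 _ hb0
      · have := hiso i hib
        exact hFiso (asIso ((cokernel.π ι).f i)) (hfree i)
    exact hP2 _ (DerivedCategory.triangleOfSES_distinguished (hT hS)) (hs b hb₀ _ (hfree b))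
      (genTerms hs n _ lo (b - 1) (by omega) (by omega) hfree₃ h₃)

include hT in
/-- The triangle of a mapping cone after the functor. -/
theorem exists_cone_triangle {G C : CochainComplex A ℤ} (γ : G ⟶ C) {a : ℤ}
    (hγ : PCMap a (DerivedCategory.Q.map γ)) :
    ∃ (K : CochainComplex A ℤ) (T' : Triangle (DerivedCategory B)), T' ∈ distinguishedTriangles ∧
      (DerivedCategory.Q.obj K).IsLE (a - 1) ∧ Nonempty (T'.obj₁ ≅ DerivedCategory.Q.obj (T.obj C)) ∧
      Nonempty (T'.obj₂ ≅ DerivedCategory.Q.obj (T.obj K)) ∧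
      Nonempty (T'.obj₃ ≅ DerivedCategory.Q.obj (T.obj (G⟦(1 : ℤ)⟧))) := by
  have hS : (CochainComplex.mappingCone.triangleRotateShortComplex γ).ShortExact :=
    HomologicalComplex.shortExact_of_degreewise_shortExact _ fun n =>
      (CochainComplex.mappingCone.triangleRotateShortComplexSplitting γ n).shortExact
  exact ⟨_, _, DerivedCategory.triangleOfSES_distinguished (hT hS),
    (pcMap_iff_isLE (DerivedCategory.mappingCone_triangle_distinguished γ) a).1 hγ,
    ⟨Iso.refl _⟩, ⟨Iso.refl _⟩, ⟨Iso.refl _⟩⟩

end Groth.Agent.RelPCSch41
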