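import Groth.Agent.RelPCSch41.Dev
import Groth.Agent.RelPCSch41.PCTilde

/-!
Relative pseudo-coherence of quasi-coherent modules is pseudo-coherence of sections.
-/

set_option autoImplicit false
set_option backward.isDefEq.respectTransparency.types false
set_option linter.style.haveILetI false
set_option linter.unusedSectionVars false
set_option maxHeartbeats 400000

noncomputable section

universe u

open CategoryTheory Limits AlgebraicGeometry TopologicalSpace DerivedCategory Opposite
open Groth.Agent.DCX42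
attribute [local instance] HasDerivedCategory.standard

namespace Groth.Agent.RelPCSch41

variable {X Y : Scheme.{u}}

/-- The sections on an open as a module over a ring mapping to its functions. -/
abbrev secMod (U : X.Opens) {P : Type u} [CommRing P] (ψ : P →+* Γ(X, U)) (M : X.Modules) :
    ModuleCat.{u} P :=
  (ModuleCat.restrictScalars ψ).obj
    (ModuleCat.of Γ(X, U) (M.val.obj (op U) :))

lemma imm_appTop {U : X.Opens} {P : Type u} [CommRing P] (ψ : P →+* Γ(X, U)) :
    (Scheme.ΓSpecIso (CommRingCat.of P)).inv ≫ (imm U ψ).appTop = CommRingCat.ofHom ψ ≫ U.topIso.inv := by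
  rw [imm, Scheme.Hom.comp_appTop, ← Category.assoc, ← Scheme.ΓSpecIso_inv_naturality, Category.assoc,
    Scheme.Opens.toSpecΓ_appTop, Iso.inv_hom_id_assoc]

/-- Global sections of a direct image to an affine space. -/
theorem nonempty_ΓPush {U : X.Opens} {P : Type u} [CommRing P] (ψ : P →+* Γ(X, U)) (M : X.Modules) :
    Nonempty ((moduleSpecΓFunctor (R := CommRingCat.of P)).obj
      ((Scheme.Modules.pushforward (imm U ψ)).obj (M.restrict U.ι)) ≅ secMod U ψ M) := by
  let i : op (U.ι ''ᵁ (imm U ψ ⁻¹ᵁ ⊤)) ⟶ op U := eqToHom (by rw [Scheme.Hom.preimage_top, U.ι_image_top])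
  have hi : op (U.ι ''ᵁ (imm U ψ ⁻¹ᵁ ⊤)) = op U := by rw [Scheme.Hom.preimage_top, U.ι_image_top]
  refine ⟨ModuleCat.isoMk (M.presheaf.mapIso (eqToIso hi)) fun r => ?_⟩
  ext x
  refine Eq.symm ((M.val.map_smul i _ _).trans ?_)
  refine congrArg (fun (t : Γ(X, U)) => (t • (M.presheaf.map i x : M.val.obj (op U)))) ?_
  change (X.presheaf.map i) ((U.ι.appIso _).inv ((imm U ψ).appTop ((Scheme.ΓSpecIso (CommRingCat.of P)).inv r))) = ψ r
  refine (congrArg (fun t => (X.presheaf.map i) ((U.ι.appIso _).inv t)) (congr($(imm_appTop ψ) r))).trans ?_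
  simp only [CommRingCat.comp_apply, Scheme.Opens.ι_appIso, Scheme.Opens.topIso_inv]
  change ((X.presheaf.map _) ≫ X.presheaf.map i) (ψ r) = ψ r
  rw [← Functor.map_comp]
  exact congr($(X.presheaf.map_id (op U)) (ψ r))

/-- The direct image of a quasi-coherent module to a spectrum is associated to its sections. -/
theorem nonempty_push_single {R : CommRingCat.{u}} {W : Scheme.{u}} (j : W ⟶ X) [IsOpenImmersion j]
    (s : W ⟶ Spec R) [IsClosedImmersion s] (M : X.Modules) [M.IsQuasicoherent] (N : ModuleCat.{u} R)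
    (e : (moduleSpecΓFunctor (R := R)).obj ((Scheme.Modules.pushforward s).obj (M.restrict j)) ≅ N) :
    Nonempty ((pushD s).obj ((resD j).obj ((singleFunctor X.Modules 0).obj M)) ≅
      (tildeD R).obj ((singleFunctor (ModuleCat.{u} R) 0).obj N)) := by
  let L := (Scheme.Modules.pushforward s).obj (M.restrict j)
  haveI hq : L.IsQuasicoherent := QCqs72.isQuasicoherent_pushforward (M := M.restrict j) s
  let e' : (tilde.functor R).obj N ≅ L := (tilde.functor R).mapIso e.symm ≪≫ @asIso _ _ _ _ L.fromTildeΓ (Scheme.Modules.isIso_fromTildeΓ_of_isQuasicoherent L)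
  exact ⟨(pushD s).mapIso (((Scheme.Modules.restrictFunctor j).mapDerivedCategorySingleFunctor 0).app M) ≪≫
    ((Scheme.Modules.pushforward s).mapDerivedCategorySingleFunctor 0).app _ ≪≫
    (singleFunctor _ 0).mapIso e'.symm ≪≫
    (((tilde.functor R).mapDerivedCategorySingleFunctor 0).app N).symm⟩

variable {f : X ⟶ Y} {m : ℤ}

/-- Goodness of a quasi-coherent module. -/
theorem good_inD_iff {U : X.Opens} {V : Y.Opens} (hU : IsAffineOpen U) (h : U ≤ f ⁻¹ᵁ V) {n : ℕ}
    {φ : MvPolynomial (Fin n) Γ(Y, V) →+* Γ(X, U)} (hφ : DerSch.IsChart f U V h φ) (M : X.Modules)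
    [M.IsQuasicoherent] :
    Good f m (DCoh.inD X M) U V ↔ DR39.PC m (Dual.inD (MvPolynomial (Fin n) Γ(Y, V)) (secMod U φ M)) := by
  haveI := isClosedImmersion_imm hU hφ.1
  obtain ⟨e₀⟩ := nonempty_ΓPush φ M
  obtain ⟨e⟩ := nonempty_push_single (R := CommRingCat.of (MvPolynomial (Fin n) Γ(Y, V))) U.ι (imm U φ) M _ e₀
  rw [good_iff_pc hU h hφ]
  exact Iff.trans ⟨isPC_of_iso e, isPC_of_iso e.symm⟩
    (isPC_tildeD_iff (R := CommRingCat.of (MvPolynomial (Fin n) Γ(Y, V))) m _)

end Groth.Agent.RelPCSch41
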