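import Groth.Agent.RelPCSch41.Module
import Mathlib.AlgebraicGeometry.Morphisms.FinitePresentation

/-!
`n`-pseudo-coherent morphisms.
-/

set_option autoImplicit false
set_option backward.isDefEq.respectTransparency.types false
set_option linter.style.haveILetI false
set_option linter.unusedSectionVars false
set_option maxHeartbeats 400000

noncomputable section

universe u

open CategoryTheory Limits AlgebraicGeometry TopologicalSpace DerivedCategory Opposite
open Groth.Agent.DCX42
attribute [local instance] HasDerivedCategory.standard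

namespace Groth.Agent.RelPCSch41

variable {X Y : Scheme.{u}} {f : X ⟶ Y}

/-- The structure sheaf in degree zero, two ways. -/
def unitIso (X : Scheme.{u}) : DCoh.toD X (DerSch.unitCx X) ≅ DCoh.inD X (Coh.structureModule X) :=
  ((singleFunctorIsoCompQ X.Modules 0).app _).symm

theorem npc_iff [LocallyOfFiniteType f] (m : ℤ) :
    DerSch.IsNPseudoCoherent f m ↔
      ∀ (U : X.Opens) (V : Y.Opens), IsAffineOpen U → IsAffineOpen V → ∀ (h : U ≤ f ⁻¹ᵁ V) (n : ℕ)
        (φ : MvPolynomial (Fin n) Γ(Y, V) →+* Γ(X, U)), DerSch.IsChart f U V h φ →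
          DR39.PC m (Dual.inD (MvPolynomial (Fin n) Γ(Y, V)) (secMod U φ (Coh.structureModule X))) := by
  rw [← rel_inD_iff (f := f)]
  exact ⟨rel_congr (unitIso X), rel_congr (unitIso X).symm⟩

theorem ker_fg_of_pc {U : X.Opens} {P : Type u} [CommRing P] {φ : P →+* Γ(X, U)} (hφ : Function.Surjective φ)
    (h : DR39.PC (-1) (Dual.inD P (secMod U φ (Coh.structureModule X)))) : (RingHom.ker φ).FG := by
  letI := φ.toAlgebra
  haveI : Module.FinitePresentation P Γ(X, U) := (DR39.pcModule_negOne_iff _).1 h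
  have := Module.FinitePresentation.fg_ker (Algebra.linearMap P Γ(X, U)) hφ
  exact this

theorem pc_of_ker_fg {U : X.Opens} {P : Type u} [CommRing P] {φ : P →+* Γ(X, U)} (hφ : Function.Surjective φ)
    (h : (RingHom.ker φ).FG) : DR39.PC (-1) (Dual.inD P (secMod U φ (Coh.structureModule X))) := by
  letI := φ.toAlgebra
  refine (DR39.pcModule_negOne_iff _).2 ?_
  change Module.FinitePresentation P Γ(X, U)
  exact Module.finitePresentation_of_surjective (Algebra.linearMap P Γ(X, U)) hφ h

theorem npc_negOne_iff [LocallyOfFiniteType f] :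
    DerSch.IsNPseudoCoherent f (-1) ↔ LocallyOfFinitePresentation f := by
  rw [npc_iff, HasRingHomProperty.iff_appLE (P := @LocallyOfFinitePresentation)]
  constructor
  · intro H V U h
    obtain ⟨n, φ, hφ⟩ := exists_chart_of_ft (f := f) U.2 V.2 h
    letI := (f.appLE V.1 U.1 h).hom.toAlgebra
    let φ' : MvPolynomial (Fin n) Γ(Y, V.1) →ₐ[Γ(Y, V.1)] Γ(X, U.1) :=
      { φ with commutes' := fun r => RingHom.congr_fun hφ.2 r }
    exact Algebra.FinitePresentation.of_surjective (f := φ') hφ.1
      (ker_fg_of_pc hφ.1 (H _ _ U.2 V.2 h n φ hφ))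
  · intro H U V hU hV h n φ hφ
    letI := (f.appLE V U h).hom.toAlgebra
    haveI : Algebra.FinitePresentation Γ(Y, V) Γ(X, U) := @H ⟨V, hV⟩ ⟨U, hU⟩ h
    let φ' : MvPolynomial (Fin n) Γ(Y, V) →ₐ[Γ(Y, V)] Γ(X, U) :=
      { φ with commutes' := fun r => RingHom.congr_fun hφ.2 r }
    exact pc_of_ker_fg hφ.1 (Algebra.FinitePresentation.ker_fG_of_surjective φ' hφ.1)

end Groth.Agent.RelPCSch41
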