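import Groth.Agent.RelPCSch41.PerfSmooth
import Groth.Agent.RelPCSch41.ModChart
import Groth.Agent.RelPCSch41.NPC
import Groth.Agent.RelPCSch41.Flat
import Groth.Agent.DR39.KoszulDepth
import Groth.Agent.RegImm99.Stalk
import Groth.Agent.FlatMor68.PerfKoszul
import Groth.Prelude.Def_RegImm

/-!
Koszul-regular immersions have perfect dimension bounded by the codimension.
-/

set_option autoImplicit false
set_option backward.isDefEq.respectTransparency.types false
set_option linter.style.haveILetI false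
set_option linter.unusedSectionVars false
set_option maxHeartbeats 1000000

noncomputable section

universe u

open CategoryTheory Limits AlgebraicGeometry
open Groth.Agent.DCX42
attribute [local instance] HasDerivedCategory.standard

namespace Groth.Agent.RelPCSch41

open Koszul19 DR39 in
/-- The Koszul complex resolves the quotient by a Koszul-regular sequence. -/
theorem nonempty_koszul_iso {A : Type u} [CommRing A] (l : List A) (hl : KR l) :
    Nonempty ((QA A).obj (Koszul.koszul A l) ≅ Dual.inD A (A ⧸ Ideal.ofList l)) := by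
  let X := (QA A).obj (Koszul.koszul A l)
  have hz : ∀ i : ℤ, i ≠ 0 → IsZero ((HF A i).obj X) := fun i hi =>
    ((isZero_homology_iff_ex _ i).2 (hl i hi)).of_iso (HQIso _ i)
  haveI : X.IsGE 0 := (DerivedCategory.isGE_iff X 0).2 fun i hi => hz i (by omega)
  haveI : X.IsLE 0 := (DerivedCategory.isLE_iff X 0).2 fun i hi => hz i (by omega)
  obtain ⟨Y, ⟨e⟩⟩ := DerivedCategory.exists_iso_singleFunctor_obj_of_isGE_of_isLE X 0
  let eY : Y ≅ ModuleCat.of A (A ⧸ Ideal.ofList l) :=
    ((DerivedCategory.singleFunctorCompHomologyFunctorIso (ModuleCat.{u} A) 0).app Y).symm ≪≫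
      ((HF A 0).mapIso e).symm ≪≫ HQIso _ 0 ≪≫ homologyIsoHc _ (-1) 0 1 (by omega) (by omega) ≪≫
      (hcZero l).toModuleIso
  exact ⟨e ≪≫ (DerivedCategory.singleFunctor (ModuleCat.{u} A) 0).mapIso eY⟩

/-- The tilde of a quotient by a Koszul-regular sequence has a finite locally free representative. -/
theorem hasAmpRep_tilde_koszul {A : CommRingCat.{u}} (l : List A) (hl : Koszul19.KR (A := (A : Type u)) l) :
    PerfAmp41.HasAmpRep (-(l.length : ℤ)) 0
      ((tildeD A).obj (Dual.inD (A : Type u) ((A : Type u) ⧸ Ideal.ofList l))) := by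
  obtain ⟨e⟩ := nonempty_koszul_iso l hl
  refine ⟨((tilde.functor A).mapHomologicalComplex (ComplexShape.up ℤ)).obj (Koszul.koszul (A : Type u) l),
    fun i hi => (tilde.functor A).map_isZero ?_, fun i => ?_,
    ⟨(tildeD A).mapIso e.symm ≪≫ (tilde.functor A).mapDerivedCategoryFactors.app _⟩⟩
  · haveI := Koszul19.subsingleton_X l i (by omega)
    exact ModuleCat.isZero_of_subsingleton _
  · haveI := (DR39.finite_free_koszul l i).1
    haveI := (DR39.finite_free_koszul l i).2
    exact (Props58.LocFree.isFinLocFree_tilde_iff _).mpr ⟨inferInstance, Module.Projective.of_free⟩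

/-- A quotient of the sections. -/
theorem nonempty_secMod_quot {Z : Scheme.{u}} {W : Z.Opens} {A : Type u} [CommRing A] (φ : A →+* Γ(Z, W))
    (hφ : Function.Surjective φ) {I : Ideal A} (hI : RingHom.ker φ = I) :
    Nonempty (secMod W φ (Coh.structureModule Z) ≅ ModuleCat.of A (A ⧸ I)) := by
  subst hI
  letI := φ.toAlgebra
  let e : (secMod W φ (Coh.structureModule Z) : Type u) ≃ₗ[A] Γ(Z, W) :=
    { toFun := fun x => x
      invFun := fun x => x
      map_add' := fun _ _ => rfl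
      map_smul' := fun _ _ => rfl
      left_inv := fun _ => rfl
      right_inv := fun _ => rfl }
  exact ⟨(e.trans (Ideal.quotientKerAlgEquivOfSurjective (f := Algebra.ofId A Γ(Z, W)) hφ).toLinearEquiv.symm).toModuleIso⟩

variable {Z X : Scheme.{u}}

/-- Perfect amplitude of a Koszul-regular immersion near a point. -/
theorem exists_perfAmp_koszul (i : Z ⟶ X) (U : X.affineOpens) [IsClosedImmersion (i ∣_ U.1)] (rs : List Γ(X, U.1))
    (hrs : LCI.IsKoszulRegularSeq Γ(X, U.1) rs) (hker : RingHom.ker (i.app U.1).hom = Ideal.ofList rs) :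
    DerSch.HasPerfAmplitudeRel ((i ⁻¹ᵁ U.1).ι ≫ i) (-(rs.length : ℤ)) 0
      ((resCx (i ⁻¹ᵁ U.1).ι).obj (DerSch.unitCx Z)) := by
  obtain ⟨hW, hsurj⟩ := RegImm99.app_surjective i U.2
  let W := i ⁻¹ᵁ U.1
  let φ := (i.app U.1).hom
  let s := imm W φ
  haveI : IsClosedImmersion s := isClosedImmersion_imm hW hsurj
  have hs : s ≫ U.2.fromSpec = W.ι ≫ i := by
    have h := U.2.SpecMap_appLE_fromSpec i hW le_rfl
    rw [← Scheme.Hom.app_eq_appLE] at h
    simp only [s, φ, imm, Category.assoc]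
    rw [CommRingCat.ofHom_hom, h, ← Category.assoc, hW.toSpecΓ_fromSpec]
  rw [← hs]
  refine perfAmpRel_of_push s U.2.fromSpec _ ?_
  haveI : (Coh.structureModule Z).IsQuasicoherent := inferInstance
  obtain ⟨e₀⟩ := nonempty_ΓPush φ (Coh.structureModule Z)
  obtain ⟨e₁⟩ := nonempty_secMod_quot φ hsurj hker
  obtain ⟨e⟩ := nonempty_push_single (R := CommRingCat.of Γ(X, U.1)) W.ι s (Coh.structureModule Z) _ (e₀ ≪≫ e₁)
  have h := (hasAmpRep_tilde_koszul (A := CommRingCat.of Γ(X, U.1)) rs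
    ((Koszul19.kR_iff rs).2 hrs)).of_iso (e.symm ≪≫ (pushD s).mapIso ((resD W.ι).mapIso (unitIso Z).symm ≪≫
      resQ W.ι (DerSch.unitCx Z)) ≪≫ pushQ s _)
  rw [PerfAmp41.isPerfAmp_iff]
  exact fun x => ⟨⊤, trivial, h.restrict _⟩

/-- A Koszul-regular immersion of codimension `d` has perfect dimension at most `d`. -/
theorem hasPerfDimLE_koszul (i : Z ⟶ X) (d : ℕ) (hi : RegImm.IsRegularImmersionOfCodim RegImm.Kind.koszul d i) :
    DerSch.HasPerfDimLE i d := by
  haveI := hi.1
  refine ⟨fun m => rel_of_local fun z => ?_, fun z => ?_⟩ <;>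
    obtain ⟨U, hzU, hcl, rs, hlen, hrs, hker⟩ := hi.2 z <;>
    obtain ⟨hpc, hta⟩ := exists_perfAmp_koszul i U rs hrs hker
  · exact ⟨_, (i ⁻¹ᵁ U.1).ι, inferInstance, ⟨⟨z, hzU⟩, rfl⟩,
      rel_congr (resQ (i ⁻¹ᵁ U.1).ι (DerSch.unitCx Z)).symm (hpc m)⟩
  · have := (torAmpAt_restrict_iff (i ⁻¹ᵁ U.1).ι i (DerSch.unitCx Z) ⟨z, hzU⟩).1 (hta ⟨z, hzU⟩)
    rwa [hlen] at this

/-- The direct image of the structure sheaf of a Koszul-regular closed immersion is perfect. -/
theorem isPerfect_push_koszul (i : Z ⟶ X) [IsClosedImmersion i] (hi : RegImm.IsRegularImmersion RegImm.Kind.koszul i) :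
    DCoh.IsPerfect (DCoh.inD X ((Scheme.Modules.pushforward i).obj (Coh.structureModule Z))) := by
  have h : DerSch.IsPerfectRel (i ≫ 𝟙 X) (DerSch.unitCx Z) := by
    rw [Category.comp_id]
    refine ⟨fun m => rel_of_local fun z => ?_, fun z => ?_⟩ <;>
      obtain ⟨U, hzU, hcl, rs, hrs, hker⟩ := hi.2 z <;>
      obtain ⟨hpc, hta⟩ := exists_perfAmp_koszul i U rs hrs hker
    · exact ⟨_, (i ⁻¹ᵁ U.1).ι, inferInstance, ⟨⟨z, hzU⟩, rfl⟩,
        rel_congr (resQ (i ⁻¹ᵁ U.1).ι (DerSch.unitCx Z)).symm (hpc m)⟩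
    · exact ⟨i ⁻¹ᵁ U.1, -(rs.length : ℤ), 0, hzU, fun z' hz' =>
        (torAmpAt_restrict_iff (i ⁻¹ᵁ U.1).ι i (DerSch.unitCx Z) ⟨z', hz'⟩).1 (hta ⟨z', hz'⟩)⟩
  have h' := (perfectRel_push_iff i (𝟙 X) (DerSch.unitCx Z)).1 h
  exact DCX42.isPerfect_of_iso (DerivedCategory.Q.mapIso
    ((HomologicalComplex.singleMapHomologicalComplex (Scheme.Modules.pushforward i) (ComplexShape.up ℤ) 0).app _) ≪≫
      singleIso _) h'

end Groth.Agent.RelPCSch41
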