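import Groth.Agent.RelPCSch41.ModChart
import Groth.Agent.RelPCSch41.ClosedSmooth
import Groth.Prelude.Def_Flatn

/-!
Relative pseudo-coherence of modules in low degrees.
-/

set_option autoImplicit false
set_option backward.isDefEq.respectTransparency.types false
set_option linter.style.haveILetI false
set_option linter.unusedSectionVars false
set_option maxHeartbeats 400000

noncomputable section

universe u

open CategoryTheory Limits AlgebraicGeometry TopologicalSpace DerivedCategory Opposite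
open Groth.Agent.DCX42
attribute [local instance] HasDerivedCategory.standard

namespace Groth.Agent.RelPCSch41

variable {X Y : Scheme.{u}} {f : X ⟶ Y}

/-- Relative pseudo-coherence of a quasi-coherent module, on sections. -/
theorem rel_inD_iff [LocallyOfFiniteType f] (M : X.Modules) [M.IsQuasicoherent] (m : ℤ) :
    DerSch.IsPseudoCoherentRel f m (DCoh.inD X M) ↔
      ∀ (U : X.Opens) (V : Y.Opens), IsAffineOpen U → IsAffineOpen V → ∀ (h : U ≤ f ⁻¹ᵁ V) (n : ℕ)
        (φ : MvPolynomial (Fin n) Γ(Y, V) →+* Γ(X, U)), DerSch.IsChart f U V h φ →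
          DR39.PC m (Dual.inD (MvPolynomial (Fin n) Γ(Y, V)) (secMod U φ M)) := by
  rw [rel_iff]
  refine ⟨fun H U V hU hV h n φ hφ => (good_inD_iff hU h hφ M).1 (H U V hU hV h), fun H U V hU hV h => ?_⟩
  obtain ⟨n, φ, hφ⟩ := exists_chart_of_ft (f := f) hU hV h
  exact (good_inD_iff hU h hφ M).2 (H U V hU hV h n φ hφ)

theorem isFT_of_local_restrict (M : X.Modules)
    (h : ∀ x : X, ∃ U : X.Opens, x ∈ U ∧ CohB1.IsFT (M.restrict U.ι)) : CohB1.IsFT M := by
  refine isFT_of_local_epi' M fun x => ?_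
  obtain ⟨U, hxU, hU⟩ := h x
  obtain ⟨A, n, π, hxA, hπ⟩ := exists_local_free_epi _ hU ⟨x, hxU⟩
  obtain ⟨e, _, he⟩ := exists_opens_iso (A.ι ≫ U.ι)
  haveI := hπ
  let iso := (Functor.isoWhiskerRight (Scheme.Modules.restrictFunctorComp A.ι U.ι).symm _ ≪≫
    (Scheme.Modules.restrictFunctorComp e (A.ι ≫ U.ι)).symm ≪≫ Scheme.Modules.restrictFunctorCongr he).app M
  exact ⟨(A.ι ≫ U.ι).opensRange, _, (Scheme.Modules.restrictFunctor e).map π ≫ iso.hom, ⟨⟨⟨x, hxU⟩, hxA⟩, rfl⟩,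
    isFinLocFree_restrict (QC70.isFinLocFree_freeMod _ n) e, @epi_comp _ _ _ _ _ _ inferInstance _ inferInstance⟩

/-- Every module is relatively pseudo-coherent in positive degrees. -/
theorem rel_inD_pos [LocallyOfFiniteType f] (M : X.Modules) {m : ℤ} (hm : 0 < m) :
    DerSch.IsPseudoCoherentRel f m (DCoh.inD X M) :=
  rel_of_isLE (haveI : ((singleFunctor X.Modules 0).obj M).IsLE 0 := inferInstance
    TStructure.t.isLE_of_le _ 0 (m - 1) (by omega))

theorem isFT_of_rel (M : X.Modules) (h : DerSch.IsPseudoCoherentRel f 0 (DCoh.inD X M)) : CohB1.IsFT M := by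
  haveI := h.1
  refine isFT_of_local_restrict M fun x => ?_
  obtain ⟨U, V, hxU, hU, hV, hle⟩ := exists_affine_pair f x
  obtain ⟨n, φ, hφ⟩ := exists_chart_of_ft (f := f) hU hV hle
  haveI := isClosedImmersion_imm hU hφ.1
  refine ⟨U, hxU, isFT_of_push (imm U φ) _ ?_⟩
  let N := (Scheme.Modules.pushforward (imm U φ)).obj (M.restrict U.ι)
  have hN : DCoh.IsPseudoCoherentD 0 ((singleFunctor _ 0).obj N) :=
    isPC_of_iso ((pushD (imm U φ)).mapIso (((Scheme.Modules.restrictFunctor U.ι).mapDerivedCategorySingleFunctor 0).app M) ≪≫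
      ((Scheme.Modules.pushforward (imm U φ)).mapDerivedCategorySingleFunctor 0).app (M.restrict U.ι))
      ((good_iff_pc hU hle hφ).1 (good_of_rel h hU hV hle))
  exact isFT_of_iso' (PCoh41.hSingleIso 0 N) (isFT_HD hN fun i hi => PCoh41.isZero_H_single i 0 (by omega) N)

theorem rel_free (W : Scheme.{u}) (g : W ⟶ Y) [LocallyOfFiniteType g] (n : ℕ) :
    DerSch.IsPseudoCoherentRel g 0 (DCoh.inD W (FlatMod.freeMod W n)) := by
  haveI : (FlatMod.freeMod W n).IsQuasicoherent := Props58.Ext.isQuasicoherent_freeMod W n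
  refine (rel_inD_iff _ _).2 fun U V hU hV h k φ hφ => (DR39.pcModule_zero_iff _).2 ?_
  haveI : Module.FinitePresentation Γ(W, U) ((FlatMod.freeMod W n).val.obj (op U) :) :=
    Props58.Ext.finitePresentation_free_sections n U
  exact (RelPC41.finite_restrict_iff φ hφ.1 (ModuleCat.of Γ(W, U) ((FlatMod.freeMod W n).val.obj (op U) :))).2
    inferInstance

theorem rel_of_isFT [LocallyOfFiniteType f] (M : X.Modules) (h : CohB1.IsFT M) :
    DerSch.IsPseudoCoherentRel f 0 (DCoh.inD X M) := by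
  refine rel_of_local fun x => ?_
  obtain ⟨W, n, π, hx, hπ⟩ := exists_local_free_epi M h x
  haveI := hπ
  refine ⟨_, W.ι, inferInstance, ⟨⟨x, hx⟩, rfl⟩,
    rel_congr (((Scheme.Modules.restrictFunctor W.ι).mapDerivedCategorySingleFunctor 0).app M).symm ?_⟩
  let S : ShortComplex (W : Scheme.{u}).Modules := ShortComplex.mk (kernel.ι π) π (kernel.condition π)
  have hS : S.ShortExact := Props58.Ext.shortExact_kernel π
  exact rel₃ _ hS.singleTriangle_distinguished (rel_inD_pos S.X₁ (by omega)) (rel_free _ _ n)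

theorem rel_inD_zero_iff [LocallyOfFiniteType f] (M : X.Modules) :
    DerSch.IsPseudoCoherentRel f 0 (DCoh.inD X M) ↔ CohB1.IsFT M :=
  ⟨isFT_of_rel M, rel_of_isFT M⟩

theorem isQCoh_of_rel (M : X.Modules) (h : DerSch.IsPseudoCoherentRel f (-1) (DCoh.inD X M)) : Coh.IsQCoh M :=
  QC70.isQuasicoherent_of_iso (PCoh41.hSingleIso 0 M) (isQCoh_HD h 0 (by omega))

theorem finitePresentation_secMod_iff {U : X.Opens} {P : Type u} [CommRing P] (φ : P →+* Γ(X, U)) (M : X.Modules) :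
    DR39.PC (-1) (Dual.inD P (secMod U φ M)) ↔
      @Module.FinitePresentation P (M.val.obj (op U) :) _ _
        (@Module.compHom Γ(X, U) P (M.val.obj (op U) :) _ _ _ _ φ) :=
  DR39.pcModule_negOne_iff _

theorem isRelFP_of_rel (M : X.Modules) (h : DerSch.IsPseudoCoherentRel f (-1) (DCoh.inD X M)) :
    Flatn.IsRelFP f M := by
  haveI := h.1
  haveI : M.IsQuasicoherent := isQCoh_of_rel M h
  refine ⟨Set.univ, by simpa using iSup_affineOpens_eq_top Y, fun V _ =>
    ⟨{U | (U : X.Opens) ≤ f ⁻¹ᵁ (V : Y.Opens)}, le_antisymm (iSup₂_le fun U hU => hU) ?_, fun U _ hle => ?_⟩⟩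
  · intro x hx
    obtain ⟨U, hU, hxU, hUV⟩ := exists_isAffineOpen_mem_and_subset (U := f ⁻¹ᵁ (V : Y.Opens)) (x := x) hx
    simp only [Opens.mem_iSup]
    exact ⟨⟨U, hU⟩, hUV, hxU⟩
  · obtain ⟨n, φ, hφ⟩ := exists_chart_of_ft (f := f) U.2 V.2 hle
    letI := (f.appLE (V : Y.Opens) (U : X.Opens) hle).hom.toAlgebra
    let φ' : MvPolynomial (Fin n) Γ(Y, (V : Y.Opens)) →ₐ[Γ(Y, (V : Y.Opens))] Γ(X, (U : X.Opens)) :=
      { φ with commutes' := fun r => RingHom.congr_fun hφ.2 r }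
    exact ⟨n, φ', hφ.1, (finitePresentation_secMod_iff φ M).1
      ((rel_inD_iff M (-1)).1 h U V U.2 V.2 hle n φ hφ)⟩

theorem rel_of_isRelFP [LocallyOfFiniteType f] (M : X.Modules) (hq : Coh.IsQCoh M) (h : Flatn.IsRelFP f M) :
    DerSch.IsPseudoCoherentRel f (-1) (DCoh.inD X M) := by
  haveI : M.IsQuasicoherent := hq
  obtain ⟨𝒱, h𝒱, h⟩ := h
  refine rel_of_good fun x => ?_
  obtain ⟨V, hV, hxV⟩ : ∃ V ∈ 𝒱, f x ∈ (V : Y.Opens) := by
    have : f x ∈ (⊤ : Y.Opens) := trivial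
    rw [← h𝒱] at this
    simpa only [Opens.mem_iSup, exists_prop] using this
  obtain ⟨𝒰, h𝒰, h⟩ := h V hV
  obtain ⟨U, hU, hxU⟩ : ∃ U ∈ 𝒰, x ∈ (U : X.Opens) := by
    have : x ∈ f ⁻¹ᵁ (V : Y.Opens) := hxV
    rw [← h𝒰] at this
    simpa only [Opens.mem_iSup, exists_prop] using this
  have hle : (U : X.Opens) ≤ f ⁻¹ᵁ (V : Y.Opens) := by
    rw [← h𝒰]; exact le_iSup₂ (f := fun (U : X.affineOpens) _ => (U : X.Opens)) U hU
  letI := (f.appLE (V : Y.Opens) (U : X.Opens) hle).hom.toAlgebra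
  obtain ⟨n, φ, hφs, hfp⟩ := h U hU hle
  refine ⟨U, V, hxU, U.2, V.2, (good_inD_iff U.2 hle (φ := φ.toRingHom) ⟨hφs, ?_⟩ M).2
    ((finitePresentation_secMod_iff φ.toRingHom M).2 hfp)⟩
  exact RingHom.ext fun r => φ.commutes r

theorem rel_inD_negOne_iff [LocallyOfFiniteType f] (M : X.Modules) :
    DerSch.IsPseudoCoherentRel f (-1) (DCoh.inD X M) ↔ (Coh.IsQCoh M ∧ Flatn.IsRelFP f M) :=
  ⟨fun h => ⟨isQCoh_of_rel M h, isRelFP_of_rel M h⟩, fun h => rel_of_isRelFP M h.1 h.2⟩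

end Groth.Agent.RelPCSch41
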