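import Groth.Agent.RelPCSch41.RelNoeth
import Groth.Agent.DR39.Balance
import Groth.Agent.TorStalk41.Pull
import Groth.Agent.RelPCSch41.PerfSmooth

/-!
Perfect morphisms are locally of finite tor dimension in the stalkwise sense.
-/

set_option autoImplicit false
set_option maxSynthPendingDepth 3
set_option backward.isDefEq.respectTransparency.types false
set_option linter.style.haveILetI false
set_option linter.unusedSectionVars false

noncomputable section

universe u

open CategoryTheory Limits AlgebraicGeometry MonoidalCategory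
open Groth.Agent.DR39 Groth.Agent.TorStalk41
attribute [local instance] HasDerivedCategory.standard

namespace Groth.Agent.RelPCSch41

variable {X Y : Scheme.{u}}

/-- A bound on the tor dimension on affine opens bounds the tor dimension on the stalks. -/
theorem torAmpAt_unit_of_torDim (f : X ⟶ Y) {U : X.Opens} {V : Y.Opens} (hU : IsAffineOpen U) (hV : IsAffineOpen V)
    (hle : U ≤ f ⁻¹ᵁ V) (n : ℕ)
    (h : letI := (f.appLE V U hle).hom.toAlgebra; DRing.HasTorDimLE Γ(Y, V) n Γ(X, U))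
    (x : X) (hx : x ∈ U) : DerSch.HasTorAmplitudeAt f (-(n : ℤ)) 0 (DerSch.unitCx X) x := by
  let j := (Y.presheaf.germ V (f.base x) (hle hx)).hom
  let ψ := (X.presheaf.germ U x hx).hom
  let φ := (f.appLE V U hle).hom
  have hψ : ψ.Flat := by
    letI : Algebra Γ(X, U) (X.presheaf.stalk x) := ψ.toAlgebra
    have : IsLocalization.AtPrime (X.presheaf.stalk x) (hU.primeIdealOf ⟨x, hx⟩).asIdeal :=
      hU.isLocalization_stalk ⟨x, hx⟩
    exact IsLocalization.flat _ (hU.primeIdealOf ⟨x, hx⟩).asIdeal.primeCompl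
  have hB : TA (-(n : ℤ)) 0 (Dual.inD Γ(Y, V)
      ((ModuleCat.restrictScalars φ).obj (ModuleCat.of Γ(X, U) Γ(X, U)))) := by
    letI := φ.toAlgebra
    exact (hasTorDimLE_iff (A := Γ(Y, V)) Γ(X, U) n).1 h
  letI : Algebra Γ(Y, V) (Y.presheaf.stalk (f.base x)) := j.toAlgebra
  haveI : IsLocalization.AtPrime (Y.presheaf.stalk (f.base x)) (hV.primeIdealOf ⟨f.base x, hle hx⟩).asIdeal :=
    hV.isLocalization_stalk ⟨f.base x, hle hx⟩
  have hj : j.Flat := IsLocalization.flat _ (hV.primeIdealOf ⟨f.base x, hle hx⟩).asIdeal.primeCompl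
  have hcomp : ψ.comp φ = (f.stalkMap x).hom.comp j := by
    refine RingHom.ext fun r => ?_
    refine Eq.trans ?_ (Scheme.Hom.germ_stalkMap_apply f V x (hle hx) r).symm
    exact TopCat.Presheaf.germ_res_apply X.presheaf (homOfLE hle) x hx (f.app V r)
  have hχ := ta_res_comp φ ψ (ψ.comp φ) rfl (𝟙_ (DRing.Cx (X.presheaf.stalk x))) hB (ta_res_unit_of_flat ψ hψ)
  obtain ⟨e⟩ := resCx_comp j (f.stalkMap x).hom (ψ.comp φ) hcomp.symm (𝟙_ (DRing.Cx (X.presheaf.stalk x)))
  have hepi : ∀ (S : Type u) [CommRing S] (α β : Y.presheaf.stalk (f.base x) →+* S),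
      α.comp j = β.comp j → α = β := fun S _ α β hab =>
    IsLocalization.ringHom_ext (hV.primeIdealOf ⟨f.base x, hle hx⟩).asIdeal.primeCompl hab
  refine TA.of_iso (ta_of_res_epi j hj hepi _ (((hχ.mono (by omega) (by simp)).of_iso ((QA _).mapIso e.symm))))
    ((QA _).mapIso ((DRing.restrictCx (f.stalkMap x).hom).mapIso (stalkUnitCxIso x)).symm)

/-- A perfect morphism is locally of finite tor dimension. -/
theorem locFiniteTorDim_of_perfectMor (f : X ⟶ Y) (hf : MoreMor.IsPerfectMor f) : DerSch.LocFiniteTorDim f := by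
  intro x
  obtain ⟨U, V, hxU, hU, hV, hle⟩ := exists_affine_pair f x
  obtain ⟨n, hn⟩ := (hf U V hU hV hle).2
  exact ⟨U, -(n : ℤ), 0, hxU, fun x' hx' => torAmpAt_unit_of_torDim f hU hV hle n hn x' hx'⟩

/-- The direct image along the identity of a complex. -/
def pushIdIso (F : CochainComplex X.Modules ℤ) :
    DCoh.toD X (((Scheme.Modules.pushforward (𝟙 X)).mapHomologicalComplex (ComplexShape.up ℤ)).obj F) ≅ DCoh.toD X F :=
  DerivedCategory.Q.mapIso ((NatIso.mapHomologicalComplex (Scheme.Modules.pushforwardId X) (ComplexShape.up ℤ)).app F ≪≫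
    (Functor.mapHomologicalComplexIdIso _ _).app F)

theorem isPerfect_congr {K L : DCoh.D X} (e : K ≅ L) (h : DCoh.IsPerfect K) : DCoh.IsPerfect L := fun x =>
  let ⟨V, hV, h'⟩ := h x
  ⟨V, hV, fun G ⟨eG⟩ => h' G ⟨eG ≪≫ e.symm⟩⟩

/-- Relative perfectness over the identity is perfectness. -/
theorem perfectRel_id_iff (F : CochainComplex X.Modules ℤ) :
    DerSch.IsPerfectRel (𝟙 X) F ↔ DCoh.IsPerfect (DCoh.toD X F) := by
  have h := perfectRel_push_iff (𝟙 X) (𝟙 X) F
  rw [Category.comp_id] at h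
  exact h.trans ⟨isPerfect_congr (pushIdIso F), isPerfect_congr (pushIdIso F).symm⟩

/-- Tor amplitude at a point relative to a composite. -/
theorem torAmpAt_comp {Z : Scheme.{u}} (f : X ⟶ Y) (g : Y ⟶ Z) (F : CochainComplex X.Modules ℤ) (x : X) {a b p q : ℤ}
    (hg : DerSch.HasTorAmplitudeAt g p q (DerSch.unitCx Y) (f.base x))
    (hF : DerSch.HasTorAmplitudeAt f a b F x) : DerSch.HasTorAmplitudeAt (f ≫ g) (a + p) (b + max q 0) F x := by
  have hB : TA p q (Dual.inD _ ((ModuleCat.restrictScalars (g.stalkMap (f.base x)).hom).obj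
      (ModuleCat.of (Y.presheaf.stalk (f.base x)) (Y.presheaf.stalk (f.base x))))) :=
    TA.of_iso hg ((QA _).mapIso ((HomologicalComplex.singleMapHomologicalComplex (SO g (f.base x)) (ComplexShape.up ℤ) 0).app
      (Coh.structureModule Y) ≪≫
      (HomologicalComplex.single _ (ComplexShape.up ℤ) 0).mapIso
        ((ModuleCat.restrictScalars (g.stalkMap (f.base x)).hom).mapIso (stalkUnitIso (f.base x)))) ≪≫
    ((SingleFunctors.evaluation _ _ 0).mapIso (DerivedCategory.singleFunctorsPostcompQIso _)).symm.app _)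
  exact TA.mono (ta_res_comp (g.stalkMap (f.base x)).hom (f.stalkMap x).hom ((f ≫ g).stalkMap x).hom
    (by rw [Scheme.Hom.stalkMap_comp]; rfl) ((DCK91.SPc x).obj F) hB hF) le_rfl le_rfl

/-- Derived direct images of perfect objects under perfect proper morphisms over locally Noetherian schemes. -/
theorem isPerfect_Rpush_perfectMor [IsLocallyNoetherian Y] (f : X ⟶ Y) [IsProper f] (hf : MoreMor.IsPerfectMor f)
    [DCoh.HasRpush f] {E : DCoh.D X} {c : ℤ} (hc : E.IsGE c) (hE : DCoh.IsPerfect E) :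
    DCoh.IsPerfect ((DCoh.Rpush f).obj E) := by
  haveI : IsLocallyNoetherian X := LocallyOfFiniteType.isLocallyNoetherian f
  let F := DerivedCategory.Q.objPreimage E
  let eF : DCoh.toD X F ≅ E := DCX42.rep E
  haveI := hc
  haveI : (DCoh.toD X F).IsGE c := by
    rw [DerivedCategory.isGE_iff]
    intro i hi
    exact (DerivedCategory.isZero_of_isGE E c i hi).of_iso ((DerivedCategory.homologyFunctor _ i).mapIso eF)
  have hFp : DCoh.IsPerfect (DCoh.toD X F) := isPerfect_congr eF.symm hE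
  have hid := (perfectRel_id_iff F).2 hFp
  have hb : ∀ U : X.Opens, IsCompact (U : Set X) → ∃ b : ℤ, ((DCX42.resD U.ι).obj (DCoh.toD X F)).IsLE b :=
    fun U hU => exists_isLE_compact (hid.1 0) U hU
  have hrel : DerSch.IsPseudoCoherentRelAll f (DCoh.toD X F) := by
    refine relAll_of_cohD f (DCX42.isCohD_of_isPerfect hFp) fun x => ?_
    obtain ⟨W, hW, hxW, -⟩ := exists_isAffineOpen_mem_and_subset (x := x) (U := (⊤ : X.Opens)) trivial
    exact ⟨W, (hb W hW.isCompact).choose, hxW, (hb W hW.isCompact).choose_spec⟩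
  have htor : DerSch.LocFiniteTorAmplitude f F := fun x => by
    obtain ⟨W₁, a, b, hx₁, h₁⟩ := hid.2 x
    obtain ⟨W₂, p, q, hx₂, h₂⟩ := locFiniteTorDim_of_perfectMor f hf x
    refine ⟨W₁ ⊓ W₂, a + p, b + max q 0, ⟨hx₁, hx₂⟩, fun x' hx' => ?_⟩
    have := torAmpAt_comp (𝟙 X) f F x' (h₂ x' hx'.2) (h₁ x' hx'.1)
    rwa [Category.id_comp] at this
  let F' := DerivedCategory.Q.objPreimage ((DCoh.Rpush f).obj (DCoh.toD X F))
  let e' : DCoh.toD Y F' ≅ (DCoh.Rpush f).obj (DCoh.toD X F) := DCX42.rep _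
  have hpc := relAll_Rpush_proper (p := f) (q := 𝟙 Y) f (Category.comp_id f) (E := DCoh.toD X F) (a := c) inferInstance hrel
  have key : DerSch.IsPerfectRel (𝟙 Y) F' :=
    ⟨fun m => rel_congr e'.symm (hpc m),
      locFiniteTorAmp_Rpush (p := f) (c := c) f (Category.comp_id f) F (DCX42.isQCohD_of_isPerfect hFp) hb htor F' e'⟩
  exact isPerfect_congr (e' ≪≫ (DCoh.Rpush f).mapIso eF) ((perfectRel_id_iff F').1 key)

end Groth.Agent.RelPCSch41
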