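import Groth.Agent.RelPCSch41.ClosedSmooth
import Groth.Agent.TorStalk41.Stalk
import Groth.Agent.PerfAmp41.Main
import Groth.Agent.QC70.PushClosed

/-!
Absolute perfect amplitude of a direct image gives relative perfect amplitude.
-/

set_option autoImplicit false
set_option backward.isDefEq.respectTransparency.types false
set_option linter.style.haveILetI false
set_option linter.unusedSectionVars false
set_option maxHeartbeats 400000

noncomputable section

universe u

open CategoryTheory Limits AlgebraicGeometry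
open Groth.Agent.DR39
attribute [local instance] HasDerivedCategory.standard

namespace Groth.Agent.RelPCSch41

variable {X Y S : Scheme.{u}} (i : X ⟶ Y) [IsClosedImmersion i] (g : Y ⟶ S) (x : X)

/-- Stalks over the base of the composite. -/
abbrev SO' : X.Modules ⥤ ModuleCat.{u} (S.presheaf.stalk (g.base (i.base x))) :=
  DerSch.stalkFunctor X x ⋙ ModuleCat.restrictScalars (g.stalkMap (i.base x) ≫ i.stalkMap x).hom

/-- The stalk of a direct image along a closed immersion, over the base, as a linear map. -/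
def stalkPushLin (M : X.Modules) : ((DerSch.stalkOver g (i.base x)).obj ((Scheme.Modules.pushforward i).obj M)) →ₗ[S.presheaf.stalk (g.base (i.base x))]
    ((SO' i g x).obj M) where
  toFun e := QC70.pushStalk i M x e
  map_add' a b := map_add (QC70.pushStalk i M x) a b
  map_smul' r e := QC70.pushStalk_smul i M x ((g.stalkMap (i.base x)) r) e

/-- The stalk of a direct image along a closed immersion, over the base. -/
def stalkPushApp (M : X.Modules) : (DerSch.stalkOver g (i.base x)).obj ((Scheme.Modules.pushforward i).obj M) ≅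
    (SO' i g x).obj M :=
  (LinearEquiv.ofBijective (stalkPushLin i g x M) (QC70.bijective_pushStalk i M x)).toModuleIso

lemma stalkMapAb_eq {Z : Scheme.{u}} {M N : Z.Modules} (φ : M ⟶ N) (z : Z) (e : M.presheaf.stalk z) :
    Algz.stalkMapAb φ z e = QC70.stalkMapM φ z e := rfl

/-- The stalks of a direct image along a closed immersion, naturally. -/
def stalkPushIso : Scheme.Modules.pushforward i ⋙ DerSch.stalkOver g (i.base x) ≅ SO' i g x :=
  NatIso.ofComponents (F := Scheme.Modules.pushforward i ⋙ DerSch.stalkOver g (i.base x)) (G := SO' i g x)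
    (stalkPushApp i g x) fun {M N} φ => by
      refine ModuleCat.hom_ext (LinearMap.ext fun e => ?_)
      show QC70.pushStalk i N x (Algz.stalkMapAb ((Scheme.Modules.pushforward i).map φ) (i.base x) e) =
        Algz.stalkMapAb φ x (QC70.pushStalk i M x e)
      exact QC70.pushStalk_stalkMapM i M φ x e

instance stalkRes_additive {R : CommRingCat.{u}} (φ : R ⟶ X.presheaf.stalk x) :
    (DerSch.stalkFunctor X x ⋙ ModuleCat.restrictScalars φ.hom).Additive :=
  inferInstanceAs (DCK91.SP x ⋙ ModuleCat.restrictScalars φ.hom).Additive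

lemma torAmp_stalkRes_congr {R : CommRingCat.{u}} {φ ψ : R ⟶ X.presheaf.stalk x} (h : φ = ψ) {a b : ℤ}
    (F : CochainComplex X.Modules ℤ)
    (hF : DRing.HasTorAmplitudeIn R a b (DRing.toD
      (((DerSch.stalkFunctor X x ⋙ ModuleCat.restrictScalars φ.hom).mapHomologicalComplex (ComplexShape.up ℤ)).obj F))) :
    DRing.HasTorAmplitudeIn R a b (DRing.toD
      (((DerSch.stalkFunctor X x ⋙ ModuleCat.restrictScalars ψ.hom).mapHomologicalComplex (ComplexShape.up ℤ)).obj F)) := by
  subst h
  exact hF

theorem hasTorAmplitude_of_push (F : CochainComplex X.Modules ℤ) {a b : ℤ}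
    (h : DerSch.HasTorAmplitude g a b (((Scheme.Modules.pushforward i).mapHomologicalComplex (ComplexShape.up ℤ)).obj F)) :
    DerSch.HasTorAmplitude (i ≫ g) a b F := fun x =>
  haveI : (DerSch.stalkOver g (i.base x)).Additive := inferInstanceAs (TorStalk41.SO g (i.base x)).Additive
  torAmp_stalkRes_congr x (Scheme.Hom.stalkMap_comp i g x).symm F (TA.of_iso (h (i.base x)) ((QA _).mapIso
    ((Functor.mapHomologicalComplexCompIso (stalkPushIso i g x) (ComplexShape.up ℤ)).app F)))

theorem flatAmp_of_perfAmp' {a b : ℤ} {K : DCoh.D X} (h : KSix.HasPerfectAmplitudeIn a b K) :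
    DCoh.HasFlatAmplitudeIn a b K := by
  by_cases hab : a ≤ b
  · exact PerfAmp41.flatAmp_of_perfAmp hab h
  have hz : ∀ j, IsZero (DCoh.HD K j) := fun j => DCX42.isZero_of_local _ fun x => by
    obtain ⟨V, hx, hV⟩ := h x
    obtain ⟨E, hE, -, ⟨e⟩⟩ := hV (DerivedCategory.Q.objPreimage K) ⟨DCX42.rep K⟩
    refine ⟨V, hx, ?_⟩
    refine IsZero.of_iso ?_ ((Mod48.nonempty_homology_mapDerivedCategory (Scheme.Modules.restrictFunctor V.ι) K j).some.symm ≪≫
      (DerivedCategory.homologyFunctor _ j).mapIso ((DCX42.resD V.ι).mapIso (DCX42.rep K).symm ≪≫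
        DCX42.resQ V.ι _ ≪≫ e) ≪≫ (DerivedCategory.homologyFunctorFactors _ j).app E)
    exact (HomologicalComplex.exactAt_iff_isZero_homology _ _).1
      (HomologicalComplex.ExactAt.of_isZero (hE j (by omega)))
  obtain ⟨Z, hZ⟩ : ∃ Z : CochainComplex X.Modules ℤ, IsZero Z := ⟨_, Limits.isZero_zero _⟩
  refine ⟨Z, fun j _ => (HomologicalComplex.eval X.Modules (ComplexShape.up ℤ) j).map_isZero hZ, fun j => ?_, ⟨?_⟩⟩
  · exact Groth.Agent.DCK91.flatMod_of_isFlat _ (Mod48.isFlat_of_isZero (O := X.sheaf)
      ((HomologicalComplex.eval X.Modules (ComplexShape.up ℤ) j).map_isZero hZ))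
  · have h0 : IsZero K := by
      haveI : K.IsLE (b : ℤ) := (DerivedCategory.isLE_iff _ _).2 fun j _ => hz j
      haveI : K.IsGE (b + 1) := (DerivedCategory.isGE_iff _ _).2 fun j _ => hz j
      exact DerivedCategory.TStructure.t.isZero K b (b + 1) (by omega)
    exact (DerivedCategory.Q.map_isZero hZ).iso h0

theorem perfAmpRel_of_push [Smooth g] {a b : ℤ} (F : CochainComplex X.Modules ℤ)
    (hF : KSix.HasPerfectAmplitudeIn a b
      (DCoh.toD Y (((Scheme.Modules.pushforward i).mapHomologicalComplex (ComplexShape.up ℤ)).obj F))) :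
    DerSch.HasPerfAmplitudeRel (i ≫ g) a b F := by
  refine ⟨fun m => (rel_closed_smooth_iff i g).2 (DCX42.isPC_of_iso (pushQ i F).symm (PerfAmp41.isPC_of_perfAmp hF m)), ?_⟩
  exact hasTorAmplitude_of_push i g F
    (TorStalk41.hasTorAmplitude_of_flatAmp g (fun y => Flat.stalkMap g y) (flatAmp_of_perfAmp' hF))

end Groth.Agent.RelPCSch41
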