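import Groth.Agent.DCK91.LpullTensor
import Groth.Agent.GSS45.ClosedRight
import Groth.Agent.Mod48.KFlatSymm

/-!
The projection formula for a closed immersion, on total complexes.
-/

set_option autoImplicit false
set_option backward.isDefEq.respectTransparency false
set_option linter.style.haveILetI false
set_option linter.unusedSectionVars false
set_option maxHeartbeats 400000

noncomputable section

universe u

open CategoryTheory Limits AlgebraicGeometry

namespace Groth.Agent.RelPCSch41

variable {U Z : Scheme.{u}} (i : U ⟶ Z) [IsClosedImmersion i]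

local notation "p" => Scheme.Modules.pushforward i
local notation "q" => Scheme.Modules.pullback i

section Gen

variable {C D : Type*} [Category C] [Category D] {L : D ⥤ C} {R : C ⥤ D} (adj : L ⊣ R)
  (TD : D ⥤ D ⥤ D) (TC : C ⥤ C ⥤ C)
  (pt : ∀ M N, (TC.obj (L.obj M)).obj (L.obj N) ≅ L.obj ((TD.obj M).obj N))
  (hl : ∀ {M M' : D} (g : M ⟶ M') (N : D),
    (TC.map (L.map g)).app (L.obj N) ≫ (pt M' N).hom = (pt M N).hom ≫ L.map ((TD.map g).app N))
  (hr : ∀ (M : D) {N N' : D} (g : N ⟶ N'),
    (TC.obj (L.obj M)).map (L.map g) ≫ (pt M N').hom = (pt M N).hom ≫ L.map ((TD.obj M).map g))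
  (c : R ⋙ L ≅ 𝟭 C)

/-- The projection map of an adjunction with fully faithful right adjoint. -/
def projGen (E : C) (A : D) : (TD.obj (R.obj E)).obj A ⟶ R.obj ((TC.obj E).obj (L.obj A)) :=
  adj.unit.app _ ≫ R.map ((pt (R.obj E) A).inv ≫ (TC.map (c.hom.app E)).app (L.obj A))

theorem isIso_projGen (E : C) (A : D) (h : IsIso (adj.unit.app ((TD.obj (R.obj E)).obj A))) :
    IsIso (projGen adj TD TC pt c E A) := by
  delta projGen
  infer_instance

include hl in
theorem projGen_left {E E' : C} (f : E ⟶ E') (A : D) :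
    (TD.map (R.map f)).app A ≫ projGen adj TD TC pt c E' A =
      projGen adj TD TC pt c E A ≫ R.map ((TC.map f).app (L.obj A)) := by
  have hη := adj.unit.naturality ((TD.map (R.map f)).app A)
  simp only [Functor.id_obj, Functor.id_map, Functor.comp_obj, Functor.comp_map] at hη
  simp only [projGen, Category.assoc]
  rw [reassoc_of% hη]
  congr 1
  rw [← Functor.map_comp, ← Functor.map_comp]
  congr 1
  have h1 : L.map ((TD.map (R.map f)).app A) ≫ (pt (R.obj E') A).inv =
      (pt (R.obj E) A).inv ≫ (TC.map (L.map (R.map f))).app (L.obj A) := by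
    rw [Iso.comp_inv_eq, Category.assoc, hl, Iso.inv_hom_id_assoc]
  rw [reassoc_of% h1, Category.assoc]
  congr 1
  rw [← NatTrans.comp_app, ← NatTrans.comp_app, ← Functor.map_comp, ← Functor.map_comp]
  exact congrArg (fun t => (TC.map t).app _) (c.hom.naturality f)

include hr in
theorem projGen_right (E : C) {A A' : D} (g : A ⟶ A') :
    (TD.obj (R.obj E)).map g ≫ projGen adj TD TC pt c E A' =
      projGen adj TD TC pt c E A ≫ R.map ((TC.obj E).map (L.map g)) := by
  have hη := adj.unit.naturality ((TD.obj (R.obj E)).map g)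
  simp only [Functor.id_obj, Functor.id_map, Functor.comp_obj, Functor.comp_map] at hη
  simp only [projGen, Category.assoc]
  rw [reassoc_of% hη]
  congr 1
  rw [← Functor.map_comp, ← Functor.map_comp]
  congr 1
  have h1 : L.map ((TD.obj (R.obj E)).map g) ≫ (pt (R.obj E) A').inv =
      (pt (R.obj E) A).inv ≫ (TC.obj (L.obj (R.obj E))).map (L.map g) := by
    rw [Iso.comp_inv_eq, Category.assoc, hr, Iso.inv_hom_id_assoc]
  rw [reassoc_of% h1, Category.assoc]
  congr 1
  exact (TC.map (c.hom.app E)).naturality (L.map g)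

end Gen

theorem isIso_unit_tens (E : U.Modules) (A : Z.Modules) :
    IsIso ((Scheme.Modules.pullbackPushforwardAdjunction i).unit.app
      (((DCoh.tensorBi (X := Z)).obj ((p).obj E)).obj A)) := by
  haveI := GSS45.ClosedHom.full_pushforward i
  haveI := QC70.faithful_pushforward i
  have hk := GSS45.ClosedHom.isKilled_tens i E A
  let s : ((DCoh.tensorBi (X := Z)).obj ((p).obj E)).obj A ≅ (Mod48.tR (O := Z.sheaf) ((p).obj E)).obj A :=
    (Mod48.tensSymm (O := Z.sheaf) ((p).obj E)).app A
  exact (Scheme.Modules.pullbackPushforwardAdjunction i).isIso_unit_app_of_iso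
    (s ≪≫ (GSS45.Descend.descIso hk).symm)

/-- The projection map. -/
def projHom (E : U.Modules) (A : Z.Modules) :
    ((DCoh.tensorBi (X := Z)).obj ((p).obj E)).obj A ⟶
      (p).obj (((DCoh.tensorBi (X := U)).obj E).obj ((q).obj A)) :=
  projGen (Scheme.Modules.pullbackPushforwardAdjunction i) (DCoh.tensorBi (X := Z)) (DCoh.tensorBi (X := U))
    (DCK91.pullTensBi i) (GSS45.ClosedHom.counitIso i) E A

instance (E : U.Modules) (A : Z.Modules) : IsIso (projHom i E A) :=
  isIso_projGen _ _ _ _ _ E A (isIso_unit_tens i E A)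

theorem projHom_left {E E' : U.Modules} (f : E ⟶ E') (A : Z.Modules) :
    ((DCoh.tensorBi (X := Z)).map ((p).map f)).app A ≫ projHom i E' A =
      projHom i E A ≫ (p).map (((DCoh.tensorBi (X := U)).map f).app ((q).obj A)) :=
  projGen_left _ _ _ _ (fun g N => DCK91.pullTens_left i g N) _ f A

theorem projHom_right (E : U.Modules) {A A' : Z.Modules} (g : A ⟶ A') :
    ((DCoh.tensorBi (X := Z)).obj ((p).obj E)).map g ≫ projHom i E A' =
      projHom i E A ≫ (p).map (((DCoh.tensorBi (X := U)).obj E).map ((q).map g)) :=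
  projGen_right _ _ _ _ (fun M _ _ g => DCK91.pullTens_right i M g) _ E g

/-- The projection formula for total complexes. -/
theorem nonempty_pushTotIso (E : CochainComplex U.Modules ℤ) (M : CochainComplex Z.Modules ℤ) :
    Nonempty ((DCoh.tensorCx.obj (((p).mapHomologicalComplex (ComplexShape.up ℤ)).obj E)).obj M ≅
      ((p).mapHomologicalComplex (ComplexShape.up ℤ)).obj
        ((DCoh.tensorCx.obj E).obj (((q).mapHomologicalComplex (ComplexShape.up ℤ)).obj M))) := by
  have := (GSS45.ClosedRight.rightAdj i).leftAdjoint_preservesColimits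
  have : PreservesColimitsOfSize.{u, u} (p) := this
  have : PreservesColimitsOfSize.{0, 0} (p) := preservesColimitsOfSize_shrink.{0, u, 0, u} _
  haveI : (q).Additive := inferInstance
  haveI : ∀ X : U.Modules, ((DCoh.tensorBi (X := U) ⋙
      (Functor.whiskeringLeft Z.Modules U.Modules U.Modules).obj (q)).obj X).PreservesZeroMorphisms := fun X =>
    inferInstanceAs ((q) ⋙ (DCoh.tensorBi (X := U)).obj X).PreservesZeroMorphisms
  haveI : (DCoh.tensorBi (X := U) ⋙
      (Functor.whiskeringLeft Z.Modules U.Modules U.Modules).obj (q)).PreservesZeroMorphisms :=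
    ⟨fun A B => NatTrans.ext (funext fun M =>
      congrArg (fun t => NatTrans.app t ((q).obj M)) ((DCoh.tensorBi (X := U)).map_zero A B))⟩
  exact Mod48.nonempty_mapTotIso ((DCoh.tensorBi (X := U)) ⋙ (Functor.whiskeringLeft _ _ _).obj (q))
    (DCoh.tensorBi (X := Z)) (p) (𝟭 Z.Modules) (p)
    (fun E A => asIso (projHom i E A)) (fun f A => projHom_left i f A) (fun E _ _ g => projHom_right i E g) E M

end Groth.Agent.RelPCSch41
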