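import Groth.Agent.Fam20.TorSmooth
import Groth.Agent.RelPCSch41.PerfPush
import Groth.Agent.DR39.RelPerfect
import Groth.Agent.DR39.Fibre2
import Groth.Agent.QExact41.MonoFlat

/-!
Tor amplitude over the base against flat amplitude on a smooth scheme over it.
-/

set_option autoImplicit false
set_option backward.isDefEq.respectTransparency.types false
set_option linter.style.haveILetI false
set_option linter.unusedSectionVars false
set_option maxHeartbeats 1000000

noncomputable section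

universe u

open CategoryTheory Limits AlgebraicGeometry
open Groth.Agent.DR39
attribute [local instance] HasDerivedCategory.standard

namespace Groth.Agent.RelPCSch41

/-- Restriction of scalars along a flat map keeps the tor amplitude. -/
theorem ta_resCx_of_flat {A B : Type u} [CommRing A] [CommRing B] (φ : A →+* B) (hφ : φ.Flat) {a b : ℤ}
    {E : DRing.Cx B} (h : TA a b ((QA B).obj E)) : TA a b ((QA A).obj (resCx φ E)) := by
  letI : Algebra A B := φ.toAlgebra
  haveI : Module.Flat A B := hφ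
  exact ((DR39.ta_restrict φ (ta_self_of_flat (R := A) (A := B)) h).of_iso (restrictDIso φ E)).mono
    (by omega) (by omega)

/-- Tor amplitude over the base ring passes to a weakly etale algebra over a polynomial ring, losing the number of
variables. -/
theorem ta_smooth_core {R₀ R A : Type u} [CommRing R₀] [CommRing R] [CommRing A] (φ : R₀ →+* R) (hφ : φ.Flat)
    (ψ : R →+* A) {n : ℕ} [Algebra (MvPolynomial (Fin n) R₀) A] [Algebra.WeaklyEtale (MvPolynomial (Fin n) R₀) A]
    (hχ : ψ.comp φ = (algebraMap (MvPolynomial (Fin n) R₀) A).comp MvPolynomial.C)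
    (E : DRing.Cx A) {a b : ℤ} (h : TA a b ((QA R).obj (resCx ψ E))) :
    TA (a - n) b ((QA A).obj E) := by
  letI : Algebra R₀ A := (ψ.comp φ).toAlgebra
  haveI : IsScalarTower R₀ (MvPolynomial (Fin n) R₀) A := IsScalarTower.of_algebraMap_eq' (by
    rw [MvPolynomial.algebraMap_eq]; exact hχ)
  haveI : Module.Flat R₀ A := Module.Flat.trans R₀ (MvPolynomial (Fin n) R₀) A
  obtain ⟨ec⟩ := resCx_comp φ ψ (algebraMap R₀ A) rfl E
  have h0 : TA a b ((QA R₀).obj (resCx (algebraMap R₀ A) E)) :=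
    (ta_resCx_of_flat φ hφ h).of_iso ((QA R₀).mapIso ec)
  have hz : ∀ i, (i < a ∨ b < i) → IsZero ((HF A i).obj ((QA A).obj E)) := fun i hi => by
    refine (isZero_HF_Q_iff E i).2 ((isZero_res_homology_iff (algebraMap R₀ A) E i).1 ((isZero_HF_Q_iff _ i).1 ?_))
    rcases hi with hi | hi
    · exact h0.isZero_low i hi
    · exact h0.acyc i (by omega)
  by_cases hab : a ≤ b
  swap
  · exact ta_of_isZero _ _ (isZero_of_forall fun i => hz i (by omega))
  obtain ⟨F, hFv, hF, ⟨f⟩⟩ := rep_free_of_acyc (A := A) (b := b) (X := (QA A).obj E) fun i hi => hz i (Or.inr (by omega))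
  have hFv' : DRing.VanishesAbove F b := (vanishesAbove_iff F b).2 hFv
  have hFf : ∀ i, Module.Flat A (F.X i) := fun i => flat_of_FR (hF i)
  let G := resCx (algebraMap R₀ A) F
  have hGf : ∀ i, Module.Flat R₀ (G.X i) := fun i => flat_restrictCx F i (hFf i)
  have hGk : DRing.IsKFlat R₀ G := isKFlat_of_flat b
    (fun i hi => (ModuleCat.restrictScalars _).map_isZero (hFv' i hi)) hGf
  let eG : (QA R₀).obj G ≅ (QA R₀).obj (resCx (algebraMap R₀ A) E) :=
    (restrictDIso (algebraMap R₀ A) F).symm ≪≫ (DRing.restrictD (algebraMap R₀ A)).mapIso f ≪≫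
      restrictDIso (algebraMap R₀ A) E
  have hlow : LowEx G a := h0.lowEx hGk eG
  haveI := hGf a
  have h1 := flat_coker G a fun M => exT_of_lowEx hlow M (by omega)
  let Q : ModuleCat.{u} A := ModuleCat.of A ((F.X a) ⧸ LinearMap.range (F.d (a - 1) a).hom)
  let RS := ModuleCat.restrictScalars.{u} (algebraMap R₀ A)
  let e1 : RS.obj Q ≅ ModuleCat.of R₀ ((G.X a) ⧸ LinearMap.range (G.d (a - 1) a).hom) :=
    RS.mapIso (IsColimit.coconePointUniqueUpToIso (ModuleCat.cokernelIsColimit (F.d (a - 1) a)) (cokernelIsCokernel _)) ≪≫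
      PreservesCokernel.iso RS _ ≪≫
        IsColimit.coconePointUniqueUpToIso (cokernelIsCokernel _) (ModuleCat.cokernelIsColimit (G.d (a - 1) a))
  haveI : Module.Flat R₀ (RS.obj Q) := Module.Flat.of_linearEquiv e1.toLinearEquiv
  have h2 : TA (-(n : ℤ)) 0 (Dual.inD A Q) := by
    letI : Module R₀ Q := Module.compHom Q (algebraMap R₀ A)
    letI : Module (MvPolynomial (Fin n) R₀) Q := Module.compHom Q (algebraMap (MvPolynomial (Fin n) R₀) A)
    haveI : IsScalarTower (MvPolynomial (Fin n) R₀) A Q := IsScalarTower.of_algebraMap_smul fun _ _ => rfl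
    haveI : IsScalarTower R₀ (MvPolynomial (Fin n) R₀) Q := IsScalarTower.of_algebraMap_smul fun r m => by
      show algebraMap (MvPolynomial (Fin n) R₀) A (algebraMap R₀ _ r) • m = algebraMap R₀ A r • m
      rw [← IsScalarTower.algebraMap_apply]
    haveI : Module.Flat R₀ Q := ‹Module.Flat R₀ (RS.obj Q)›
    exact GIT36.TorDim.ta_of_weaklyEtale (A := MvPolynomial (Fin n) R₀) (B := A) (d := n)
      ((LCI19.ta_mvPolynomial n (A := R₀) Q (d := 0) (by simpa using ta_inD_of_flat (A := R₀) Q)).mono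
        (by simp) le_rfl)
  haveI hge : F.IsGE a := (CochainComplex.isGE_iff _ _).2 fun i hi =>
    (HomologicalComplex.exactAt_iff_isZero_homology _ _).2
      ((isZero_HF_Q_iff F i).1 ((hz i (Or.inl hi)).of_iso ((HF A i).mapIso f)))
  refine TA.of_iso (ta_of_terms (F.truncGE a) a b (vanishesOutside_truncGE F a b hFv') fun i => ?_)
    ((asIso ((QA A).map (F.πTruncGE a))).symm ≪≫ f)
  rcases lt_trichotomy i a with hlt | heq | hgt
  · exact ta_of_isZero _ _ (Functor.map_isZero _ ((F.truncGE a).isZero_of_isStrictlyGE a i hlt))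
  · subst heq
    exact (h2.mono (by omega) (by omega)).of_iso
      (inDIso (F.truncGEXIsoOpcycles i ≪≫ opcyclesQuotIso F i).symm.toLinearEquiv)
  · by_cases hib : i ≤ b
    · haveI := hFf i
      exact ((ta_inD_of_flat (A := A) (F.X i)).mono (by omega) (by omega)).of_iso
        (inDIso (F.truncGEXIso a i hgt).symm.toLinearEquiv)
    · exact ta_of_isZero _ _ (Functor.map_isZero _ (vanishesOutside_truncGE F a b hFv' i (Or.inr (by omega))))

/-- Near a point with standard smooth chart, tor amplitude over the base gives tor amplitude on the stalk. -/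
theorem ta_stalk_of_smooth {Y S : Scheme.{u}} (g : Y ⟶ S) (y : Y) (n : ℕ) (V : Y.Opens) (hyV : y ∈ V)
    [SmoothOfRelativeDimension n (V.ι ≫ g)] (E : DRing.Cx (Y.presheaf.stalk y)) {a b : ℤ}
    (h : TA a b ((QA (S.presheaf.stalk (g.base y))).obj (resCx (g.stalkMap y).hom E))) :
    TA (a - n) b ((QA (Y.presheaf.stalk y)).obj E) := by
  obtain ⟨U, hU, W, hW, hyW, e, hstd⟩ :=
    SmoothOfRelativeDimension.exists_isStandardSmoothOfRelativeDimension (n := n) (f := V.ι ≫ g) ⟨y, hyV⟩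
  have e' : V.ι ''ᵁ W ≤ g ⁻¹ᵁ U := by
    rintro z ⟨w, hw, rfl⟩
    exact e hw
  have hT : IsAffineOpen (V.ι ''ᵁ W) := hW.image_of_isOpenImmersion V.ι
  have hyT : y ∈ V.ι ''ᵁ W := ⟨⟨y, hyV⟩, hyW, rfl⟩
  have happ : (V.ι ≫ g).appLE U W e = g.appLE U (V.ι ''ᵁ W) e' := by
    rw [Scheme.Hom.comp_appLE, Scheme.Opens.ι_appLE]
    rfl
  rw [happ] at hstd
  obtain ⟨p, hpC, hp⟩ := hstd.exists_etale_mvPolynomial
  have hsU : g.base y ∈ U := e' hyT
  let A := Y.presheaf.stalk y
  let P := MvPolynomial (Fin n) Γ(S, U)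
  letI : Algebra P Γ(Y, V.ι ''ᵁ W) := p.toAlgebra
  letI : Algebra Γ(Y, V.ι ''ᵁ W) A := (Y.presheaf.germ (V.ι ''ᵁ W) y hyT).hom.toAlgebra
  letI : Algebra P A := ((algebraMap Γ(Y, V.ι ''ᵁ W) A).comp p).toAlgebra
  have : IsScalarTower P Γ(Y, V.ι ''ᵁ W) A := IsScalarTower.of_algebraMap_eq fun _ => rfl
  have : Algebra.Etale P Γ(Y, V.ι ''ᵁ W) := RingHom.etale_algebraMap.mp hp
  have : IsLocalization.AtPrime A (hT.primeIdealOf ⟨y, hyT⟩).asIdeal := hT.isLocalization_stalk ⟨y, hyT⟩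
  have : Algebra.WeaklyEtale Γ(Y, V.ι ''ᵁ W) A :=
    WE91.weaklyEtale_of_isLocalization _ A (hT.primeIdealOf ⟨y, hyT⟩).asIdeal.primeCompl
  have : Algebra.WeaklyEtale P A := Algebra.WeaklyEtale.trans P Γ(Y, V.ι ''ᵁ W) A
  refine ta_smooth_core (S.presheaf.germ U (g.base y) hsU).hom ?_ (g.stalkMap y).hom ?_ E h
  · letI : Algebra Γ(S, U) (S.presheaf.stalk (g.base y)) := (S.presheaf.germ U (g.base y) hsU).hom.toAlgebra
    have : IsLocalization.AtPrime (S.presheaf.stalk (g.base y)) (hU.primeIdealOf ⟨g.base y, hsU⟩).asIdeal :=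
      hU.isLocalization_stalk ⟨g.base y, hsU⟩
    exact IsLocalization.flat _ (hU.primeIdealOf ⟨g.base y, hsU⟩).asIdeal.primeCompl
  · refine RingHom.ext fun r => ?_
    show (g.stalkMap y).hom (S.presheaf.germ U _ hsU r) = Y.presheaf.germ (V.ι ''ᵁ W) y hyT (p (MvPolynomial.C r))
    rw [← RingHom.comp_apply p MvPolynomial.C, hpC]
    refine (Scheme.Hom.germ_stalkMap_apply g U y hsU r).trans ?_
    exact (TopCat.Presheaf.germ_res_apply _ _ _ hyT _).symm

/-- Tor amplitude at a point of an open subscheme is tor amplitude at its image. -/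
theorem torAmpAt_restrict_iff {U Y S : Scheme.{u}} (j : U ⟶ Y) [IsOpenImmersion j] (g : Y ⟶ S)
    (G : CochainComplex Y.Modules ℤ) {a b : ℤ} (u : U) :
    DerSch.HasTorAmplitudeAt (j ≫ g) a b
      (((Scheme.Modules.restrictFunctor j).mapHomologicalComplex (ComplexShape.up ℤ)).obj G) u ↔
      DerSch.HasTorAmplitudeAt g a b G (j.base u) := by
  let σ := (QExact41.sigma j u).toRingHom
  let G' := ((Scheme.Modules.restrictFunctor j).mapHomologicalComplex (ComplexShape.up ℤ)).obj G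
  haveI : (Scheme.Modules.restrictFunctor j ⋙ DCK91.SP u ⋙ ModuleCat.restrictScalars.{u} σ).Additive :=
    inferInstanceAs (Scheme.Modules.restrictFunctor j ⋙ (DCK91.SP u ⋙ ModuleCat.restrictScalars.{u} σ)).Additive
  let e1 : (DCK91.SPc (j.base u)).obj G ≅ resCx σ ((DCK91.SPc u).obj G') :=
    (NatIso.mapHomologicalComplex (QExact41.stalkRestrictIso j u) (ComplexShape.up ℤ)).app G
  have hχ : σ.comp (g.stalkMap (j.base u)).hom = ((j ≫ g).stalkMap u).hom := by
    rw [Scheme.Hom.stalkMap_comp]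
    rfl
  obtain ⟨e2⟩ := resCx_comp (g.stalkMap (j.base u)).hom σ ((j ≫ g).stalkMap u).hom hχ ((DCK91.SPc u).obj G')
  let e : (QA (S.presheaf.stalk (g.base (j.base u)))).obj (resCx (g.stalkMap (j.base u)).hom ((DCK91.SPc (j.base u)).obj G)) ≅
      (QA (S.presheaf.stalk (g.base (j.base u)))).obj (resCx ((j ≫ g).stalkMap u).hom ((DCK91.SPc u).obj G')) :=
    (QA _).mapIso ((DRing.restrictCx (g.stalkMap (j.base u)).hom).mapIso e1 ≪≫ e2)
  exact ⟨fun h => TA.of_iso (X := (QA (S.presheaf.stalk (g.base (j.base u)))).obj (resCx ((j ≫ g).stalkMap u).hom ((DCK91.SPc u).obj G'))) h e.symm,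
    fun h => TA.of_iso h e⟩

/-- Tor amplitude on the local rings of a smooth scheme from tor amplitude over the base. -/
theorem torAmpAt_id_of_smooth {Y S : Scheme.{u}} (g : Y ⟶ S) (y : Y) (n : ℕ) (V : Y.Opens) (hyV : y ∈ V)
    [SmoothOfRelativeDimension n (V.ι ≫ g)] (G : CochainComplex Y.Modules ℤ) {a b : ℤ}
    (h : DerSch.HasTorAmplitudeAt g a b G y) : DerSch.HasTorAmplitudeAt (𝟙 Y) (a - n) b G y :=
  ta_resCx_of_flat _ (Flat.stalkMap (𝟙 Y) y) (ta_stalk_of_smooth g y n V hyV ((DCK91.SPc y).obj G) h)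

/-- Tor amplitude over the base gives flat amplitude on a smooth scheme over it. -/
theorem flatAmp_of_smooth {Y S : Scheme.{u}} (g : Y ⟶ S) {a b : ℤ} (G : CochainComplex Y.Modules ℤ) (d : ℕ)
    (hd : ∀ y : Y, ∃ (n : ℕ) (V : Y.Opens), n ≤ d ∧ y ∈ V ∧ SmoothOfRelativeDimension n (V.ι ≫ g))
    (h : DerSch.HasTorAmplitude g a b G) : DCoh.HasFlatAmplitudeIn (a - d) b (DCoh.toD Y G) :=
  TorStalk41.flatAmp_of_hasTorAmplitude_id fun y => by
    obtain ⟨n, V, hn, hy, _⟩ := hd y
    exact TorStalk41.hasTorAmplitudeAt_mono (𝟙 Y) y (by omega) le_rfl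
      (torAmpAt_id_of_smooth g y n V hy G (h y))

lemma appLE_relDim_congr {Y S : Scheme.{u}} (g : Y ⟶ S) {U : S.Opens} {W W' : Y.Opens} (h : W = W')
    (e : W ≤ g ⁻¹ᵁ U) (e' : W' ≤ g ⁻¹ᵁ U) {n : ℕ} (hn : (g.appLE U W e).hom.IsStandardSmoothOfRelativeDimension n) :
    (g.appLE U W' e').hom.IsStandardSmoothOfRelativeDimension n := by
  subst h
  exact hn

/-- Around every point a smooth morphism is smooth of some relative dimension. -/
theorem exists_relDim {Y S : Scheme.{u}} (g : Y ⟶ S) [Smooth g] (y : Y) :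
    ∃ (n : ℕ) (V : Y.Opens), y ∈ V ∧ SmoothOfRelativeDimension n (V.ι ≫ g) := by
  obtain ⟨U, hU, W, hW, hyW, e, hstd⟩ := Smooth.exists_isStandardSmooth g y
  obtain ⟨n, hn⟩ : ∃ n, (g.appLE U W e).hom.IsStandardSmoothOfRelativeDimension n := by
    letI := (g.appLE U W e).hom.toAlgebra
    obtain ⟨_, _, _, _, ⟨P⟩⟩ := hstd
    exact ⟨_, ⟨_, _, _, ‹_›, P, rfl⟩⟩
  refine ⟨n, W, hyW, ⟨fun w => ⟨U, hU, ⊤, ?_, trivial, fun z _ => e z.2, ?_⟩⟩⟩
  · haveI : IsAffine W := hW
    exact isAffineOpen_top _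
  · have happ : (W.ι ≫ g).appLE U ⊤ (fun z _ => e z.2) = g.appLE U (W.ι ''ᵁ ⊤) (by simpa using e) := by
      rw [Scheme.Hom.comp_appLE, Scheme.Opens.ι_appLE]
      rfl
    rw [happ]
    have hT : W.ι ''ᵁ ⊤ = W := W.ι_image_top
    exact appLE_relDim_congr g hT.symm _ _ hn

end Groth.Agent.RelPCSch41
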