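import Groth.Agent.RelPCSch41.Dev
import Groth.Agent.RelPCSch41.PerfComp
import Groth.Agent.RelPCSch41.SmoothTA
import Groth.Agent.PropPush72.Basic
import Groth.Agent.DerComp18.CohPC
import Groth.Agent.HTor49.CohPC
import Groth.Agent.An92.RHomSerre.ClosedImm
import Groth.Agent.QCohPush72.Bound
import Groth.Agent.S6198
import Groth.Agent.S6192
import Groth.Agent.PerfFib24.LocusFree
import Groth.Agent.Amp73.CounitIff

/-!
Relative pseudo-coherence over locally Noetherian bases and derived direct images under proper morphisms.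
-/

set_option autoImplicit false
set_option maxSynthPendingDepth 3
set_option backward.isDefEq.respectTransparency.types false
set_option linter.style.haveILetI false
set_option linter.unusedSectionVars false
set_option maxHeartbeats 800000

noncomputable section

universe u

open CategoryTheory Limits AlgebraicGeometry
open Groth.Agent.DCX42
attribute [local instance] HasDerivedCategory.standard

namespace Groth.Agent.RelPCSch41

variable {X Y S : Scheme.{u}}

/-- Relatively pseudo-coherent objects over a locally Noetherian base have coherent cohomology. -/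
theorem cohD_of_relAll [IsLocallyNoetherian Y] (f : X ⟶ Y) [LocallyOfFiniteType f] {K : DCoh.D X}
    (hK : DerSch.IsPseudoCoherentRelAll f K) : DCoh.IsCohD K := fun i => by
  haveI : IsLocallyNoetherian X := LocallyOfFiniteType.isLocallyNoetherian f
  refine DerComp18.isCoh_of_forall_mem _ fun x => ?_
  obtain ⟨U, V, hxU, hU, hV, hle⟩ := exists_affine_pair f x
  obtain ⟨n, φ, hφ⟩ := exists_chart_of_ft (f := f) hU hV hle
  let s := imm U φ
  haveI : IsClosedImmersion s := isClosedImmersion_imm hU hφ.1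
  haveI : IsNoetherianRing Γ(Y, V) := IsLocallyNoetherian.component_noetherian ⟨V, hV⟩
  haveI : IsLocallyNoetherian (Spec (CommRingCat.of (MvPolynomial (Fin n) Γ(Y, V)))) := inferInstance
  have h := DerComp18.isCohD_of_pseudoCoherent ((pushD s).obj ((resD U.ι).obj K))
    (fun m => (good_iff_pc hU hle hφ).1 (good_of_rel (hK m) hU hV hle)) i
  refine ⟨U, hxU, QC70.isCoh_of_iso (PerfFib24.hdRes U.ι K i) ?_⟩
  exact An92.RHomSerre.isCoh_of_push s (QC70.isCoh_of_iso (pushHD s _ i) h)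

/-- Coherent cohomology, bounded above, gives relative pseudo-coherence over a locally Noetherian base. -/
theorem rel_of_cohD_bdd [IsLocallyNoetherian Y] (f : X ⟶ Y) [LocallyOfFiniteType f] {K : DCoh.D X}
    (hK : DCoh.IsCohD K) {b : ℤ} (hb : K.IsLE b) (m : ℤ) : DerSch.IsPseudoCoherentRel f m K := by
  haveI : IsLocallyNoetherian X := LocallyOfFiniteType.isLocallyNoetherian f
  refine rel_of_good fun x => ?_
  obtain ⟨U, V, hxU, hU, hV, hle⟩ := exists_affine_pair f x
  obtain ⟨n, φ, hφ⟩ := exists_chart_of_ft (f := f) hU hV hle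
  let s := imm U φ
  haveI : IsClosedImmersion s := isClosedImmersion_imm hU hφ.1
  haveI : IsNoetherianRing Γ(Y, V) := IsLocallyNoetherian.component_noetherian ⟨V, hV⟩
  haveI : IsLocallyNoetherian (Spec (CommRingCat.of (MvPolynomial (Fin n) Γ(Y, V)))) := inferInstance
  refine ⟨U, V, hxU, hU, hV, (good_iff_pc hU hle hφ).2 ?_⟩
  have hbU : ((resD U.ι).obj K).IsLE b := isLE_map (Scheme.Modules.restrictFunctor U.ι) hb
  refine HTor49.isPC_of_isCohD _ (fun i => QC70.isCoh_of_iso (pushHD s _ i).symm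
    (QC70.isCoh_pushforward s _ ?_)) (b := b) ((isLE_push_iff s _ b).2 hbU) m
  exact QC70.isCoh_of_iso (PerfFib24.hdRes U.ι K i).symm (Amp73.isCoh_restrict (hK i) U)

/-- Coherent cohomology, locally bounded above, gives relative pseudo-coherence over a locally Noetherian base. -/
theorem relAll_of_cohD [IsLocallyNoetherian Y] (f : X ⟶ Y) [LocallyOfFiniteType f] {K : DCoh.D X}
    (hK : DCoh.IsCohD K) (hb : ∀ x : X, ∃ (W : X.Opens) (b : ℤ), x ∈ W ∧ ((resD W.ι).obj K).IsLE b) :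
    DerSch.IsPseudoCoherentRelAll f K := fun m => rel_of_local fun x => by
  obtain ⟨W, b, hxW, hW⟩ := hb x
  refine ⟨W, W.ι, inferInstance, ⟨⟨x, hxW⟩, rfl⟩, rel_of_cohD_bdd (W.ι ≫ f) (fun i => ?_) hW m⟩
  exact QC70.isCoh_of_iso (PerfFib24.hdRes W.ι K i).symm (Amp73.isCoh_restrict (hK i) W)

/-- Upper bounds of derived direct images, locally on the target. -/
theorem exists_isLE_resD_Rpush (f : X ⟶ Y) [QuasiCompact f] [QuasiSeparated f] [DCoh.HasRpush f]
    {E : DCoh.D X} (hq : DCoh.IsQCohD E)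
    (hb : ∀ U : X.Opens, IsCompact (U : Set X) → ∃ b : ℤ, ((resD U.ι).obj E).IsLE b) (y : Y) :
    ∃ (W : Y.Opens) (b : ℤ), y ∈ W ∧ ((resD W.ι).obj ((DCoh.Rpush f).obj E)).IsLE b := by
  obtain ⟨V, hV, hyV, -⟩ := exists_isAffineOpen_mem_and_subset (x := y) (U := (⊤ : Y.Opens)) trivial
  haveI : IsAffine (V : Scheme.{u}) := hV
  haveI := DCX42.hasRpush (f ∣_ V)
  obtain ⟨e⟩ := DCX42.nonempty_Rpush_restrict f V
  obtain ⟨d, hd⟩ := QCohPush72.exists_isZero_HD_Rpush_affine (f ∣_ V)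
  obtain ⟨b, hb'⟩ := hb (f ⁻¹ᵁ V) (QuasiCompact.isCompact_preimage (f := f) _ V.2 hV.isCompact)
  refine ⟨V, b + d, hyV, (DerivedCategory.isLE_iff _ _).2 fun j hj => ?_⟩
  exact (hd _ (DCX42.isQCohD_resD hq (f ⁻¹ᵁ V).ι) b hb' j hj).of_iso
    ((DerivedCategory.homologyFunctor _ j).mapIso (e.app E))

/-- Bounds on quasi-compact opens of a relatively pseudo-coherent object. -/
theorem exists_isLE_compact {f : X ⟶ Y} {m : ℤ} {K : DCoh.D X} (hK : DerSch.IsPseudoCoherentRel f m K)
    (U : X.Opens) (hU : IsCompact (U : Set X)) : ∃ b : ℤ, ((resD U.ι).obj K).IsLE b := by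
  haveI : CompactSpace (U : Scheme.{u}) := isCompact_iff_compactSpace.1 hU
  exact exists_isLE (rel_resD U.ι hK)

/-- Derived direct images of relatively pseudo-coherent objects under proper morphisms, over a locally
Noetherian base. -/
theorem relAll_Rpush_proper [IsLocallyNoetherian S] {p : X ⟶ S} {q : Y ⟶ S} [LocallyOfFiniteType p]
    [LocallyOfFiniteType q] (f : X ⟶ Y) [IsProper f] (w : f ≫ q = p) [DCoh.HasRpush f] {E : DCoh.D X} {a : ℤ}
    (ha : E.IsGE a) (hE : DerSch.IsPseudoCoherentRelAll p E) :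
    DerSch.IsPseudoCoherentRelAll q ((DCoh.Rpush f).obj E) := by
  haveI : IsLocallyNoetherian Y := LocallyOfFiniteType.isLocallyNoetherian q
  have hcoh := cohD_of_relAll p hE
  refine relAll_of_cohD q (PropPush72.isCohD_Rpush f E a ha hcoh fun i => ?_)
    (exists_isLE_resD_Rpush f (fun i => (hcoh i).1) fun U hU => exists_isLE_compact (hE 0) U hU)
  haveI := (hcoh i).2
  exact ⟨QC70.isClosed_support _, inferInstance⟩

/-- Local finite tor amplitude of derived direct images, tested on an affine cover of the target. -/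
theorem locFiniteTorAmp_Rpush [IsLocallyNoetherian S] {p : X ⟶ S} {q : Y ⟶ S} (f : X ⟶ Y) (w : f ≫ q = p)
    [QuasiCompact f] [QuasiSeparated f] [DCoh.HasRpush f] (F : CochainComplex X.Modules ℤ)
    (hqc : DCoh.IsQCohD (DCoh.toD X F)) {c : ℤ} [(DCoh.toD X F).IsGE c]
    (hb : ∀ U : X.Opens, IsCompact (U : Set X) → ∃ b : ℤ, ((resD U.ι).obj (DCoh.toD X F)).IsLE b)
    (hF : DerSch.LocFiniteTorAmplitude p F) (F' : CochainComplex Y.Modules ℤ)
    (e' : DCoh.toD Y F' ≅ (DCoh.Rpush f).obj (DCoh.toD X F)) : DerSch.LocFiniteTorAmplitude q F' := by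
  intro y
  obtain ⟨V, hV, hyV, -⟩ := exists_isAffineOpen_mem_and_subset (x := y) (U := (⊤ : Y.Opens)) trivial
  haveI : IsAffine (V : Scheme.{u}) := hV
  haveI := DCX42.hasRpush (f ∣_ V)
  obtain ⟨e⟩ := DCX42.nonempty_Rpush_restrict f V
  let U := f ⁻¹ᵁ V
  let FU := (DCX42.resCx U.ι).obj F
  let eF : DCoh.toD (U : Scheme.{u}) FU ≅ (resD U.ι).obj (DCoh.toD X F) := (resQ U.ι F).symm
  haveI : (DCoh.toD (U : Scheme.{u}) FU).IsGE c := by
    rw [DerivedCategory.isGE_iff]
    intro i hi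
    exact ((Scheme.Modules.restrictFunctor U.ι).map_isZero (DerivedCategory.isZero_of_isGE (DCoh.toD X F) c i hi)).of_iso
      ((DerivedCategory.homologyFunctor _ i).mapIso eF ≪≫ PerfFib24.hdRes U.ι _ i)
  obtain ⟨d, hd⟩ := hb U (QuasiCompact.isCompact_preimage (f := f) _ V.2 hV.isCompact)
  haveI : (DCoh.toD (U : Scheme.{u}) FU).IsLE d := by
    rw [DerivedCategory.isLE_iff]
    intro i hi
    exact (DerivedCategory.isZero_of_isLE ((resD U.ι).obj (DCoh.toD X F)) d i hi).of_iso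
      ((DerivedCategory.homologyFunctor _ i).mapIso eF)
  have hqU : DCoh.IsQCohD (DCoh.toD (U : Scheme.{u}) FU) := fun i =>
    QC70.isQuasicoherent_of_iso ((DerivedCategory.homologyFunctor _ i).mapIso eF).symm (DCX42.isQCohD_resD hqc U.ι i)
  have hFU : DerSch.LocFiniteTorAmplitude (U.ι ≫ p) FU := fun u => by
    obtain ⟨W, a', b', hW, h⟩ := hF (U.ι u)
    exact ⟨U.ι ⁻¹ᵁ W, a', b', hW, fun v hv => (torAmpAt_restrict_iff U.ι p F v).2 (h _ hv)⟩
  haveI : QuasiCompact (V.ι ≫ q) := inferInstance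
  have key := Groth.Agent.S6198.result (U.ι ≫ p) (V.ι ≫ q) (f ∣_ V)
    (by rw [morphismRestrict_ι_assoc, w]) FU hqU c d hFU ((DCX42.resCx V.ι).obj F')
    ⟨(resQ V.ι F').symm ≪≫ (resD V.ι).mapIso e' ≪≫ e.app _ ≪≫ (DCoh.Rpush (f ∣_ V)).mapIso eF.symm⟩
  obtain ⟨W, a', b', hvW, hW⟩ := key ⟨y, hyV⟩
  refine ⟨V.ι ''ᵁ W, a', b', ⟨⟨y, hyV⟩, hvW, rfl⟩, ?_⟩
  rintro _ ⟨v, hv, rfl⟩
  exact (torAmpAt_restrict_iff V.ι q F' v).1 (hW v hv)

end Groth.Agent.RelPCSch41
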