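import Groth.Agent.RelPCSch41.PushPC
import Groth.Agent.RelPC41.Basic
import Groth.Agent.FlatMor67.PerfectSheaf
import Groth.Agent.TildePull72.Basic
import Groth.Agent.QCqs72.Basic

/-!
Pseudo-coherent ring surjections give pseudo-coherent direct images.
-/

set_option autoImplicit false
set_option backward.isDefEq.respectTransparency.types false
set_option linter.style.haveILetI false

noncomputable section

universe u

open CategoryTheory Limits AlgebraicGeometry DerivedCategory
open Groth.Agent.DCX42
attribute [local instance] HasDerivedCategory.standard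

namespace Groth.Agent.RelPCSch41

variable {R S : CommRingCat.{u}}

/-- The sheaf associated to a pseudo-coherent object is pseudo-coherent. -/
theorem isPC_tildeD {m : ℤ} {K : Dual.D (R : Type u)} (h : DRing.IsPseudoCoherent (R : Type u) m K) :
    DCoh.IsPseudoCoherentD m ((tilde.functor R).mapDerivedCategory.obj K) := by
  obtain ⟨E, a, b, α, hE, hFF, h1, h2⟩ := h
  let G := tilde.functor R
  refine isPC_of_approx ⟨(G.mapHomologicalComplex (ComplexShape.up ℤ)).obj E,
    (G.mapDerivedCategoryFactors.app E).inv ≫ G.mapDerivedCategory.map α,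
    ⟨⟨a, b, fun i hi => G.map_isZero (hE i hi)⟩, fun i => ?_⟩,
    (PCMap.of_isIso _ _).comp (PCMap.map G ⟨h1, h2⟩)⟩
  haveI := (hFF i).1
  haveI := (hFF i).2
  exact (Props58.LocFree.isFinLocFree_tilde_iff (E.X i)).mpr ⟨inferInstance, inferInstance⟩

/-- Direct image of the structure sheaf along a map of spectra. -/
theorem nonempty_push_structure (φ : R ⟶ S) [IsClosedImmersion (Spec.map φ)] :
    Nonempty ((Scheme.Modules.pushforward (Spec.map φ)).obj (Coh.structureModule (Spec S)) ≅
      tilde ((ModuleCat.restrictScalars φ.hom).obj (ModuleCat.of S S))) := by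
  let M := (Scheme.Modules.pushforward (Spec.map φ)).obj (tilde (ModuleCat.of S S))
  haveI : M.IsQuasicoherent := QCqs72.isQuasicoherent_pushforward (M := tilde (ModuleCat.of S S)) (Spec.map φ)
  exact ⟨(Scheme.Modules.pushforward (Spec.map φ)).mapIso tildeSelf.symm ≪≫ (asIso M.fromTildeΓ).symm ≪≫
    (tilde.functor R).mapIso ((TildePull72.pushforwardΓIso φ).app (tilde (ModuleCat.of S S)) ≪≫
      (ModuleCat.restrictScalars φ.hom).mapIso (tilde.toTildeΓNatIso.app (ModuleCat.of S S)).symm)⟩

theorem hasPCPush_spec (φ : R ⟶ S) [IsClosedImmersion (Spec.map φ)]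
    (h : ∀ k, DR39.PC k (Dual.inD (R : Type u) ((ModuleCat.restrictScalars φ.hom).obj (ModuleCat.of S S)))) :
    HasPCPush (Spec.map φ) := by
  intro k
  obtain ⟨e⟩ := nonempty_push_structure φ
  exact isPC_of_iso (((tilde.functor R).mapDerivedCategorySingleFunctor 0).app _ ≪≫
    (singleFunctor _ 0).mapIso e.symm ≪≫
    (((Scheme.Modules.pushforward (Spec.map φ)).mapDerivedCategorySingleFunctor 0).app _).symm)
    (isPC_tildeD (h k))

/-- Surjections between flat finitely presented algebras. -/
theorem hasPCPush_of_surjective {A T P : Type u} [CommRing A] [CommRing T] [CommRing P] [Algebra A T] [Algebra A P]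
    [Module.Flat A T] [Algebra.FinitePresentation A T] [Module.Flat A P] [Algebra.FinitePresentation A P]
    (q : T →ₐ[A] P) (hq : Function.Surjective q) [IsClosedImmersion (Spec.map (CommRingCat.ofHom q.toRingHom))] :
    HasPCPush (Spec.map (CommRingCat.ofHom q.toRingHom)) := by
  refine hasPCPush_spec _ fun k => RelPC41.pc_self' (q : T →+* P) ?_ k
  letI := (q : T →+* P).toAlgebra
  haveI : IsScalarTower A T P := IsScalarTower.of_algHom q
  exact FlatMor67.PCH.pc'_quotient A T P hq

end Groth.Agent.RelPCSch41
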