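import Groth.Agent.QC70.HomStalk
import Groth.Agent.QExact41.MonoFlat
import Groth.Agent.DCX42.Res
import Groth.Agent.FlatMor67.SpreadBasis
import Groth.Agent.Mod48.LocalHomotopyLift

/-!
A chain map between stalks out of a complex of free modules spreads to a neighbourhood.
-/

set_option autoImplicit false
set_option backward.isDefEq.respectTransparency.types false

noncomputable section

universe u

open CategoryTheory Limits AlgebraicGeometry TopologicalSpace Opposite
open Groth.Agent.QC70 Groth.Agent.Props58.LocFree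

namespace Groth.Agent.RelPCSch41

variable {X : Scheme.{u}} {M N L : X.Modules} {x : X}

/-- The local morphism which takes the given values on a basis. -/
def homOfBasis {n : ℕ} {s : Fin n → Γ(M, ⊤)} (hs : StalkBasis s) {W : X.Opens} (t : Fin n → Γ(N, W)) :
    HomOn M N W where
  app V hV :=
    let e : (Fin n → Γ(X, V)) ≃ₗ[Γ(X, V)] Γ(M, V) :=
      LinearEquiv.ofBijective (Fintype.linearCombination Γ(X, V) fun i => res M (le_top : V ≤ ⊤) (s i))
        (hs.bijective le_top)
    (Fintype.linearCombination Γ(X, V) fun i => res N hV (t i)).comp e.symm.toLinearMap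
  app_res := fun {V V'} hV h z => by
    obtain ⟨a, rfl⟩ := hs.exists_comb (le_top : V ≤ ⊤) z
    have e : res M h (∑ i, a i • res M (le_top : V ≤ ⊤) (s i)) =
        ∑ i, resO X h (a i) • res M (le_top : V' ≤ ⊤) (s i) := by
      rw [res_sum]
      exact Finset.sum_congr rfl fun i _ => by rw [res_smul, res_res]
    rw [e]
    simp only [LinearMap.comp_apply, LinearEquiv.coe_coe]
    rw [(LinearEquiv.symm_apply_eq _).2 (show _ = LinearEquiv.ofBijective _ _ fun i => resO X h (a i) from
        (Fintype.linearCombination_apply _ _ _).symm),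
      (LinearEquiv.symm_apply_eq _).2 (show _ = LinearEquiv.ofBijective _ _ a from
        (Fintype.linearCombination_apply _ _ _).symm),
      Fintype.linearCombination_apply, Fintype.linearCombination_apply, res_sum]
    exact Finset.sum_congr rfl fun i _ => by rw [res_smul, res_res]

lemma homOfBasis_app {n : ℕ} {s : Fin n → Γ(M, ⊤)} (hs : StalkBasis s) {W : X.Opens} (t : Fin n → Γ(N, W))
    (i : Fin n) : (homOfBasis hs t).app W le_rfl (res M le_top (s i)) = t i := by
  classical
  have e : res M (le_top : W ≤ ⊤) (s i) = ∑ k, (Pi.single i 1 : Fin n → Γ(X, W)) k • res M le_top (s k) := by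
    simp [Pi.single_apply, ite_smul]
  simp only [homOfBasis, LinearMap.comp_apply, LinearEquiv.coe_coe]
  rw [e, (LinearEquiv.symm_apply_eq _).2 (show _ = LinearEquiv.ofBijective _ _
      (Pi.single i 1 : Fin n → Γ(X, W)) from (Fintype.linearCombination_apply _ _ _).symm),
    Fintype.linearCombination_apply]
  simp [Pi.single_apply, ite_smul, res_self]

/-- Linear maps out of a stalk with a basis are determined on the basis. -/
lemma stalkHom_ext_basis {n : ℕ} {U : X.Opens} {s : Fin n → Γ(M, U)} (hs : StalkBasis s) (hx : x ∈ U)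
    {f g : M.presheaf.stalk x →ₗ[X.presheaf.stalk x] N.presheaf.stalk x}
    (h : ∀ i, f (germM M U x hx (s i)) = g (germM M U x hx (s i))) : f = g := by
  refine LinearMap.ext fun e => ?_
  obtain ⟨c, rfl⟩ := (hs x hx).2 e
  simp only [germComb, map_sum, map_smul, h]

/-- Existence. -/
theorem exists_homOn_stalk {n : ℕ} {s : Fin n → Γ(M, ⊤)} (hs : StalkBasis s)
    (φ : M.presheaf.stalk x →ₗ[X.presheaf.stalk x] N.presheaf.stalk x) :
    ∃ (W : X.Opens) (hx : x ∈ W) (g : HomOn M N W), g.stalkMap hx = φ := by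
  choose V hxV t ht using fun i => germM_exist (φ (germM M ⊤ x trivial (s i)))
  let W : X.Opens := ⟨⋂ i, (V i : Set X), isOpen_iInter_of_finite fun i => (V i).2⟩
  have hWV : ∀ i, W ≤ V i := fun i z hz => Set.mem_iInter.mp hz i
  have hxW : x ∈ W := Set.mem_iInter.mpr hxV
  refine ⟨W, hxW, homOfBasis hs fun i => res N (hWV i) (t i),
    stalkHom_ext_basis hs trivial fun i => ?_⟩
  rw [← germM_res (le_top : W ≤ ⊤) hxW (s i), HomOn.stalkMap_germ _ hxW le_rfl, homOfBasis_app,
    germM_res, ht, germM_res]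

/-- Uniqueness near the point. -/
theorem exists_homOn_eq {n : ℕ} {s : Fin n → Γ(M, ⊤)} (hs : StalkBasis s) {W : X.Opens} (hx : x ∈ W)
    (g g' : HomOn M N W) (h : g.stalkMap hx = g'.stalkMap hx) :
    ∃ (W' : X.Opens) (hW : W' ≤ W), x ∈ W' ∧ g.mono hW = g'.mono hW := by
  have h' : ∀ i, ∃ (T : X.Opens) (hT : T ≤ W), x ∈ T ∧
      res N hT (g.app W le_rfl (res M le_top (s i)) - g'.app W le_rfl (res M le_top (s i))) = 0 := fun i => by
    refine germM_eq_zero (hx := hx) ?_
    refine (map_sub (N.presheaf.germ W x hx).hom _ _).trans (sub_eq_zero.mpr ?_)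
    change germM N W x hx _ = germM N W x hx _
    rw [← g.stalkMap_germ hx le_rfl, ← g'.stalkMap_germ hx le_rfl, h]
  choose T hT hxT hT0 using h'
  let W' : X.Opens := ⟨(W : Set X) ∩ ⋂ i, (T i : Set X), W.2.inter (isOpen_iInter_of_finite fun i => (T i).2)⟩
  have hWT : ∀ i, W' ≤ T i := fun i z hz => Set.mem_iInter.mp hz.2 i
  have hle : W' ≤ W := fun z hz => hz.1
  refine ⟨W', hle, ⟨hx, Set.mem_iInter.mpr hxT⟩, HomOn.ext' fun V hV z => ?_⟩
  obtain ⟨a, rfl⟩ := hs.exists_comb (le_top : V ≤ ⊤) z
  simp only [map_sum, map_smul, HomOn.mono]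
  refine Finset.sum_congr rfl fun i _ => congrArg (a i • ·) ?_
  rw [← res_res (le_top : W ≤ ⊤) (hV.trans hle) (s i), g.app_res le_rfl (hV.trans hle),
    g'.app_res le_rfl (hV.trans hle), ← sub_eq_zero, ← res_sub]
  have := congrArg (res N (hV.trans (hWT i))) (hT0 i)
  rwa [res_res, res_zero] at this

lemma stalkMap_homComp {W : X.Opens} (hx : x ∈ W) (g : HomOn M N W) (g' : HomOn N L W) :
    (g.comp g').stalkMap hx = (g'.stalkMap hx).comp (g.stalkMap hx) := LinearMap.ext fun e => by
  obtain ⟨V, hV, hxV, z, rfl⟩ := exists_germ_le hx e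
  rw [HomOn.stalkMap_germ _ hx hV, LinearMap.comp_apply, g.stalkMap_germ hx hV, g'.stalkMap_germ hx hV]
  rfl

lemma stalkMap_ofHom {W : X.Opens} (hx : x ∈ W) (f : M ⟶ N) :
    (HomOn.ofHom f W).stalkMap hx = ((DCK91.SP x).map f).hom := LinearMap.ext fun e => by
  obtain ⟨V, hV, hxV, z, rfl⟩ := exists_germ_le hx e
  rw [HomOn.stalkMap_germ _ hx hV, HomOn.ofHom_app]
  exact ((DCK91.SP_map_apply x f _).trans (stalkMapM_germ f hxV z)).symm

lemma toRestrictHom_comp {W : X.Opens} (g : HomOn M N W) (g' : HomOn N L W) :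
    (g.comp g').toRestrictHom = g.toRestrictHom ≫ g'.toRestrictHom := by
  refine Scheme.Modules.hom_ext _ _ fun T => ?_
  ext z
  rfl

lemma toRestrictHom_ofHom {W : X.Opens} (f : M ⟶ N) :
    (HomOn.ofHom f W).toRestrictHom = (Scheme.Modules.restrictFunctor W.ι).map f := by
  refine Scheme.Modules.hom_ext _ _ fun T => ?_
  ext z
  rfl

/-- The functor taking a module on an open subscheme to its stalk over the local ring of the ambient scheme. -/
abbrev stalkVia {U : Scheme.{u}} (j : U ⟶ X) [IsOpenImmersion j] (u : U) :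
    U.Modules ⥤ ModuleCat.{u} (X.presheaf.stalk (j u)) :=
  DCK91.SP u ⋙ ModuleCat.restrictScalars.{u} (QExact41.sigma j u).toRingHom

/-- The comparison of a local morphism with its stalk. -/
lemma stalkRestrict_square {W : X.Opens} (w : (W : Scheme.{u})) (g : HomOn M N W) :
    (QExact41.stalkRestrictIso W.ι w).hom.app M ≫ (stalkVia W.ι w).map g.toRestrictHom =
      ModuleCat.ofHom (g.stalkMap w.2) ≫ (QExact41.stalkRestrictIso W.ι w).hom.app N := by
  refine ModuleCat.hom_ext (LinearMap.ext fun e => ?_)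
  let eM := (asIso ((Scheme.Modules.restrictStalkNatIso W.ι w).hom.app M)).addCommGroupIsoToAddEquiv
  let eN := (asIso ((Scheme.Modules.restrictStalkNatIso W.ι w).hom.app N)).addCommGroupIsoToAddEquiv
  change (DCK91.SP w).map g.toRestrictHom (eM.symm e) = eN.symm (g.stalkMap w.2 e)
  exact (DCK91.SP_map_apply w g.toRestrictHom (eM.symm e)).trans ((AddEquiv.eq_symm_apply eN).2 rfl)

/-- A chain map of stalks out of a bounded complex of free modules comes from a chain map near the point. -/
theorem exists_spread_chainMap (P F : CochainComplex X.Modules ℤ) (hP : DCX42.IsTermFree P) (a b : ℤ)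
    (hab : ∀ i, (i < a ∨ b < i) → IsZero (P.X i)) (x : X)
    (ψ : ((DCK91.SP x).mapHomologicalComplex (ComplexShape.up ℤ)).obj P ⟶
      ((DCK91.SP x).mapHomologicalComplex (ComplexShape.up ℤ)).obj F) (m : ℤ)
    (hiso : ∀ i, m < i → IsIso (HomologicalComplex.homologyMap ψ i))
    (hepi : Epi (HomologicalComplex.homologyMap ψ m)) :
    ∃ (W : X.Opens) (hx : x ∈ W) (γ : (DCX42.resCx W.ι).obj P ⟶ (DCX42.resCx W.ι).obj F),
      ∀ i, m ≤ i → Subsingleton (((CochainComplex.mappingCone γ).homology i).presheaf.stalk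
        (⟨x, hx⟩ : (W : Scheme.{u}))) := by
  classical
  have hn : ∀ i, ∃ (n : ℕ) (s : Fin n → Γ(P.X i, ⊤)), StalkBasis s := fun i => by
    obtain ⟨n, ⟨e⟩⟩ := hP i
    exact ⟨n, FlatMor67.SpreadBasis.exists_stalkBasis_top e⟩
  choose n s hs using hn
  have hex := fun i => exists_homOn_stalk (hs i) (ψ.f i).hom
  choose W₁ hxW₁ g₁ hg₁ using hex
  let W₀ : X.Opens := (Finset.Icc a b).inf W₁
  have hx₀ : x ∈ W₀ :=
    Finset.inf_induction (p := fun V : X.Opens => x ∈ V) trivial (fun _ h₁ _ h₂ => ⟨h₁, h₂⟩) fun i _ => hxW₁ i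
  let g : ∀ i, HomOn (P.X i) (F.X i) W₀ := fun i =>
    if hi : i ∈ Finset.Icc a b then (g₁ i).mono (Finset.inf_le hi) else 0
  have hsub : ∀ i, i ∉ Finset.Icc a b → IsZero ((DCK91.SP x).obj (P.X i)) := fun i hi =>
    (DCK91.SP x).map_isZero (hab i (by rw [Finset.mem_Icc] at hi; omega))
  have hg : ∀ i, (g i).stalkMap hx₀ = (ψ.f i).hom := fun i => by
    by_cases hi : i ∈ Finset.Icc a b
    · simp only [g, dif_pos hi]
      rw [HomOn.stalkMap_mono, hg₁]
    · exact congrArg ModuleCat.Hom.hom ((hsub i hi).eq_of_src (ModuleCat.ofHom ((g i).stalkMap hx₀)) (ψ.f i))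
  have heq : ∀ i, ∃ (W : X.Opens) (hW : W ≤ W₀), x ∈ W ∧
      ((g i).comp (HomOn.ofHom (F.d i (i + 1)) W₀)).mono hW =
        ((HomOn.ofHom (P.d i (i + 1)) W₀).comp (g (i + 1))).mono hW := fun i => by
    refine exists_homOn_eq (hs i) hx₀ _ _ ?_
    rw [stalkMap_homComp, stalkMap_homComp, hg, hg, stalkMap_ofHom, stalkMap_ofHom]
    exact congrArg ModuleCat.Hom.hom (ψ.comm i (i + 1))
  choose W₂ hW₂ hxW₂ hcomm using heq
  let W : X.Opens := W₀ ⊓ (Finset.Icc a b).inf W₂
  have hW : W ≤ W₀ := inf_le_left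
  have hx : x ∈ W := ⟨hx₀,
    Finset.inf_induction (p := fun V : X.Opens => x ∈ V) trivial (fun _ h₁ _ h₂ => ⟨h₁, h₂⟩) fun i _ => hxW₂ i⟩
  let G := Scheme.Modules.restrictFunctor W.ι
  let γ : (DCX42.resCx W.ι).obj P ⟶ (DCX42.resCx W.ι).obj F :=
    { f := fun i => ((g i).mono hW).toRestrictHom
      comm' := fun i j hij => by
        obtain rfl : i + 1 = j := hij
        change ((g i).mono hW).toRestrictHom ≫ G.map (F.d i (i + 1)) =
          G.map (P.d i (i + 1)) ≫ ((g (i + 1)).mono hW).toRestrictHom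
        by_cases hi : i ∈ Finset.Icc a b
        · rw [← toRestrictHom_ofHom, ← toRestrictHom_ofHom, ← toRestrictHom_comp, ← toRestrictHom_comp]
          congr 1
          have h2 : W ≤ W₂ i := inf_le_right.trans (Finset.inf_le hi)
          exact congrArg (fun h => HomOn.mono h h2) (hcomm i)
        · exact (G.map_isZero (hab i (by rw [Finset.mem_Icc] at hi; omega))).eq_of_src _ _ }
  refine ⟨W, hx, γ, fun i hi => ?_⟩
  let w : (W : Scheme.{u}) := ⟨x, hx⟩
  let V := stalkVia W.ι w
  let R := ModuleCat.restrictScalars.{u} (QExact41.sigma W.ι w).toRingHom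
  haveI : PreservesFiniteLimits (DCK91.SP w) := Functor.preservesFiniteLimits_of_preservesHomology _
  haveI : PreservesFiniteColimits (DCK91.SP w) := Functor.preservesFiniteColimits_of_preservesHomology _
  haveI : PreservesFiniteLimits V := comp_preservesFiniteLimits (DCK91.SP w) R
  haveI : PreservesFiniteColimits V := comp_preservesFiniteColimits (DCK91.SP w) R
  haveI : V.PreservesHomology := inferInstance
  let e : ∀ K : CochainComplex X.Modules ℤ, ((DCK91.SP x).mapHomologicalComplex (ComplexShape.up ℤ)).obj K ≅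
      (V.mapHomologicalComplex (ComplexShape.up ℤ)).obj ((DCX42.resCx W.ι).obj K) := fun K =>
    HomologicalComplex.Hom.isoOfComponents (fun i => (QExact41.stalkRestrictIso W.ι w).app (K.X i))
      (fun i k _ => ((QExact41.stalkRestrictIso W.ι w).hom.naturality (K.d i k)).symm)
  let E : Arrow.mk ψ ≅ Arrow.mk ((V.mapHomologicalComplex (ComplexShape.up ℤ)).map γ) :=
    Arrow.isoMk (e P) (e F) (by
      ext k : 1
      refine (stalkRestrict_square w ((g k).mono hW)).trans ?_
      rw [HomOn.stalkMap_mono, hg]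
      rfl)
  let Eh := fun k => (HomologicalComplex.homologyFunctor _ (ComplexShape.up ℤ) k).mapArrow.mapIso E
  have h₁ : Epi (HomologicalComplex.homologyMap ((V.mapHomologicalComplex (ComplexShape.up ℤ)).map γ) i) := by
    refine ((MorphismProperty.epimorphisms _).arrow_mk_iso_iff (Eh i)).1 ?_
    rcases eq_or_lt_of_le hi with rfl | h
    · exact hepi
    · haveI := hiso i h
      exact inferInstanceAs (Epi (HomologicalComplex.homologyMap ψ i))
  have h₂ : Mono (HomologicalComplex.homologyMap ((V.mapHomologicalComplex (ComplexShape.up ℤ)).map γ) (i + 1)) := by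
    refine ((MorphismProperty.monomorphisms _).arrow_mk_iso_iff (Eh (i + 1))).1 ?_
    haveI := hiso (i + 1) (by omega)
    exact inferInstanceAs (Mono (HomologicalComplex.homologyMap ψ (i + 1)))
  have hz : IsZero (V.obj ((CochainComplex.mappingCone γ).homology i)) :=
    ((Mod48.exactAt_mappingCone _ i h₁ h₂).isZero_homology.of_iso
      ((HomologicalComplex.homologyFunctor _ _ i).mapIso
        (CochainComplex.mappingCone.mapHomologicalComplexIso γ V))).of_iso
      (((CochainComplex.mappingCone γ).sc i).mapHomologyIso V).symm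
  exact ModuleCat.subsingleton_of_isZero hz

end Groth.Agent.RelPCSch41
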