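import Groth.Agent.RelPCSch41.SpreadHom
import Groth.Agent.RelPCSch41.PushPC
import Groth.Agent.DCX42.TopH
import Groth.Agent.DCX42.PerfectRetract
import Groth.Agent.PerfFib24.RelFib
import Groth.Agent.DR39.DBasic
import Groth.Agent.QC70.CohOps

/-!
An isomorphism of stalks of pseudo-coherent complexes spreads to a neighbourhood.
-/

set_option autoImplicit false
set_option backward.isDefEq.respectTransparency false
set_option backward.isDefEq.respectTransparency.types false

noncomputable section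

universe u

open CategoryTheory Limits AlgebraicGeometry TopologicalSpace Opposite Pretriangulated DerivedCategory

attribute [local instance] HasDerivedCategory.standard

namespace Groth.Agent.RelPCSch41

open Groth.Agent.DCX42

variable {X : Scheme.{u}}

/-- Vanishing stalks of the cohomology of a pseudo-coherent object spread out. -/
theorem exists_nhd_HD_eq_zero {K : DCoh.D X} (hK : ∀ m : ℤ, DCoh.IsPseudoCoherentD m K) (x : X) (k e : ℤ)
    (he : ∀ i, e < i → IsZero (DCoh.HD K i)) (hk : ∀ i, k ≤ i → Subsingleton ((DCoh.HD K i).presheaf.stalk x)) :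
    ∃ T : X.Opens, x ∈ T ∧ ∀ i, k ≤ i → IsZero ((Scheme.Modules.restrictFunctor T.ι).obj (DCoh.HD K i)) := by
  suffices h : ∀ N : ℕ, ∃ T : X.Opens, x ∈ T ∧ ∀ i, k ≤ i → e < i + N → ∀ y ∈ T,
      Subsingleton ((DCoh.HD K i).presheaf.stalk y) by
    obtain ⟨T, hxT, hT⟩ := h (e + 1 - k).toNat
    refine ⟨T, hxT, fun i hi => DCK91.isZero_of_stalks fun t => ?_⟩
    haveI := hT i hi (by omega) (T.ι t) t.2
    exact @ModuleCat.isZero_of_subsingleton _ _ _
      ((FBase64.AssSheaf.restrictStalkEquiv T.ι (DCoh.HD K i) t).toEquiv.symm.subsingleton)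
  intro N
  induction N with
  | zero =>
    refine ⟨⊤, trivial, fun i _ hi y _ => ?_⟩
    exact ModuleCat.subsingleton_of_isZero ((DCK91.SP y).map_isZero (he i (by simpa using hi)))
  | succ N ih =>
    obtain ⟨T, hxT, hT⟩ := ih
    by_cases hkN : e - N < k
    · exact ⟨T, hxT, fun i hi _ y hy => hT i hi (by omega) y hy⟩
    let G := Scheme.Modules.restrictFunctor T.ι
    have hz : ∀ i, e - N < i → IsZero (G.obj (DCoh.HD K i)) := fun i hi => DCK91.isZero_of_stalks fun t => by
      haveI := hT i (by omega) (by omega) (T.ι t) t.2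
      exact @ModuleCat.isZero_of_subsingleton _ _ _
        ((FBase64.AssSheaf.restrictStalkEquiv T.ι (DCoh.HD K i) t).toEquiv.symm.subsingleton)
    have hFT : CohB1.IsFT (G.obj (DCoh.HD K (e - N))) :=
      isFT_of_iso' (Mod48.nonempty_homology_mapDerivedCategory G K (e - N)).some
        (isFT_HD (isPC_restrict (hK (e - N)) T) fun i hi =>
          (hz i hi).of_iso (Mod48.nonempty_homology_mapDerivedCategory G K i).some)
    haveI : (G.obj (DCoh.HD K (e - N))).IsFiniteType := hFT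
    let t : (T : Scheme.{u}) := ⟨x, hxT⟩
    let O : (T : Scheme.{u}).Opens :=
      ⟨(CohB1.support (G.obj (DCoh.HD K (e - N))))ᶜ, (QC70.isClosed_support _).isOpen_compl⟩
    have htO : t ∈ O := fun hns => hns <| by
      haveI : Subsingleton ((DCoh.HD K (e - N)).presheaf.stalk (T.ι t)) := hk (e - N) (by omega)
      exact (FBase64.AssSheaf.restrictStalkEquiv T.ι (DCoh.HD K (e - N)) t).toEquiv.symm.subsingleton
    refine ⟨T.ι ''ᵁ O, ⟨t, htO, rfl⟩, fun i hi hi' y hy => ?_⟩
    obtain ⟨v, hv, rfl⟩ := hy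
    rcases eq_or_lt_of_le (show e - N ≤ i by omega) with rfl | hlt
    · haveI : Subsingleton ((G.obj (DCoh.HD K (e - N))).presheaf.stalk v) := not_not.mp hv
      exact (FBase64.AssSheaf.restrictStalkEquiv T.ι (DCoh.HD K (e - N)) v).toEquiv.subsingleton
    · exact hT i hi (by omega) _ v.2

/-- Transport of an isomorphism of stalk complexes to an open subscheme. -/
theorem nonempty_stalk_resCx_iso {U : Scheme.{u}} (j : U ⟶ X) [IsOpenImmersion j] (v : U)
    (E F : CochainComplex X.Modules ℤ)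
    (h : Nonempty (DRing.toD (((DCK91.SP (j v)).mapHomologicalComplex (ComplexShape.up ℤ)).obj E) ≅
      DRing.toD (((DCK91.SP (j v)).mapHomologicalComplex (ComplexShape.up ℤ)).obj F))) :
    Nonempty (DRing.toD (((DCK91.SP v).mapHomologicalComplex (ComplexShape.up ℤ)).obj ((resCx j).obj E)) ≅
      DRing.toD (((DCK91.SP v).mapHomologicalComplex (ComplexShape.up ℤ)).obj ((resCx j).obj F))) := by
  obtain ⟨h⟩ := h
  let σ := QExact41.sigma j v
  let R := ModuleCat.restrictScalars.{u} σ.symm.toRingHom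
  let S := DCK91.SP v
  let e : DCK91.SP (j v) ⋙ R ≅ Scheme.Modules.restrictFunctor j ⋙ S :=
    Functor.isoWhiskerRight (QExact41.stalkRestrictIso j v) R ≪≫ Functor.associator _ _ _ ≪≫
      Functor.isoWhiskerLeft _ (Functor.associator _ _ _ ≪≫ Functor.isoWhiskerLeft _
        ((ModuleCat.restrictScalarsComp' σ.symm.toRingHom σ.toRingHom (RingHom.id _)
          (RingHom.ext fun a => (σ.apply_symm_apply a).symm)).symm ≪≫ ModuleCat.restrictScalarsId _) ≪≫
        S.rightUnitor)
  let c : ∀ K : CochainComplex X.Modules ℤ, (R.mapHomologicalComplex (ComplexShape.up ℤ)).obj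
      (((DCK91.SP (j v)).mapHomologicalComplex (ComplexShape.up ℤ)).obj K) ≅
      (S.mapHomologicalComplex (ComplexShape.up ℤ)).obj ((resCx j).obj K) := fun K =>
    HomologicalComplex.Hom.isoOfComponents (fun i => e.app (K.X i))
      (fun i k _ => (e.hom.naturality (K.d i k)).symm)
  exact ⟨Q.mapIso (c E).symm ≪≫ (R.mapDerivedCategoryFactors.app _).symm ≪≫ R.mapDerivedCategory.mapIso h ≪≫
    R.mapDerivedCategoryFactors.app _ ≪≫ Q.mapIso (c F)⟩

/-- The isomorphism in the derived category of the restriction, with bounds. -/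
theorem exists_iso_of_approx (P E F : CochainComplex X.Modules ℤ) (hP : DCoh.IsStrictlyPerfect P) (hfree : IsTermFree P)
    {c d : ℤ} [(Q.obj E).IsGE c] [(Q.obj F).IsGE c] [(Q.obj F).IsLE d]
    (hF : ∀ m : ℤ, DCoh.IsPseudoCoherentD m (Q.obj F))
    (α : Q.obj P ⟶ Q.obj E) (hα : PCMap (c - 1) α) (x : X)
    (h : Nonempty (DRing.toD (((DCK91.SP x).mapHomologicalComplex (ComplexShape.up ℤ)).obj E) ≅
      DRing.toD (((DCK91.SP x).mapHomologicalComplex (ComplexShape.up ℤ)).obj F))) :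
    ∃ (U : Scheme.{u}) (j : U ⟶ X) (_ : IsOpenImmersion j), x ∈ Set.range j ∧
      Nonempty (Q.obj ((resCx j).obj E) ≅ Q.obj ((resCx j).obj F)) := by
  obtain ⟨h⟩ := h
  obtain ⟨⟨a, b, hab⟩, hlf⟩ := id hP
  let S := DCK91.SP x
  haveI : PreservesFiniteLimits S := Functor.preservesFiniteLimits_of_preservesHomology _
  haveI : PreservesFiniteColimits S := Functor.preservesFiniteColimits_of_preservesHomology _
  let P' := (S.mapHomologicalComplex (ComplexShape.up ℤ)).obj P
  let f : Q.obj P' ⟶ Q.obj ((S.mapHomologicalComplex (ComplexShape.up ℤ)).obj F) :=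
    S.mapDerivedCategoryFactors.inv.app P ≫ S.mapDerivedCategory.map α ≫
      S.mapDerivedCategoryFactors.hom.app E ≫ h.hom
  have hf : PCMap (c - 1) f :=
    (PCMap.of_isIso _ _).comp ((hα.map S).comp ((PCMap.of_isIso _ _).comp (PCMap.of_isIso _ h.hom)))
  haveI : CochainComplex.IsKProjective P' := by
    refine DR39.isKProjective_of_bddAbove P' b (fun i hi => S.map_isZero (hab i (Or.inr hi))) fun i => ?_
    obtain ⟨n, ⟨e⟩⟩ := hfree i
    obtain ⟨s, hs⟩ := FlatMor67.SpreadBasis.exists_stalkBasis_top e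
    haveI := hs.free_stalk x trivial
    exact inferInstanceAs (Module.Projective (X.presheaf.stalk x) ((P.X i).presheaf.stalk x))
  obtain ⟨ψ, hψ⟩ := DR39.Q_map_surjective P' _ f
  rw [← hψ, pcMap_Q_iff] at hf
  obtain ⟨W, hxW, γ, hγ⟩ := exists_spread_chainMap P F hfree a b hab x ψ (c - 1) hf.1 hf.2
  let T₁ := Q.mapTriangle.obj (CochainComplex.mappingCone.triangle γ)
  have hT₁ : T₁ ∈ distinguishedTriangles :=
    (DerivedCategory.mem_distTriang_iff _).2 ⟨_, _, _, ⟨Iso.refl _⟩⟩
  let G := Scheme.Modules.restrictFunctor W.ι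
  let C := Q.obj (CochainComplex.mappingCone γ)
  have hC : ∀ m, DCoh.IsPseudoCoherentD m C := fun m =>
    isPC₃ T₁ hT₁
      (isPC_mono (m := m) (by omega) (isPC_of_isPerfect ((isPerfect_iff _).2 fun y =>
        ⟨⊤, trivial, HasPerfRep.restrict ⟨_, isStrictlyPerfect_restrict hP W.ι, ⟨Iso.refl _⟩⟩ _⟩) _))
      (isPC_of_iso (G.mapDerivedCategoryFactors.app F) (isPC_restrict (hF m) W))
  haveI : (G.mapDerivedCategory.obj (Q.obj F)).IsLE d := isLE_map G inferInstance
  have hC' : ∀ i, max b d < i → IsZero (DCoh.HD C i) := fun i hi => by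
    have h₁ : IsZero ((homologyFunctor _ i).obj T₁.obj₂) :=
      (DerivedCategory.isZero_of_isLE (G.mapDerivedCategory.obj (Q.obj F)) d i (by omega)).of_iso
        ((homologyFunctor _ i).mapIso (G.mapDerivedCategoryFactors.app F).symm)
    have h₂ : IsZero ((homologyFunctor _ (i + 1)).obj T₁.obj₁) :=
      (((HomologicalComplex.exactAt_iff_isZero_homology ((resCx W.ι).obj P) (i + 1)).1
        (ShortComplex.exact_of_isZero_X₂ (((resCx W.ι).obj P).sc (i + 1)) (G.map_isZero (hab (i + 1) (Or.inr (by omega)))))).of_iso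
          ((homologyFunctorFactors _ (i + 1)).app _))
    exact (DerivedCategory.HomologySequence.exact₃ T₁ hT₁ i (i + 1) rfl).isZero_of_both_zeros
      (h₁.eq_of_src _ _) (h₂.eq_of_tgt _ _)
  let w : (W : Scheme.{u}) := ⟨x, hxW⟩
  obtain ⟨T, hwT, hT⟩ := exists_nhd_HD_eq_zero hC w (c - 1) (max b d) hC' fun i hi => by
    haveI : Subsingleton ((DCK91.SP w).obj ((HomologicalComplex.homologyFunctor _ _ i).obj
      (CochainComplex.mappingCone γ))) := hγ i hi
    exact (((DCK91.SP w).mapIso ((homologyFunctorFactors _ i).app _)).toLinearEquiv).toEquiv.subsingleton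
  let H := Scheme.Modules.restrictFunctor T.ι
  let j : (T : Scheme.{u}) ⟶ X := T.ι ≫ W.ι
  have hPC : PCMap (c - 1) (H.mapDerivedCategory.map (Q.map γ)) := by
    refine (pcMap_iff_isLE (H.mapDerivedCategory.map_distinguished _ hT₁) (c - 1)).2 ?_
    rw [DerivedCategory.isLE_iff]
    exact fun i hi => (hT i (by omega)).of_iso (Mod48.nonempty_homology_mapDerivedCategory H C i).some
  let cE : ∀ K : CochainComplex X.Modules ℤ,
      H.mapDerivedCategory.obj (Q.obj ((resCx W.ι).obj K)) ≅ Q.obj ((resCx j).obj K) := fun K =>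
    H.mapDerivedCategoryFactors.app _ ≪≫ Q.mapIso ((resCompCx T.ι W.ι).app K)
  let J := Scheme.Modules.restrictFunctor j
  let β₁ : Q.obj ((resCx j).obj P) ⟶ Q.obj ((resCx j).obj E) :=
    J.mapDerivedCategoryFactors.inv.app P ≫ J.mapDerivedCategory.map α ≫ J.mapDerivedCategoryFactors.hom.app E
  let β₂ : Q.obj ((resCx j).obj P) ⟶ Q.obj ((resCx j).obj F) :=
    (cE P).inv ≫ H.mapDerivedCategory.map (Q.map γ) ≫ (cE F).hom
  have hβ₁ : PCMap (c - 1) β₁ := (PCMap.of_isIso _ _).comp ((hα.map J).comp (PCMap.of_isIso _ _))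
  have hβ₂ : PCMap (c - 1) β₂ := (PCMap.of_isIso _ _).comp (hPC.comp (PCMap.of_isIso _ _))
  have hge : ∀ K : CochainComplex X.Modules ℤ, (Q.obj K).IsGE c → (Q.obj ((resCx j).obj K)).IsGE c := fun K hK => by
    rw [DerivedCategory.isGE_iff]
    intro i hi
    exact ((J.map_isZero (DerivedCategory.isZero_of_isGE (Q.obj K) c i hi)).of_iso
      (Mod48.nonempty_homology_mapDerivedCategory J (Q.obj K) i).some).of_iso
        ((homologyFunctor _ i).mapIso (J.mapDerivedCategoryFactors.app K).symm)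
  obtain ⟨i₁⟩ := PerfFib24.nonempty_truncGE_iso β₁ c (hge E inferInstance) fun i hi => hβ₁.1 i (by omega)
  obtain ⟨i₂⟩ := PerfFib24.nonempty_truncGE_iso β₂ c (hge F inferInstance) fun i hi => hβ₂.1 i (by omega)
  exact ⟨T, j, inferInstance, ⟨⟨w, hwT⟩, rfl⟩, ⟨i₁.symm ≪≫ i₂⟩⟩

/-- Isomorphic stalks of bounded pseudo-coherent complexes give isomorphic restrictions. -/
theorem exists_restrict_iso (E F : CochainComplex X.Modules ℤ) {c d : ℤ}
    [(Q.obj E).IsGE c] [(Q.obj F).IsGE c] [(Q.obj F).IsLE d]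
    (hE : ∀ m : ℤ, DCoh.IsPseudoCoherentD m (Q.obj E)) (hF : ∀ m : ℤ, DCoh.IsPseudoCoherentD m (Q.obj F)) (x : X)
    (h : Nonempty (DRing.toD (((DCK91.SP x).mapHomologicalComplex (ComplexShape.up ℤ)).obj E) ≅
      DRing.toD (((DCK91.SP x).mapHomologicalComplex (ComplexShape.up ℤ)).obj F))) :
    ∃ U : X.Opens, x ∈ U ∧ Nonempty (Q.obj ((resCx U.ι).obj E) ≅ Q.obj ((resCx U.ι).obj F)) := by
  obtain ⟨V, hxV, P₀, α₀, hP₀, hα₀⟩ := (isPC_iff _ _).1 (hE (c - 1)) x
  let v : (V : Scheme.{u}) := ⟨x, hxV⟩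
  obtain ⟨W, hvW, hfree⟩ := exists_termFree hP₀ v
  let j := W.ι ≫ V.ι
  let HW := Scheme.Modules.restrictFunctor W.ι
  let GV := Scheme.Modules.restrictFunctor V.ι
  let J := Scheme.Modules.restrictFunctor j
  let P := (resCx W.ι).obj P₀
  let α : Q.obj P ⟶ Q.obj ((resCx j).obj E) :=
    HW.mapDerivedCategoryFactors.inv.app P₀ ≫ HW.mapDerivedCategory.map (α₀ ≫ GV.mapDerivedCategoryFactors.hom.app E) ≫
      HW.mapDerivedCategoryFactors.hom.app _ ≫ Q.map ((resCompCx W.ι V.ι).hom.app E)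
  have hα : PCMap (c - 1) α :=
    (PCMap.of_isIso _ _).comp (((hα₀.comp (PCMap.of_isIso _ _)).map HW).comp
      ((PCMap.of_isIso _ _).comp (PCMap.of_isIso _ _)))
  have hge : ∀ K : CochainComplex X.Modules ℤ, (Q.obj K).IsGE c → (Q.obj ((resCx j).obj K)).IsGE c := fun K hK => by
    rw [DerivedCategory.isGE_iff]
    intro i hi
    exact ((J.map_isZero (DerivedCategory.isZero_of_isGE (Q.obj K) c i hi)).of_iso
      (Mod48.nonempty_homology_mapDerivedCategory J (Q.obj K) i).some).of_iso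
        ((homologyFunctor _ i).mapIso (J.mapDerivedCategoryFactors.app K).symm)
  haveI := hge E inferInstance
  haveI := hge F inferInstance
  haveI : (Q.obj ((resCx j).obj F)).IsLE d := by
    haveI : (J.mapDerivedCategory.obj (Q.obj F)).IsLE d := isLE_map J inferInstance
    rw [DerivedCategory.isLE_iff]
    exact fun i hi => (DerivedCategory.isZero_of_isLE (J.mapDerivedCategory.obj (Q.obj F)) d i hi).of_iso
      ((homologyFunctor _ i).mapIso (J.mapDerivedCategoryFactors.app F).symm)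
  have hF' : ∀ m, DCoh.IsPseudoCoherentD m (Q.obj ((resCx j).obj F)) := fun m =>
    isPC_of_iso (HW.mapDerivedCategory.mapIso (GV.mapDerivedCategoryFactors.app F) ≪≫
      HW.mapDerivedCategoryFactors.app _ ≪≫ Q.mapIso ((resCompCx W.ι V.ι).app F))
      (isPC_restrict (isPC_restrict (hF m) V) W)
  let u₀ : (W : Scheme.{u}) := ⟨v, hvW⟩
  obtain ⟨U, k, hk, hxk, ⟨e⟩⟩ := exists_iso_of_approx (c := c) (d := d) P _ _ (isStrictlyPerfect_restrict hP₀ W.ι) hfree hF' α hα u₀
    (nonempty_stalk_resCx_iso j u₀ E F h)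
  haveI := hk
  obtain ⟨g, hg', hg⟩ := exists_opens_iso (k ≫ j)
  obtain ⟨u, hu⟩ := hxk
  refine ⟨(k ≫ j).opensRange, ⟨u, by change j (k u) = x; rw [hu]; rfl⟩, ⟨?_⟩⟩
  let Gg := Scheme.Modules.restrictFunctor g
  let t : ∀ K, Q.obj ((resCx (k ≫ j).opensRange.ι).obj K) ≅
      Gg.mapDerivedCategory.obj (Q.obj ((resCx k).obj ((resCx j).obj K))) := fun K =>
    Q.mapIso (((resCongrCx hg).app K).symm ≪≫ (resCompCx g (k ≫ j)).symm.app K ≪≫
      (resCx g).mapIso ((resCompCx k j).symm.app K)) ≪≫ (Gg.mapDerivedCategoryFactors.app _).symm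
  exact t E ≪≫ Gg.mapDerivedCategory.mapIso e ≪≫ (t F).symm

end Groth.Agent.RelPCSch41
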