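import Groth.Agent.RelPCSch41.Dev
import Groth.Agent.RelPCSch41.GenTerms
import Groth.Agent.IntMult12.CohTensorD
import Groth.Agent.DerComp18.TensorSingle
import Groth.Agent.PerfFib24.Tensor
import Groth.Agent.PerfAmp41.Main

/-!
Relative pseudo-coherence of a tensor product with a pseudo-coherent complex.
-/

set_option autoImplicit false
set_option backward.isDefEq.respectTransparency false
set_option linter.style.haveILetI false
set_option linter.unusedSectionVars false
set_option maxHeartbeats 1000000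

noncomputable section

universe u

open CategoryTheory Limits AlgebraicGeometry Pretriangulated
open Groth.Agent.DCX42
attribute [local instance] HasDerivedCategory.standard

namespace Groth.Agent.RelPCSch41

variable {Z S : Scheme.{u}}

/-- Tensoring with a fixed complex on the right. -/
abbrev tF (M : CochainComplex Z.Modules ℤ) : CochainComplex Z.Modules ℤ ⥤ CochainComplex Z.Modules ℤ :=
  IntMult12.tensF (X := Z) M

instance (M : CochainComplex Z.Modules ℤ) : (tF M).Additive :=
  Mod48.additive_tensorCx_flip_obj (O := Z.sheaf) M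

variable {M : CochainComplex Z.Modules ℤ} {d : ℤ} (hMd : ∀ i, d < i → IsZero (M.X i))
  (hMf : ∀ i, FlatMod.IsFlat (M.X i))

include hMd hMf in
theorem isKFlat_of_le : ModSite.IsKFlat (O := Z.sheaf) M := (DCK91.kff_of_le M d hMd hMf).1

include hMd hMf in
/-- A bound on the tensor product. -/
theorem isLE_tF {C : CochainComplex Z.Modules ℤ} {e : ℤ} (h : (DerivedCategory.Q.obj C).IsLE e) :
    (DerivedCategory.Q.obj ((tF M).obj C)).IsLE (e + d) := by
  haveI : C.IsLE e := (DerivedCategory.isLE_Q_obj_iff _ _).1 h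
  haveI : QuasiIso ((tF M).map (C.ιTruncLE e)) :=
    DCK91.quasiIso_right (O := Z.sheaf) M (isKFlat_of_le hMd hMf) _ inferInstance
  haveI : ((tF M).obj (C.truncLE e)).IsStrictlyLE (e + d) := (CochainComplex.isStrictlyLE_iff _ _).2 fun i hi =>
    IntMult12.isZero_tensF (X := Z) M d hMd (C.truncLE e) e i (by omega)
  haveI : ((tF M).obj (C.truncLE e)).IsLE (e + d) := inferInstance
  haveI : DerivedCategory.TStructure.t.IsLE (DerivedCategory.Q.obj ((tF M).obj (C.truncLE e))) (e + d) :=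
    (DerivedCategory.isLE_Q_obj_iff _ _).2 inferInstance
  exact DerivedCategory.TStructure.t.isLE_of_iso (asIso (DerivedCategory.Q.map ((tF M).map (C.ιTruncLE e)))) _

include hMf in
theorem shortExact_tF {S' : ShortComplex (CochainComplex Z.Modules ℤ)} (hS : S'.ShortExact) :
    (S'.map (tF M)).ShortExact :=
  Mod48.shortExact_map_tensorCx_flip_obj (O := Z.sheaf) M S' fun p q =>
    haveI := (DCK91.isFlat_of_flatMod _ (hMf q)).1
    haveI := (DCK91.isFlat_of_flatMod _ (hMf q)).2
    (hS.map_of_exact (HomologicalComplex.eval Z.Modules (ComplexShape.up ℤ) p)).map_of_exact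
      ((ModSite.tensorBi Z.sheaf).flip.obj (M.X q))

variable {g : Z ⟶ S} [LocallyOfFiniteType g]

/-- The single term. -/
theorem rel_single_free (M : CochainComplex Z.Modules ℤ) {c m i : ℤ}
    (hM : DerSch.IsPseudoCoherentRel g c (DerivedCategory.Q.obj M)) (hi : c + i ≤ m) (k : ℕ) :
    DerSch.IsPseudoCoherentRel g m
      (DerivedCategory.Q.obj ((tF M).obj
        ((HomologicalComplex.single Z.Modules (ComplexShape.up ℤ) i).obj (FlatMod.freeMod Z k)))) := by
  let W : Z.Modules ⥤ DCoh.D Z :=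
    HomologicalComplex.single Z.Modules (ComplexShape.up ℤ) i ⋙ tF M ⋙ DerivedCategory.Q
  haveI : W.Additive := inferInstance
  have h1 : DerSch.IsPseudoCoherentRel g m (W.obj (Coh.structureModule Z)) := by
    let e : ((DCoh.tensorBi (X := Z)).obj (Coh.structureModule Z)) ≅ 𝟭 Z.Modules := Mod48.tensUnit (O := Z.sheaf)
    let e' : (CategoryTheory.shiftFunctor _ (-i)).obj M ≅
        (tF M).obj ((HomologicalComplex.single Z.Modules (ComplexShape.up ℤ) i).obj (Coh.structureModule Z)) :=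
      (CategoryTheory.shiftFunctor _ (-i)).mapIso
          (((Functor.mapHomologicalComplexIdIso Z.Modules (ComplexShape.up ℤ)).app M).symm ≪≫
            ((NatIso.mapHomologicalComplex e (ComplexShape.up ℤ)).app M).symm) ≪≫
        DerComp18.tcLIso (O := Z.sheaf) (Coh.structureModule Z) i M
    exact rel_mono (by omega) (rel_congr ((DerivedCategory.Q.commShiftIso (-i)).app M).symm
      (rel_shift hM (-i)) |> rel_congr (DerivedCategory.Q.mapIso e'))
  induction k with
  | zero =>
    refine rel_of_isLE ((DerivedCategory.isLE_iff _ _).2 fun j _ => ?_)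
    refine (W ⋙ DerivedCategory.homologyFunctor Z.Modules j).map_isZero ?_
    exact (IsZero.iff_id_eq_zero _).2 (Sigma.hom_ext _ _ fun x => x.elim0)
  | succ k ih =>
    have h1' : DerSch.IsPseudoCoherentRel g m (W.obj (FlatMod.freeMod Z 1)) :=
      rel_congr (W.mapIso (coproductUniqueIso (fun _ : Fin 1 => Coh.structureModule Z)).symm) h1
    haveI := preservesBinaryBiproducts_of_preservesBiproducts W
    refine rel_congr ((W.mapBiprod (FlatMod.freeMod Z k) (FlatMod.freeMod Z 1)).symm ≪≫ W.mapIso (freeSum k 1)) ?_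
    exact rel₂ _ (binaryBiproductTriangle_distinguished _ _) ih h1'

include hMd hMf in
/-- The tensor product with a complex having a free approximation. -/
theorem rel_tF_of_approx {c a b : ℤ} (hM : DerSch.IsPseudoCoherentRel g c (DerivedCategory.Q.obj M))
    {G C : CochainComplex Z.Modules ℤ} (hfree : IsTermFree G) (hG : ∃ lo, ∀ i, i < lo → IsZero (G.X i))
    (hGb : ∀ i, b < i → IsZero (G.X i)) (γ : G ⟶ C) (hγ : PCMap a (DerivedCategory.Q.map γ)) {m : ℤ}
    (hm : a + d ≤ m) (hm' : c + b ≤ m) :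
    DerSch.IsPseudoCoherentRel g m (DerivedCategory.Q.obj ((tF M).obj C)) := by
  obtain ⟨lo, hlo⟩ := hG
  obtain ⟨K, T', hT', hK, ⟨e₁⟩, ⟨e₂⟩, ⟨e₃⟩⟩ :=
    exists_cone_triangle (tF M) (fun _ h => shortExact_tF hMf h) γ hγ
  refine rel_congr e₁ (rel₁ T' hT' (rel_congr e₂.symm (rel_of_isLE ?_)) (rel_congr e₃.symm ?_))
  · haveI := isLE_tF hMd hMf hK
    exact DerivedCategory.TStructure.t.isLE_of_le _ (a - 1 + d) (m - 1) (by omega)
  · refine genTerms (tF M) (fun _ h => shortExact_tF hMf h)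
      (fun L => DerSch.IsPseudoCoherentRel g (m - 1) L)
      (fun L hL => rel_of_isLE ((DerivedCategory.isLE_iff _ _).2 fun j _ =>
        (DerivedCategory.homologyFunctor Z.Modules j).map_isZero hL))
      (fun T hT h h' => rel₂ T hT h h') (fun N => ∃ k : ℕ, Nonempty (N ≅ FlatMod.freeMod Z k))
      (fun _ _ e h => h.elim fun k he => he.elim fun e' => ⟨k, ⟨e.symm ≪≫ e'⟩⟩)
      (fun _ hN => ⟨0, ⟨hN.iso ((IsZero.iff_id_eq_zero _).2 (Sigma.hom_ext _ _ fun x => x.elim0))⟩⟩)
      (b₀ := b - 1) ?_ ((b - lo).toNat + 1) _ (lo - 1) (b - 1) (by omega) le_rfl ?_ ?_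
    · rintro i hi N ⟨k, ⟨e⟩⟩
      exact rel_congr (DerivedCategory.Q.mapIso ((tF M).mapIso
        ((HomologicalComplex.single Z.Modules (ComplexShape.up ℤ) i).mapIso e.symm)))
        (rel_single_free M hM (by omega) k)
    · intro i
      exact hfree (i + 1)
    · intro i hi
      rcases hi with hi | hi
      · exact hlo (i + 1) (by omega)
      · exact hGb (i + 1) (by omega)

/-- A free approximation near a point. -/
theorem exists_free_approx {C : CochainComplex Z.Modules ℤ} {a b : ℤ}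
    (hC : DCoh.IsPseudoCoherentD a (DerivedCategory.Q.obj C)) (hb : (DerivedCategory.Q.obj C).IsLE b) (hab : a ≤ b)
    (x : Z) : ∃ (U : Scheme.{u}) (j : U ⟶ Z) (_ : IsOpenImmersion j) (G : CochainComplex U.Modules ℤ)
      (γ : G ⟶ (resCx j).obj C), x ∈ Set.range j.base ∧ IsTermFree G ∧ (∃ lo, ∀ i, i < lo → IsZero (G.X i)) ∧
      (∀ i, b < i → IsZero (G.X i)) ∧ PCMap a (DerivedCategory.Q.map γ) := by
  rw [DCX42.isPC_iff] at hC
  obtain ⟨V, hx, E, α, hE, hα⟩ := hC x
  let α' : DerivedCategory.Q.obj E ⟶ DerivedCategory.Q.obj ((resCx V.ι).obj C) := α ≫ (resQ V.ι C).hom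
  obtain ⟨W, β, hxW, -, hpcβ⟩ := PerfAmp41.exists_rep_map hE α' ⟨x, hx⟩
  have hβ := hpcβ _ (hα.comp (PCMap.of_isIso _ _))
  let E₁ := (resCx W.ι).obj E
  let C₁ := (resCx W.ι).obj ((resCx V.ι).obj C)
  have hex : ∀ i, b < i → E₁.ExactAt i := fun i hi => by
    have := ((pcMap_Q_iff β a).1 hβ).1 i (by omega)
    refine (E₁.exactAt_iff_isZero_homology i).2 (IsZero.of_iso ?_ (asIso (HomologicalComplex.homologyMap β i)))
    exact (C₁.exactAt_iff_isZero_homology i).1 (exactAt_resCx W.ι (exactAt_resCx V.ι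
      ((HomologicalComplex.exactAt_iff_isZero_homology _ _).2
        ((DerivedCategory.isZero_of_isLE _ b i hi).of_iso ((DerivedCategory.homologyFunctorFactors _ i).app C).symm))))
  obtain ⟨T, j₁, _, hxT, hcyc⟩ := PerfAmp41.exists_cycles_free (isStrictlyPerfect_restrict hE W.ι) b hex ⟨⟨x, hx⟩, hxW⟩
  obtain ⟨t, ht⟩ := hxT
  let E₂ := (resCx j₁).obj E₁
  haveI : E₂.IsLE b := (CochainComplex.isLE_iff _ _).2 fun i hi => exactAt_resCx j₁ (hex i hi)
  have hE₃ := PerfAmp41.isStrictlyPerfect_truncLE (isStrictlyPerfect_restrict (isStrictlyPerfect_restrict hE W.ι) j₁) b hcyc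
  obtain ⟨A, htA, hfree⟩ := exists_termFree hE₃ t
  let j := A.ι ≫ j₁ ≫ W.ι ≫ V.ι
  let γ₀ := (resCx A.ι).map (E₂.ιTruncLE b ≫ (resCx j₁).map β)
  let ec : (resCx A.ι).obj ((resCx j₁).obj C₁) ≅ (resCx j).obj C :=
    (resCx A.ι).mapIso ((resCx j₁).mapIso ((resCompCx W.ι V.ι).app C) ≪≫ (resCompCx j₁ (W.ι ≫ V.ι)).app C) ≪≫
      (resCompCx A.ι (j₁ ≫ W.ι ≫ V.ι)).app C
  obtain ⟨⟨lo, hi', hvan⟩, -⟩ := hE₃
  refine ⟨_, j, inferInstance, (resCx A.ι).obj (E₂.truncLE b), γ₀ ≫ ec.hom, ?_, hfree, ⟨lo, fun i hi => ?_⟩,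
    fun i hi => ?_, ?_⟩
  · refine ⟨⟨t, htA⟩, ?_⟩
    simp only [j, Scheme.Hom.comp_base, TopCat.comp_app]
    show V.ι (W.ι (j₁ t)) = x
    rw [ht]
    rfl
  · exact (Scheme.Modules.restrictFunctor A.ι).map_isZero (hvan i (Or.inl hi))
  · exact (Scheme.Modules.restrictFunctor A.ι).map_isZero
      (CochainComplex.isZero_of_isStrictlyLE (E₂.truncLE b) b i hi)
  · have hmap : ∀ {U T : Scheme.{u}} (k : U ⟶ T) [IsOpenImmersion k] {P Q : CochainComplex T.Modules ℤ}
        (φ : P ⟶ Q), PCMap a (DerivedCategory.Q.map φ) → PCMap a (DerivedCategory.Q.map ((resCx k).map φ)) := by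
      intro U T k _ P Q φ h
      have e : DerivedCategory.Q.map ((resCx k).map φ) =
          (resQ k P).inv ≫ (resD k).map (DerivedCategory.Q.map φ) ≫ (resQ k Q).hom := by
        rw [Iso.eq_inv_comp]
        exact ((Scheme.Modules.restrictFunctor k).mapDerivedCategoryFactors.hom.naturality φ).symm
      rw [e]
      exact (PCMap.of_isIso _ _).comp ((h.map _).comp (PCMap.of_isIso _ _))
    rw [Functor.map_comp]
    refine (hmap A.ι _ ?_).comp (PCMap.of_isIso _ _)
    rw [Functor.map_comp]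
    exact (PCMap.of_isIso _ _).comp (hmap j₁ _ hβ)

/-- Restriction of a tensor product of complexes. -/
theorem nonempty_res_tF {U : Scheme.{u}} (j : U ⟶ Z) [IsOpenImmersion j] (C M : CochainComplex Z.Modules ℤ) :
    Nonempty ((resCx j).obj ((tF M).obj C) ≅ (tF ((resCx j).obj M)).obj ((resCx j).obj C)) := by
  obtain ⟨e⟩ := DCK91.nonempty_pullTotIso j C M
  let r := PerfFib24.resCxIsoPull j
  exact ⟨r.app _ ≪≫ e.symm ≪≫ ((DCoh.tensorCx (X := U)).obj _).mapIso (r.app M).symm ≪≫
    ((DCoh.tensorCx (X := U)).mapIso (r.app C).symm).app _⟩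

include hMd hMf in
/-- Tensoring a relatively pseudo-coherent complex with a pseudo-coherent one. -/
theorem rel_tF {c a b : ℤ} (hM : DerSch.IsPseudoCoherentRel g c (DerivedCategory.Q.obj M))
    {C : CochainComplex Z.Modules ℤ} (hC : DCoh.IsPseudoCoherentD a (DerivedCategory.Q.obj C))
    (hb : (DerivedCategory.Q.obj C).IsLE b) {m : ℤ} (hm : a + d ≤ m) (hm' : c + b ≤ m) :
    DerSch.IsPseudoCoherentRel g m (DerivedCategory.Q.obj ((tF M).obj C)) := by
  by_cases hab : a ≤ b
  swap
  · haveI := isLE_tF hMd hMf hb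
    exact rel_of_isLE (DerivedCategory.TStructure.t.isLE_of_le _ (b + d) (m - 1) (by omega))
  refine rel_of_local fun x => ?_
  obtain ⟨U, j, _, G, γ, hx, hfree, hlo, hGb, hγ⟩ := exists_free_approx hC hb hab x
  obtain ⟨e⟩ := nonempty_res_tF j C M
  exact ⟨U, j, inferInstance, hx, rel_congr (DerivedCategory.Q.mapIso e.symm ≪≫ (resQ j _).symm)
    (rel_tF_of_approx (M := (resCx j).obj M) (fun i hi => (Scheme.Modules.restrictFunctor j).map_isZero (hMd i hi))
      (fun i => PerfAmp41.isFlat_restrict j (hMf i)) (rel_congr (resQ j M) (rel_resD j hM)) hfree hlo hGb γ hγ hm hm')⟩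

end Groth.Agent.RelPCSch41
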